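import Cfsg.Agent.Lib.Blk7.SelfCentralSmallDegree
import Cfsg.Agent.Lib.Characters.NormalRes
import Cfsg.Agent.Lib.Characters.Galois
import Cfsg.Agent.Lib.Characters.ItoMichlerPSolvable
import Cfsg.Agent.Lib.Chars17.IrrBasic

/-!
The arithmetic of Brauer's bound on faithful degrees: an irreducible character of degree less
than `(p - 1) / 2` whose square modulus has only constituents with few fixed points of an element
of order `p` is linear; and the reduction of faithful characters to the normal closure.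
-/

set_option autoImplicit false
set_option linter.unusedSectionVars false
set_option linter.style.haveILetI false

noncomputable section

namespace CfsgLib.HalfDegree

open Cfsg CfsgLib.Characters
open scoped ComplexConjugate

universe u

variable {G : Type u} [Group G] [Fintype G] {p : ℕ} [hp : Fact p.Prime] {x : G}

open SelfCentralPrime in
/-- An irreducible character of degree less than `(p - 1) / 2` is linear, given the inequality
between fixed points and degrees for the constituents of its square modulus. -/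
theorem degree_eq_one (hx : orderOf x = p)
    (hker : ∀ ξ : IrrCharacter G, (ξ : G → ℂ) x = (ξ : G → ℂ) 1 → ξ = principalIrr G)
    (ψ : IrrCharacter G) (hd : 2 * charDegree (ψ : G → ℂ) + 1 < p)
    (hn : ∀ ξ : IrrCharacter G,
      classInner (fun g => (ψ : G → ℂ) g * conj ((ψ : G → ℂ) g)) (ξ : G → ℂ) ≠ 0 →
      (ξ : G → ℂ) x ≠ (ξ : G → ℂ) 1 → ∀ n0 : ℕ,
        (∑ i : ZMod p, (ξ : G → ℂ) (pw x i)) = (p : ℂ) * (n0 : ℂ) →
          n0 * (p + 1) ≤ 2 * charDegree (ξ : G → ℂ)) :
    charDegree (ψ : G → ℂ) = 1 := by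
  classical
  set d := charDegree (ψ : G → ℂ)
  set X : G → ℂ := fun g => (ψ : G → ℂ) g * conj ((ψ : G → ℂ) g) with hX
  have hXc : IsCharacter G X :=
    isCharacter_mul (irr_isCharacter ψ) (isCharacter_conj (irr_isCharacter ψ))
  choose m hm using fun ξ : IrrCharacter G => classInner_char_nat hXc (irr_isCharacter ξ)
  have hexp : ∀ g, X g = ∑ ξ : IrrCharacter G, (m ξ : ℂ) * (ξ : G → ℂ) g := by
    intro g
    conv_lhs => rw [classFunction_eq_sum (isClassFunction_of_isCharacter hXc)]
    simp [hm]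
  have hm1 : m (principalIrr G) = 1 := by
    have h : classInner X (principalIrr G : G → ℂ) = 1 := by
      rw [← classInner_irr_self ψ.2]
      simp [classInner, hX, principalIrr]
    rw [hm] at h
    exact_mod_cast h
  choose n hnF hndeg hnker using fun ξ : IrrCharacter G => exists_mult hx ξ
  have hn0 : ∀ ξ : IrrCharacter G, ∑ i : ZMod p, (ξ : G → ℂ) (pw x i) = (p : ℂ) * (n ξ 0 : ℂ) := by
    intro ξ
    rw [← hnF ξ 0]
    refine Finset.sum_congr rfl fun i _ => ?_
    rw [neg_zero, mul_zero, AddChar.map_zero_eq_one, mul_one]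
  have hd1 : ((ψ : G → ℂ) 1) = (d : ℂ) := by
    obtain ⟨k, hk, -, -⟩ := irr_degree_dvd_card ψ
    rw [show d = k from CfsgLib.LinearTwist.charDegree_eq_of_apply_one hk, hk]
  -- the fixed points on the square modulus
  have hU : ∃ U : ℕ, d ≤ U ∧ ∑ i : ZMod p, X (pw x i) = (p : ℂ) * (U : ℂ) := by
    obtain ⟨_, d', ρ, hρ, rfl⟩ := ψ
    obtain ⟨b, ω, hω, hb⟩ := exists_eigenbasis ρ x
    have hex : ∀ l, ∃ i : ZMod p, ω l = ZMod.stdAddChar i := by
      intro l
      have hprim := Complex.isPrimitiveRoot_exp p hp.out.ne_zero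
      obtain ⟨i, -, hi⟩ := hprim.eq_pow_of_pow_eq_one (hx ▸ hω l)
      refine ⟨((i : ℤ) : ZMod p), ?_⟩
      rw [ZMod.stdAddChar_coe, ← hi, ← Complex.exp_nat_mul]
      congr 1
      push_cast
      ring
    choose j hj using hex
    have hb' : ∀ l, ρ x (b l) = ZMod.stdAddChar (j l) • b l := fun l => by
      rw [← hj]; exact hb l
    refine ⟨(Finset.univ.filter fun q : _ × _ => j q.1 = j q.2).card, ?_, ?_⟩
    · have hfin : d = Module.finrank ℂ (Fin d' → ℂ) := by
        refine CfsgLib.LinearTwist.charDegree_eq_of_apply_one (χ := ρ.character) ?_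
        rw [Representation.char_one]
      rw [hfin]
      calc Module.finrank ℂ (Fin d' → ℂ)
          = (Finset.univ : Finset (Fin (Module.finrank ℂ (Fin d' → ℂ)))).card := by simp
        _ ≤ _ := Finset.card_le_card_of_injOn (fun l => (l, l)) (fun l _ => by simp)
            (fun a _ b _ h => congrArg Prod.fst h)
    · have hv : ∀ i : ZMod p, ρ.character (pw x i) = ∑ l, ZMod.stdAddChar (i * j l) := fun i =>
        character_eq_sum_of_eigenbasis ρ _ b _ (rho_pw hx ρ b j hb' i)
      simp only [hX, hv, map_sum, Finset.sum_mul_sum, conj_std, ← AddChar.map_add_eq_mul,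
        ← sub_eq_add_neg, ← mul_sub]
      rw [Finset.sum_comm, Finset.sum_congr rfl fun l _ => Finset.sum_comm]
      simp only [sum_std, sub_eq_zero]
      rw [← Fintype.sum_prod_type', ← Finset.sum_filter, Finset.sum_const, nsmul_eq_mul, mul_comm]
  obtain ⟨U, hdU, hUsum⟩ := hU
  have hUeq : U = ∑ ξ, m ξ * n ξ 0 := by
    have h : (p : ℂ) * (U : ℂ) = (p : ℂ) * ∑ ξ : IrrCharacter G, (m ξ : ℂ) * (n ξ 0 : ℂ) := by
      rw [← hUsum, Finset.mul_sum]
      simp only [hexp]
      rw [Finset.sum_comm]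
      refine Finset.sum_congr rfl fun ξ _ => ?_
      rw [← Finset.mul_sum, hn0]
      ring
    exact_mod_cast mul_left_cancel₀ (Nat.cast_ne_zero.2 hp.out.ne_zero) h
  have hdd : d * d = ∑ ξ, m ξ * charDegree (ξ : G → ℂ) := by
    choose k hk hk0 _hkd using fun ξ : IrrCharacter G => irr_degree_dvd_card ξ
    simp only [fun ξ : IrrCharacter G => CfsgLib.LinearTwist.charDegree_eq_of_apply_one (hk ξ)]
    have h := hexp 1
    simp only [hX, Complex.conj_natCast, hk] at h
    rw [show d = k ψ from CfsgLib.LinearTwist.charDegree_eq_of_apply_one (hk ψ)]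
    exact_mod_cast h
  have hone : n (principalIrr G) 0 = 1 ∧ charDegree (principalIrr G : G → ℂ) = 1 := by
    constructor
    · have h := hn0 (principalIrr G)
      simp only [principalIrr_apply, Finset.sum_const, Finset.card_univ, ZMod.card, nsmul_eq_mul,
        mul_one] at h
      have h' : (p : ℂ) * (1 : ℕ) = (p : ℂ) * (n (principalIrr G) 0 : ℂ) := by
        rw [Nat.cast_one, mul_one]; exact h
      exact_mod_cast (mul_left_cancel₀ (Nat.cast_ne_zero.2 hp.out.ne_zero) h').symm
    · exact CfsgLib.LinearTwist.charDegree_eq_of_apply_one (by simp)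
  rw [← Finset.add_sum_erase _ _ (Finset.mem_univ (principalIrr G)), hm1, hone.1, one_mul] at hUeq
  rw [← Finset.add_sum_erase _ _ (Finset.mem_univ (principalIrr G)), hm1, hone.2, one_mul] at hdd
  have hle : (∑ ξ ∈ Finset.univ.erase (principalIrr G), m ξ * n ξ 0) * (p + 1) ≤
      2 * ∑ ξ ∈ Finset.univ.erase (principalIrr G), m ξ * charDegree (ξ : G → ℂ) := by
    rw [Finset.sum_mul, Finset.mul_sum]
    refine Finset.sum_le_sum fun ξ hξ => ?_
    rcases Nat.eq_zero_or_pos (m ξ) with h0 | hpos
    · simp [h0]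
    have h := hn ξ (by rw [hm]; exact_mod_cast hpos.ne')
      (fun h => (Finset.mem_erase.1 hξ).1 (hker ξ h)) (n ξ 0) (hn0 ξ)
    rw [mul_assoc, mul_left_comm 2]
    exact Nat.mul_le_mul_left _ h
  have hdpos : 0 < d := by
    have := irr_one_ne_zero ψ
    rw [hd1] at this
    exact Nat.pos_of_ne_zero (Nat.cast_ne_zero.1 this)
  by_contra hne
  set A := ∑ ξ ∈ Finset.univ.erase (principalIrr G), m ξ * n ξ 0
  set B := ∑ ξ ∈ Finset.univ.erase (principalIrr G), m ξ * charDegree (ξ : G → ℂ)
  have hA : (d : ℤ) - 1 ≤ A := by omega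
  have hB : (B : ℤ) = d * d - 1 := by
    have : (d : ℤ) * d = 1 + B := by exact_mod_cast hdd
    linarith
  have hle' : (A : ℤ) * (p + 1) ≤ 2 * B := by exact_mod_cast hle
  have hd' : (2 : ℤ) * d + 3 ≤ p + 1 := by omega
  have h2 : (2 : ℤ) ≤ d := by omega
  nlinarith [mul_le_mul_of_nonneg_right hA (by positivity : (0 : ℤ) ≤ (p : ℤ) + 1),
    mul_le_mul_of_nonneg_left hd' (by omega : (0 : ℤ) ≤ (d : ℤ) - 1)]

/-- Without a normal subgroup of order `p` a faithful character of degree less than `(p - 1) / 2`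
does not exist, if in every normal subgroup generated by the conjugates of an element of order `p`
the characters of degree less than `(p - 1) / 2` are linear. -/
theorem faithful_degree {H : Type u} [Group H] [Finite H] (hdiv : p ∣ Nat.card H)
    (hsq : ¬ p ^ 2 ∣ Nat.card H) (hnn : ∀ L : Subgroup H, L.Normal → Nat.card L ≠ p)
    (χ : H → ℂ) (hχ : IsCharacter H χ) (hfaith : ∀ g : H, χ g = χ 1 → g = 1)
    (key : ∀ (K : Type u) [Group K] [Fintype K] (y : K), orderOf y = p → ¬ p ^ 2 ∣ Nat.card K →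
      (∀ ξ : IrrCharacter K, (ξ : K → ℂ) y = (ξ : K → ℂ) 1 → ξ = principalIrr K) →
      ∀ ψ : IrrCharacter K, 2 * charDegree (ψ : K → ℂ) + 1 < p → charDegree (ψ : K → ℂ) = 1) :
    p ≤ 2 * charDegree χ + 1 := by
  classical
  haveI := Fintype.ofFinite H
  by_contra hlt
  push Not at hlt
  obtain ⟨y, hy⟩ := exists_prime_orderOf_dvd_card' p hdiv
  set K := Subgroup.normalClosure ({y} : Set H) with hK
  have hyK : y ∈ K := Subgroup.subset_normalClosure rfl
  have hKn : K.Normal := inferInstance
  set y' : K := ⟨y, hyK⟩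
  have hy' : orderOf y' = p := by rw [← Subgroup.orderOf_coe]; exact hy
  have hsqK : ¬ p ^ 2 ∣ Nat.card K := fun h => hsq (h.trans (Subgroup.card_subgroup_dvd_card K))
  -- a kernel of `K` containing `y` is everything
  have hkey : ∀ L : Subgroup K, L.Normal → y' ∈ L → L = ⊤ := by
    intro L hL hyL
    -- every conjugate of `y` lies in `L`, by Sylow
    have hconj : ∀ g : H, (⟨g * y * g⁻¹, hKn.conj_mem y hyK g⟩ : K) ∈ L := by
      intro g
      haveI := hp
      have hpg : ∀ z : K, orderOf z = p → IsPGroup p (Subgroup.zpowers z) := fun z hz =>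
        IsPGroup.of_card (n := 1) (by rw [Nat.card_zpowers, hz, pow_one])
      have hgy : orderOf (⟨g * y * g⁻¹, hKn.conj_mem y hyK g⟩ : K) = p := by
        rw [← Subgroup.orderOf_coe]
        exact (orderOf_injective (MulAut.conj g).toMonoidHom (MulAut.conj g).injective y).trans hy
      obtain ⟨P, hP⟩ := (hpg y' hy').exists_le_sylow
      obtain ⟨Q, hQ⟩ := (hpg _ hgy).exists_le_sylow
      obtain ⟨k, hk⟩ := MulAction.exists_smul_eq K P Q
      have hPe : Subgroup.zpowers y' = P := by
        refine Subgroup.eq_of_le_of_card_ge hP ?_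
        obtain ⟨j, hj⟩ := IsPGroup.iff_card.1 P.isPGroup'
        rw [hj, Nat.card_zpowers, hy']
        have : j ≤ 1 := by
          by_contra hj2
          exact hsqK ((pow_dvd_pow p (by omega : 2 ≤ j)).trans
            (hj ▸ Subgroup.card_subgroup_dvd_card _))
        exact (Nat.pow_le_pow_right hp.out.pos this).trans (pow_one p).le
      have hin := hQ (Subgroup.mem_zpowers _)
      rw [← hk, Sylow.coe_subgroup_smul, ← hPe] at hin
      obtain ⟨w, hw, hwe⟩ := hin
      rw [← hwe]
      exact hL.conj_mem w (Subgroup.zpowers_le.2 hyL hw) k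
    have hsub : K ≤ L.map K.subtype := by
      refine (Subgroup.closure_le _).2 ?_
      intro z hz
      obtain ⟨a, ha, hza⟩ := Group.mem_conjugatesOfSet_iff.1 hz
      rw [Set.mem_singleton_iff.1 ha] at hza
      obtain ⟨g, hg⟩ := isConj_iff.1 hza
      exact ⟨⟨g * y * g⁻¹, hKn.conj_mem y hyK g⟩, hconj g, hg⟩
    rw [eq_top_iff]
    intro z _
    obtain ⟨w, hw, hwz⟩ := hsub z.2
    rwa [← Subtype.ext hwz]
  have hker : ∀ ξ : IrrCharacter K, (ξ : K → ℂ) y' = (ξ : K → ℂ) 1 → ξ = principalIrr K := by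
    intro ξ hξ
    exact Subtype.ext ((Chars17.irrKer_eq_top_iff ξ).1
      (hkey _ (Chars17.irrKer_normal ξ) (Chars17.mem_irrKer.2 hξ)))
  -- all constituents are linear
  have hres : IsCharacter K (fun k : K => χ k) := NormalRes.isCharacter_res K hχ
  choose μ hμ using fun ξ : IrrCharacter K => classInner_char_nat hres (irr_isCharacter ξ)
  have hexp : ∀ k : K, χ k = ∑ ξ : IrrCharacter K, (μ ξ : ℂ) * (ξ : K → ℂ) k := by
    intro k
    refine (congrFun (classFunction_eq_sum (isClassFunction_of_isCharacter hres)) k).trans ?_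
    simp [hμ]
  obtain ⟨d, hd⟩ := exists_degree hχ
  choose dd hdd hdd0 _hdvd using fun ξ : IrrCharacter K => irr_degree_dvd_card ξ
  have hsum : d = ∑ ξ, μ ξ * dd ξ := by
    have h := hexp 1
    simp only [OneMemClass.coe_one, hd, hdd] at h
    exact_mod_cast h
  have hlin : ∀ ξ : IrrCharacter K, μ ξ ≠ 0 → charDegree (ξ : K → ℂ) = 1 := by
    intro ξ hξ
    refine key K y' hy' hsqK hker ξ ?_
    rw [CfsgLib.LinearTwist.charDegree_eq_of_apply_one (hdd ξ)]
    rw [CfsgLib.LinearTwist.charDegree_eq_of_apply_one hd] at hlt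
    have : μ ξ * dd ξ ≤ d :=
      hsum ▸ Finset.single_le_sum (fun η _ => Nat.zero_le (μ η * dd η)) (Finset.mem_univ ξ)
    have : dd ξ ≤ μ ξ * dd ξ := Nat.le_mul_of_pos_left _ (Nat.pos_of_ne_zero hξ)
    omega
  -- so `K` is abelian
  have hab : ∀ a b : K, a * b = b * a := by
    intro a b
    have h : χ ((a * b * a⁻¹ * b⁻¹ : K) : H) = χ 1 := by
      have e1 := hexp (a * b * a⁻¹ * b⁻¹)
      have e2 := hexp 1
      rw [OneMemClass.coe_one] at e2
      rw [e1, e2]
      refine Finset.sum_congr rfl fun ξ _ => ?_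
      by_cases hξ : μ ξ = 0
      · simp [hξ]
      have hd1 : (ξ : K → ℂ) 1 = 1 := by
        obtain ⟨k, hk, -, -⟩ := irr_degree_dvd_card ξ
        have := hlin ξ hξ
        rw [CfsgLib.LinearTwist.charDegree_eq_of_apply_one hk] at this
        rw [hk, this, Nat.cast_one]
      obtain ⟨f, hf⟩ := CfsgLib.LinearExt.exists_unitsHom (irr_isCharacter ξ) hd1
      rw [hf]
      simp [mul_comm, mul_left_comm]
    have h1 : a * b * a⁻¹ * b⁻¹ = 1 := Subtype.ext (hfaith _ h)
    exact commutatorElement_eq_one_iff_mul_comm.1 h1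
  -- and has order `p`
  have hZ : Subgroup.zpowers y' = ⊤ := by
    haveI : (Subgroup.zpowers y').Normal := ⟨fun a ha g => by rwa [hab g a, mul_inv_cancel_right]⟩
    exact hkey _ inferInstance (Subgroup.mem_zpowers _)
  refine hnn K hKn ?_
  have h1 : Nat.card K = Nat.card (Subgroup.zpowers y') := by rw [hZ, Subgroup.card_top]
  rw [h1, Nat.card_zpowers, hy']

end CfsgLib.HalfDegree
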