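import Cfsg.Agent.Lib.Blk7.ConjExponents
import Cfsg.Agent.Lib.Blocks12.Basic
import Cfsg.Agent.Lib.Blocks.CentralChar
import Cfsg.Agent.Lib.Characters.Values

/-!
Sums over `p`-conjugate irreducible characters.
-/

set_option autoImplicit false
set_option linter.unusedSectionVars false
set_option linter.style.haveILetI false
set_option maxHeartbeats 1000000

noncomputable section

namespace CfsgLib.PConj

open Cfsg CfsgLib.Characters
open scoped ComplexConjugate

universe u

variable {G : Type u} [Group G]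

/-- The primitive root of unity of order the `p'`-part of the group order. -/
def rootQ (G : Type u) (p : ℕ) : ℂ :=
  Complex.exp (2 * Real.pi * Complex.I / ((Nat.card G / p ^ (Nat.card G).factorization p) : ℕ))

/-- `p`-conjugacy. -/
def Conj (p : ℕ) (χ ψ : IrrCharacter G) : Prop :=
  ∃ σ : ℂ ≃+* ℂ, σ (rootQ G p) = rootQ G p ∧ (ψ : G → ℂ) = fun g => σ ((χ : G → ℂ) g)

variable [Finite G]

theorem q_pos (p : ℕ) : 0 < Nat.card G / p ^ (Nat.card G).factorization p :=
  Nat.ordCompl_pos p Nat.card_pos.ne'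

theorem card_eq_mul (p : ℕ) : Nat.card G = p ^ (Nat.card G).factorization p *
    (Nat.card G / p ^ (Nat.card G).factorization p) :=
  (Nat.ordProj_mul_ordCompl_eq_self _ p).symm

theorem rootQ_eq_pow (p : ℕ) :
    rootQ G p = Complex.exp (2 * Real.pi * Complex.I / Nat.card G) ^
      p ^ (Nat.card G).factorization p := by
  rw [rootQ, ← Complex.exp_nat_mul]
  congr 1
  have hq : ((Nat.card G / p ^ (Nat.card G).factorization p : ℕ) : ℂ) ≠ 0 :=
    Nat.cast_ne_zero.2 (q_pos p).ne'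
  have hn : (Nat.card G : ℂ) ≠ 0 := Nat.cast_ne_zero.2 Nat.card_pos.ne'
  field_simp
  exact_mod_cast (card_eq_mul (G := G) p).trans (mul_comm _ _)

/-- The character `g ↦ χ (g ^ k)`. -/
def twist (χ : IrrCharacter G) (k : ℕ) : G → ℂ := fun g => (χ : G → ℂ) (g ^ k)

/-- A conjugating automorphism acts as a power map. -/
theorem exists_exp {p : ℕ} {χ ψ : IrrCharacter G} (h : Conj p χ ψ) :
    ∃ k < Nat.card G, k.Coprime (Nat.card G) ∧
      k % (Nat.card G / p ^ (Nat.card G).factorization p) =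
        1 % (Nat.card G / p ^ (Nat.card G).factorization p) ∧ (ψ : G → ℂ) = twist χ k := by
  obtain ⟨σ, hσ, hψ⟩ := h
  have hζ := Complex.isPrimitiveRoot_exp (Nat.card G) Nat.card_pos.ne'
  have : NeZero (Nat.card G) := ⟨Nat.card_pos.ne'⟩
  set ζ := Complex.exp (2 * Real.pi * Complex.I / Nat.card G) with hζdef
  have hσζ : IsPrimitiveRoot (σ ζ) (Nat.card G) :=
    hζ.map_of_injective (f := σ.toRingHom) σ.injective
  obtain ⟨k, hk, hkζ⟩ := hζ.eq_pow_of_pow_eq_one hσζ.pow_eq_one
  have hcop : k.Coprime (Nat.card G) :=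
    (hζ.pow_iff_coprime Nat.card_pos k).1 (hkζ.symm ▸ hσζ)
  have hpow : ∀ z : ℂ, z ^ Nat.card G = 1 → σ z = z ^ k := by
    intro z hz
    obtain ⟨i, -, rfl⟩ := hζ.eq_pow_of_pow_eq_one hz
    rw [map_pow, ← hkζ, pow_right_comm]
  refine ⟨k, hk, hcop, ?_, ?_⟩
  · have hq := Complex.isPrimitiveRoot_exp (Nat.card G / p ^ (Nat.card G).factorization p)
      (q_pos p).ne'
    rw [show Complex.exp (2 * Real.pi * Complex.I /
      ((Nat.card G / p ^ (Nat.card G).factorization p : ℕ) : ℂ)) = rootQ G p from rfl] at hq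
    have h1 : rootQ G p ^ k = rootQ G p ^ 1 := by
      rw [pow_one]
      conv_rhs => rw [← hσ]
      refine (hpow _ ?_).symm
      rw [rootQ_eq_pow, pow_right_comm, hζ.pow_eq_one, one_pow]
    have h2 := (orderOf_pos_iff.1 (by rw [← hq.eq_orderOf]; exact q_pos p :
      0 < orderOf (rootQ G p))).pow_eq_pow_iff_modEq.1 h1
    rwa [← hq.eq_orderOf] at h2
  · rw [hψ]
    funext g
    exact CfsgLib.CharGalois.map_char_eq_pow (irr_isCharacter χ) σ hpow g

/-- A power map fixing the `p'`-roots is a conjugation. -/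
theorem conj_twist {p k : ℕ} (χ : IrrCharacter G) (hk : k.Coprime (Nat.card G))
    (hkq : k % (Nat.card G / p ^ (Nat.card G).factorization p) =
      1 % (Nat.card G / p ^ (Nat.card G).factorization p)) :
    ∃ ψ : IrrCharacter G, Conj p χ ψ ∧ (ψ : G → ℂ) = twist χ k := by
  refine ⟨⟨_, CfsgLib.CharGalois.isIrrCharacter_pow χ.2 hk⟩, ?_, rfl⟩
  have : NeZero (Nat.card G) := ⟨Nat.card_pos.ne'⟩
  obtain ⟨σ, hσ⟩ := CfsgLib.CharGalois.exists_autComplex (Nat.card G) hk
  refine ⟨σ, ?_, funext fun g =>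
    (CfsgLib.CharGalois.map_char_eq_pow (irr_isCharacter χ) σ hσ g).symm⟩
  have hq := Complex.isPrimitiveRoot_exp (Nat.card G / p ^ (Nat.card G).factorization p)
    (q_pos p).ne'
  rw [hσ (rootQ G p) (by
    rw [card_eq_mul p, mul_comm, pow_mul, rootQ, hq.pow_eq_one, one_pow])]
  conv_rhs => rw [← pow_one (rootQ G p)]
  refine (orderOf_pos_iff.1 (by rw [rootQ, ← hq.eq_orderOf]; exact q_pos p :
      0 < orderOf (rootQ G p))).pow_eq_pow_iff_modEq.2 ?_
  rw [rootQ, ← hq.eq_orderOf]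
  exact hkq

theorem conj_self (p : ℕ) (χ : IrrCharacter G) : Conj p χ χ := ⟨RingEquiv.refl ℂ, rfl, rfl⟩

theorem conj_apply_one {p : ℕ} {χ ψ : IrrCharacter G} (h : Conj p χ ψ) :
    (ψ : G → ℂ) 1 = (χ : G → ℂ) 1 := by
  obtain ⟨k, -, -, -, hk⟩ := exists_exp h
  rw [hk, twist, one_pow]

/-- Without `p` in the order the only conjugate is the character itself. -/
theorem eq_of_conj_of_factorization_eq_zero {p : ℕ} (ha : (Nat.card G).factorization p = 0)
    {χ ψ : IrrCharacter G} (h : Conj p χ ψ) : ψ = χ := by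
  obtain ⟨k, -, -, hkq, hk⟩ := exists_exp h
  simp only [ha, pow_zero, Nat.div_one] at hkq
  refine Subtype.ext (hk.trans (funext fun g => ?_))
  show (χ : G → ℂ) (g ^ k) = (χ : G → ℂ) g
  rw [← pow_mod_natCard, hkq, pow_mod_natCard, pow_one]

variable [Fintype G]

open scoped Classical in
/-- The conjugates. -/
def orbit (p : ℕ) (χ : IrrCharacter G) : Finset (IrrCharacter G) :=
  Finset.univ.filter (Conj p χ)

/-- The sum of the conjugates. -/
def orbitSum (p : ℕ) (χ : IrrCharacter G) (g : G) : ℂ := ∑ ψ ∈ orbit p χ, (ψ : G → ℂ) g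

theorem mem_orbit {p : ℕ} {χ ψ : IrrCharacter G} : ψ ∈ orbit p χ ↔ Conj p χ ψ := by
  simp [orbit]

/-- `(p - 1)` times the orbit sum is the orbit length times an algebraic integer. -/
theorem orbitSum_divisible {p b : ℕ} (hp : p.Prime) (hb : (Nat.card G).factorization p = b + 1)
    (χ : IrrCharacter G) :
    ∀ g : G, ∃ w : ℂ, IsIntegral ℤ w ∧
      ((p - 1 : ℕ) : ℂ) * orbitSum p χ g = ((orbit p χ).card : ℂ) * w := by
  classical
  intro g
  set q := Nat.card G / p ^ (Nat.card G).factorization p with hqdef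
  have hq : 0 < q := q_pos p
  have hpq : ¬ p ∣ q := Nat.not_dvd_ordCompl hp Nat.card_pos.ne'
  have hn : p ^ (b + 1) * q = Nat.card G := by rw [← hb]; exact (card_eq_mul p).symm
  set K := expSet p q (Nat.card G)
  have hcopK : ∀ k ∈ K, k.Coprime (Nat.card G) := fun k hk => by
    rw [← hn]
    exact coprime_of_mem hp (mem_expSet.1 hk).2.1 (mem_expSet.1 hk).2.2
  let F : ℕ → IrrCharacter G := fun k =>
    if h : k.Coprime (Nat.card G) then ⟨_, CfsgLib.CharGalois.isIrrCharacter_pow χ.2 h⟩ else χ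
  have hF : ∀ k ∈ K, ∀ x, (F k : G → ℂ) x = (χ : G → ℂ) (x ^ k) := fun k hk x => by
    simp only [F]
    rw [dif_pos (hcopK k hk)]
  have hmaps : ∀ k ∈ K, F k ∈ orbit p χ := fun k hk => by
    obtain ⟨ψ, hψ, hψk⟩ := conj_twist (p := p) χ (hcopK k hk) (mem_expSet.1 hk).2.1
    rw [show F k = ψ from Subtype.ext (by funext x; rw [hF k hk, hψk, twist])]
    exact mem_orbit.2 hψ
  have hshift : ∀ {k l : ℕ}, k ∈ K → l ∈ K → k * l % Nat.card G ∈ K := by
    intro k l hk hl
    rw [mem_expSet] at hk hl ⊢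
    refine ⟨Nat.mod_lt _ Nat.card_pos, ?_, ?_⟩
    · rw [← hn, Nat.mod_mul_left_mod]
      exact Nat.ModEq.mul hk.2.1 hl.2.1 |>.trans (by simp [Nat.ModEq])
    · rw [← hn, pow_succ', mul_assoc, Nat.dvd_iff_mod_eq_zero, Nat.mod_mul_right_mod,
        ← Nat.dvd_iff_mod_eq_zero]
      exact hp.not_dvd_mul hk.2.2 hl.2.2
  set c := (K.filter fun k => F k = χ).card
  have hfib : ∀ ψ ∈ orbit p χ, (K.filter fun k => F k = ψ).card = c := by
    intro ψ hψ
    obtain ⟨l, hl, hlc, hlq, hlψ⟩ := exists_exp (mem_orbit.1 hψ)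
    have hlK : l ∈ K := by
      rw [mem_expSet]
      refine ⟨hl, hlq, fun hd => ?_⟩
      have h1 : p ∣ Nat.card G := hn ▸ dvd_mul_of_dvd_left (dvd_pow_self p b.succ_ne_zero) q
      exact Nat.not_coprime_of_dvd_of_dvd hp.one_lt hd h1 hlc
    -- an inverse exponent
    obtain ⟨l', hl', hll'⟩ : ∃ l' ∈ K, l * l' % Nat.card G = 1 % Nat.card G := by
      have hlt : 1 < Nat.card G := by
        calc 1 < p := hp.one_lt
          _ ≤ p ^ (b + 1) := Nat.le_self_pow b.succ_ne_zero p
          _ ≤ Nat.card G := hn ▸ Nat.le_mul_of_pos_right _ hq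
      obtain ⟨m, hm, hmod⟩ := Nat.exists_mul_mod_eq_one_of_coprime hlc hlt
      refine ⟨m, ?_, by rw [hmod, Nat.one_mod_eq_one.2 hlt.ne']⟩
      have hmodq : l * m % q = 1 % q := by
        have h2 : l * m % Nat.card G % q = 1 % q := by rw [hmod]
        rwa [← hn, Nat.mod_mul_left_mod] at h2
      rw [mem_expSet]
      refine ⟨hm, ?_, fun hd => ?_⟩
      · have h3 : l * m % q = 1 * m % q := Nat.ModEq.mul_right m hlq
        rw [one_mul] at h3
        exact h3.symm.trans hmodq
      · have h4 : p ∣ l * m % Nat.card G := by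
          rw [Nat.dvd_mod_iff (hn ▸ dvd_mul_of_dvd_left (dvd_pow_self p b.succ_ne_zero) q)]
          exact dvd_mul_of_dvd_right hd l
        rw [hmod] at h4
        exact hp.not_dvd_one h4
    have hone : ∀ x : G, x ^ (l * l') = x := fun x => by
      rw [← pow_mod_natCard, hll', pow_mod_natCard, pow_one]
    refine Finset.card_nbij' (fun k => k * l' % Nat.card G) (fun k => k * l % Nat.card G)
      ?_ ?_ ?_ ?_
    · intro k hk
      simp only [Finset.coe_filter, Set.mem_ofPred_eq] at hk ⊢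
      refine ⟨hshift hk.1 hl', Subtype.ext (funext fun x => ?_)⟩
      have h := congrFun (congrArg Subtype.val hk.2) (x ^ l')
      rw [hF k hk.1, hlψ, twist, ← pow_mul, ← pow_mul, mul_comm l' l, hone] at h
      rw [hF _ (hshift hk.1 hl'), pow_mod_natCard, mul_comm]
      exact h
    · intro k hk
      simp only [Finset.coe_filter, Set.mem_ofPred_eq] at hk ⊢
      refine ⟨hshift hk.1 hlK, Subtype.ext (funext fun x => ?_)⟩
      have h := congrFun (congrArg Subtype.val hk.2) (x ^ l)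
      rw [hF k hk.1, ← pow_mul] at h
      rw [hF _ (hshift hk.1 hlK), pow_mod_natCard, mul_comm, h, hlψ, twist]
    · intro k hk
      simp only [Finset.coe_filter, Set.mem_ofPred_eq] at hk
      show k * l' % Nat.card G * l % Nat.card G = k
      rw [Nat.mod_mul_mod, mul_assoc, Nat.mul_mod, mul_comm l' l, hll', ← Nat.mul_mod, mul_one,
        Nat.mod_eq_of_lt (mem_expSet.1 hk.1).1]
    · intro k hk
      simp only [Finset.coe_filter, Set.mem_ofPred_eq] at hk
      show k * l % Nat.card G * l' % Nat.card G = k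
      rw [Nat.mod_mul_mod, mul_assoc, Nat.mul_mod, hll', ← Nat.mul_mod, mul_one,
        Nat.mod_eq_of_lt (mem_expSet.1 hk.1).1]
  have hK : K.card = p ^ b * (p - 1) := by
    show (expSet p q (Nat.card G)).card = _
    rw [← hn]
    exact card_expSet hp hpq hq
  have hrc : (orbit p χ).card * c = p ^ b * (p - 1) := by
    rw [← hK, Finset.card_eq_sum_card_fiberwise hmaps, Finset.sum_congr rfl hfib, Finset.sum_const,
      smul_eq_mul]
  have hsum : ∑ k ∈ K, (χ : G → ℂ) (g ^ k) = (c : ℂ) * orbitSum p χ g := by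
    rw [← Finset.sum_fiberwise_of_maps_to hmaps, orbitSum, Finset.mul_sum]
    refine Finset.sum_congr rfl fun ψ hψ => ?_
    rw [Finset.sum_congr rfl (fun k hk => ?_ : ∀ k ∈ K.filter (fun k => F k = ψ),
        (χ : G → ℂ) (g ^ k) = (ψ : G → ℂ) g), Finset.sum_const, hfib ψ hψ, nsmul_eq_mul]
    obtain ⟨hk1, hk2⟩ := Finset.mem_filter.1 hk
    rw [← hk2, hF k hk1]
  obtain ⟨N, z, hz, hd⟩ := CfsgLib.CharGalois.exists_root_decomp (irr_isCharacter χ) g
  have hw : ∀ i, ∃ w : ℂ, IsIntegral ℤ w ∧ ∑ k ∈ K, z i ^ k = (p : ℂ) ^ b * w := fun i => by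
    show ∃ w : ℂ, IsIntegral ℤ w ∧ ∑ k ∈ expSet p q (Nat.card G), z i ^ k = (p : ℂ) ^ b * w
    rw [← hn]
    exact exists_sum_pow_eq hp hq (by rw [hn]; exact hz i)
  choose w hwi hweq using hw
  refine ⟨∑ i, w i, IsIntegral.sum _ fun i _ => hwi i, ?_⟩
  have h1 : (c : ℂ) * orbitSum p χ g = (p : ℂ) ^ b * ∑ i, w i := by
    rw [← hsum, Finset.sum_congr rfl (fun k _ => hd k), Finset.sum_comm, Finset.mul_sum]
    exact Finset.sum_congr rfl fun i _ => hweq i
  have h2 : ((orbit p χ).card : ℂ) * c = (p : ℂ) ^ b * ((p - 1 : ℕ) : ℂ) := by exact_mod_cast hrc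
  have hpb : (p : ℂ) ^ b ≠ 0 := pow_ne_zero _ (Nat.cast_ne_zero.2 hp.ne_zero)
  apply mul_left_cancel₀ hpb
  linear_combination ((orbit p χ).card : ℂ) * h1 - orbitSum p χ g * h2

theorem orbit_card_pos (p : ℕ) (χ : IrrCharacter G) : 0 < (orbit p χ).card :=
  Finset.card_pos.2 ⟨χ, mem_orbit.2 (conj_self p χ)⟩

theorem orbitSum_classFun (p : ℕ) (χ : IrrCharacter G) (g h : G) :
    orbitSum p χ (h * g * h⁻¹) = orbitSum p χ g :=
  Finset.sum_congr rfl fun ψ _ => irr_isClassFunction ψ g h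

theorem classInner_orbitSum (p : ℕ) (χ : IrrCharacter G) :
    classInner (orbitSum p χ) (χ : G → ℂ) = 1 := by
  classical
  rw [show orbitSum p χ = ∑ ψ ∈ orbit p χ, (ψ : G → ℂ) from funext fun g => by
    simp [orbitSum, Finset.sum_apply], classInner_sum_left]
  simp [classInner_irr, mem_orbit.2 (conj_self p χ)]

/-- The orbit length times the degree divides `(p - 1)` times the order. -/
theorem orbit_mul_degree_dvd {p b : ℕ} (hp : p.Prime) (hb : (Nat.card G).factorization p = b + 1)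
    (χ : IrrCharacter G) :
    (orbit p χ).card * charDegree (χ : G → ℂ) ∣ Nat.card G * (p - 1) := by
  classical
  haveI := Fintype.ofFinite (ConjClasses G)
  choose w hwi hw using orbitSum_divisible hp hb χ
  have hr : ((orbit p χ).card : ℂ) ≠ 0 := Nat.cast_ne_zero.2 (orbit_card_pos p χ).ne'
  have hwc : ∀ g h : G, w (h * g * h⁻¹) = w g := fun g h => by
    apply mul_left_cancel₀ hr
    rw [← hw, ← hw, orbitSum_classFun]
  let T : G → ℂ := fun x => w x * conj (centralChar (χ : G → ℂ) x)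
  have hT : ∀ g h : G, T (h * g * h⁻¹) = T g := fun g h => by
    show w _ * conj (centralChar _ _) = _
    rw [hwc, ← CfsgLib.Blocks.centralChar_of_isConj χ (isConj_iff.2 ⟨h, rfl⟩)]
  have hχ1 := (ClassCount.degree_eq χ).1
  have hχ0 : (charDegree (χ : G → ℂ) : ℂ) ≠ 0 :=
    Nat.cast_ne_zero.2 (ClassCount.degree_eq χ).2.2.ne'
  have hS := Contribution.sum_div_index T hT
  have hsum : ∑ x : G, T x / ((Subgroup.centralizer ({x} : Set G)).index : ℂ) =
      ((Nat.card G * (p - 1) : ℕ) : ℂ) /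
        (((orbit p χ).card * charDegree (χ : G → ℂ) : ℕ) : ℂ) := by
    have h1 := classInner_orbitSum p χ
    rw [classInner] at h1
    have hn : (Nat.card G : ℂ) ≠ 0 := Nat.cast_ne_zero.2 Nat.card_pos.ne'
    have h2 : ∑ x : G, orbitSum p χ x * conj ((χ : G → ℂ) x) = Nat.card G := by
      field_simp at h1
      exact h1
    rw [eq_div_iff (by push_cast; exact mul_ne_zero hr hχ0)]
    push_cast
    rw [← h2, Finset.sum_mul, Finset.sum_mul]
    refine Finset.sum_congr rfl fun x _ => ?_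
    simp only [T, centralChar, map_div₀, map_mul, Complex.conj_natCast, hχ1]
    have hi : ((Subgroup.centralizer ({x} : Set G)).index : ℂ) ≠ 0 :=
      Nat.cast_ne_zero.2 Subgroup.index_ne_zero_of_finite
    field_simp
    linear_combination (-conj ((χ : G → ℂ) x)) * hw x
  refine nat_dvd_of_isIntegral_div
    (Nat.mul_ne_zero (orbit_card_pos p χ).ne' (ClassCount.degree_eq χ).2.2.ne') ?_
  rw [← hsum, hS]
  exact IsIntegral.sum _ fun c _ =>
    (hwi _).mul (isIntegral_conj (CfsgLib.Blocks.isIntegral_centralChar χ _))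

end CfsgLib.PConj
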