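import Cfsg.Agent.Lib.Blocks.IntegralForm
import Cfsg.Agent.Lib.Blocks.LocalRing
import Cfsg.Agent.Lib.Blocks.CentralChar
import Cfsg.Agent.Lib.Characters.Decomp
import Cfsg.Agent.Lib.Characters.Values
import Mathlib.LinearAlgebra.Matrix.Charpoly.Coeff
import Mathlib.LinearAlgebra.Matrix.Kronecker
import Mathlib.RingTheory.Ideal.GoingUp
import Mathlib.RingTheory.Nilpotent.Basic
import Mathlib.Algebra.CharP.Lemmas

/-!
The reduction of `ψ ψ̄` for a character `ψ` of degree at most half the prime `p`: on it every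
element of order `p` acts with `(u - 1) ^ (p - 1) = 0`, so an integral idempotent killed by all
such modules in characteristic `p` has trace zero on it.
-/

set_option autoImplicit false

noncomputable section

namespace CfsgLib.SmallTensor

open Cfsg CfsgLib.Blocks
open scoped Kronecker ComplexConjugate

universe u

/-- A modular ideal whose local ring lies in a valuation ring. -/
theorem exists_valuation_above (p : ℕ) [Fact p.Prime] :
    ∃ (M : Ideal AlgInt) (_ : IsPModular p M) (O : ValuationSubring ℂ),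
      (p : O) ∈ IsLocalRing.maximalIdeal O ∧ ∀ z : ℂ, MemLocalRing M z → z ∈ O := by
  obtain ⟨O, hO⟩ := CfsgLib.IntegralForm.exists_valuationSubring p Fact.out
  have hint : ∀ z : AlgInt, (z : ℂ) ∈ O := by
    intro z
    obtain ⟨y, hy⟩ := IsIntegrallyClosed.isIntegral_iff.1
      ((z.2 : IsIntegral ℤ (z : ℂ)).tower_top (A := O))
    rw [← hy]
    exact y.2
  let f : AlgInt →+* O :=
    { toFun := fun z => ⟨(z : ℂ), hint z⟩
      map_one' := rfl
      map_mul' := fun _ _ => rfl
      map_zero' := rfl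
      map_add' := fun _ _ => rfl }
  set M := (IsLocalRing.maximalIdeal O).comap f with hMdef
  have hpM : (p : AlgInt) ∈ M := by
    rw [hMdef, Ideal.mem_comap, map_natCast]
    exact hO
  have : M.IsPrime := Ideal.IsPrime.comap f
  have hmax : M.IsMaximal := by
    refine Ideal.isMaximal_of_isIntegral_of_isMaximal_comap (R := ℤ) M ?_
    have hle : Ideal.span {(p : ℤ)} ≤ M.comap (algebraMap ℤ AlgInt) := by
      rw [Ideal.span_le, Set.singleton_subset_iff]
      show algebraMap ℤ AlgInt (p : ℤ) ∈ M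
      rwa [map_natCast]
    have hmax' : (Ideal.span {(p : ℤ)}).IsMaximal :=
      PrincipalIdealRing.isMaximal_of_irreducible
        (Nat.prime_iff_prime_int.1 (Fact.out : p.Prime)).irreducible
    rw [← hmax'.eq_of_le (Ideal.IsPrime.ne_top inferInstance) hle]
    exact hmax'
  refine ⟨M, ⟨Fact.out, hmax, hpM⟩, O, hO, ?_⟩
  rintro z ⟨a, b, hb, rfl⟩
  have hu : IsUnit (f b) := IsLocalRing.notMem_maximalIdeal.1 hb
  obtain ⟨w, hw⟩ := hu.exists_right_inv
  have hw' : (b : ℂ) * (w : ℂ) = 1 := congrArg Subtype.val hw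
  have : (w : ℂ) = (b : ℂ)⁻¹ := eq_inv_of_mul_eq_one_right hw'
  rw [div_eq_mul_inv, ← this]
  exact mul_mem (hint a) w.2

variable {p d : ℕ} [Fact p.Prime] {F : Type*} [Field F] [CharP F p]

theorem pow_eq_zero_of_unipotent (A : Matrix (Fin d) (Fin d) F) (h : A ^ p = 1) :
    (A - 1) ^ d = 0 := by
  rcases Nat.eq_zero_or_pos d with rfl | hd
  · exact Subsingleton.elim _ _
  have : Nonempty (Fin d) := ⟨⟨0, hd⟩⟩
  have hN : IsNilpotent (A - 1) := by
    refine ⟨p, ?_⟩
    have : CharP (Matrix (Fin d) (Fin d) F) p :=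
      charP_of_injective_algebraMap (algebraMap F (Matrix (Fin d) (Fin d) F)).injective p
    rw [sub_pow_char_of_commute (p := p) (h := Commute.one_right A), h, one_pow, sub_self]
  have h1 := (Matrix.isNilpotent_charpoly_sub_pow_of_isNilpotent hN).eq_zero
  have h2 := Matrix.aeval_self_charpoly (A - 1)
  rw [sub_eq_zero.1 h1] at h2
  simpa using h2

theorem kronecker_sub_one_pow_eq_zero (A B : Matrix (Fin d) (Fin d) F) (hA : (A - 1) ^ d = 0)
    (hB : (B - 1) ^ d = 0) {m : ℕ} (hm : 2 * d ≤ m + 1) :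
    (A ⊗ₖ B - 1) ^ m = 0 := by
  have e : A ⊗ₖ B - 1 = (A - 1) ⊗ₖ (1 : Matrix (Fin d) (Fin d) F) + A ⊗ₖ (B - 1) := by
    have h1 : A ⊗ₖ (B - 1) + A ⊗ₖ (1 : Matrix (Fin d) (Fin d) F) = A ⊗ₖ B := by
      rw [← Matrix.kronecker_add, sub_add_cancel]
    have h2 : (A - 1) ⊗ₖ (1 : Matrix (Fin d) (Fin d) F) + 1 = A ⊗ₖ (1 : Matrix (Fin d) (Fin d) F) := by
      rw [← Matrix.one_kronecker_one, ← Matrix.add_kronecker, sub_add_cancel]
    rw [sub_eq_iff_eq_add, ← h1, ← h2]
    abel
  have hpow : ∀ (X Y : Matrix (Fin d) (Fin d) F) (n : ℕ), (X ⊗ₖ Y) ^ n = (X ^ n) ⊗ₖ (Y ^ n) := by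
    intro X Y n
    induction n with
    | zero => simp [Matrix.one_kronecker_one]
    | succ n ih => rw [pow_succ, ih, pow_succ, pow_succ, Matrix.mul_kronecker_mul]
  rw [e]
  have hcm : Commute ((A - 1) ⊗ₖ (1 : Matrix (Fin d) (Fin d) F)) (A ⊗ₖ (B - 1)) := by
    show _ * _ = _ * _
    rw [← Matrix.mul_kronecker_mul, ← Matrix.mul_kronecker_mul, one_mul, mul_one, sub_mul, mul_sub,
      one_mul, mul_one]
  refine hcm.add_pow_eq_zero_of_add_le_succ_of_pow_eq_zero (m := d) (n := d) ?_ ?_ (by omega)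
  · rw [hpow, hA, Matrix.zero_kronecker]
  · rw [hpow, hB, Matrix.kronecker_zero]

end CfsgLib.SmallTensor

namespace CfsgLib.SmallTensor

open Cfsg CfsgLib.Blocks CfsgLib.Characters
open scoped Kronecker ComplexConjugate

variable {G : Type*} [Group G] [Fintype G] {p : ℕ} [Fact p.Prime]

/-- An integral idempotent which vanishes on every module in characteristic `p` on which
`(u - 1) ^ (p - 1) = 0` has trace zero on `ψ ψ̄`, for `ψ` of degree at most `p / 2`. -/
theorem sum_eq_zero_of_small (O : ValuationSubring ℂ) (hpO : (p : O) ∈ IsLocalRing.maximalIdeal O)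
    {d : ℕ} (ρ : Representation ℂ G (Fin d → ℂ)) (hd : 2 * d ≤ p) {u : G} (hu : u ^ p = 1)
    (e : G → O) (hidem : IsIdempotentElem (ofFun e))
    (hvan : ∀ (R : Type) [Field R] [CharP R p] (φ : O →+* R) (W : Type) [AddCommGroup W]
      [Module R W] (σ : Representation R G W), (σ u - 1) ^ (p - 1) = 0 →
        ∑ g, φ (e g) • σ g = 0) :
    ∑ g, (e g : ℂ) * (ρ.character g * conj (ρ.character g)) = 0 := by
  classical
  obtain ⟨N, ε, R, hR⟩ := CfsgLib.IntegralForm.exists_integral_matrices O ρ
  have hN : N = d := by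
    have := ε.finrank_eq
    simpa [Module.finrank_fin_fun] using this.symm
  subst hN
  -- the reduction
  let k := IsLocalRing.ResidueField O
  have hchar : CharP k p := by
    refine (CharP.charP_iff_prime_eq_zero Fact.out).2 ?_
    rw [← map_natCast (IsLocalRing.residue O)]
    exact Ideal.Quotient.eq_zero_iff_mem.2 hpO
  let φ : O →+* k := IsLocalRing.residue O
  let T : G →* Matrix (Fin N × Fin N) (Fin N × Fin N) O :=
    { toFun := fun g => R g ⊗ₖ (R g⁻¹).transpose
      map_one' := by simp [Matrix.one_kronecker_one]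
      map_mul' := fun g h => by
        rw [← Matrix.mul_kronecker_mul, map_mul, mul_inv_rev, map_mul, Matrix.transpose_mul] }
  let E : Matrix (Fin N × Fin N) (Fin N × Fin N) O := ∑ g, e g • T g
  have hE : E * E = E := by
    have h1 : MonoidAlgebra.lift O (Matrix (Fin N × Fin N) (Fin N × Fin N) O) G T (ofFun e) = E := by
      rw [MonoidAlgebra.lift_apply, Finsupp.sum_fintype]
      · simp [E]
      · intro g; simp
    rw [← h1, ← map_mul, hidem.eq]
  let σ : Representation k G (Fin N × Fin N → k) :=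
    { toFun := fun g => Matrix.toLinAlgEquiv' ((T g).map φ)
      map_one' := by simp [map_one]
      map_mul' := fun g h => by rw [map_mul, Matrix.map_mul, map_mul] }
  have hσu : (σ u - 1) ^ (p - 1) = 0 := by
    show (Matrix.toLinAlgEquiv' ((T u).map φ) - 1) ^ (p - 1) = 0
    rw [← map_one (Matrix.toLinAlgEquiv' (R := k) (n := Fin N × Fin N)), ← map_sub, ← map_pow]
    have hmap : (T u).map φ = (R u).map φ ⊗ₖ ((R u⁻¹).map φ).transpose := by
      ext ⟨i, j⟩ ⟨a, b⟩
      simp [T, Matrix.kronecker_apply]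
    have hp1 : ∀ g : G, g ^ p = 1 → ((R g).map φ) ^ p = 1 := by
      intro g hg
      rw [← Matrix.map_pow, ← map_pow, hg, map_one, Matrix.map_one _ (map_zero φ) (map_one φ)]
    rw [hmap, kronecker_sub_one_pow_eq_zero _ _ (pow_eq_zero_of_unipotent _ (hp1 u hu))
      (pow_eq_zero_of_unipotent _ (by
        rw [← Matrix.transpose_pow, hp1 _ (by rw [inv_pow, hu, inv_one]), Matrix.transpose_one]))
      (by have := (Fact.out : p.Prime).one_lt; omega), map_zero]
  have hzero : E.map φ = 0 := by
    have h1 := hvan k φ _ σ hσu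
    have h2 : Matrix.toLinAlgEquiv' (E.map φ) = ∑ g, φ (e g) • σ g := by
      have : E.map φ = ∑ g, φ (e g) • (T g).map φ := by
        ext i j
        simp [E, Matrix.sum_apply]
      rw [this, map_sum]
      exact Finset.sum_congr rfl fun g _ => map_smul _ _ _
    rw [h1] at h2
    exact (map_eq_zero_iff _ (AlgEquiv.injective _)).1 h2
  have hE0 : E = 0 := by
    have hu1 : IsUnit (1 - E).det := by
      rw [← IsLocalRing.residue_ne_zero_iff_isUnit]
      show φ (1 - E).det ≠ 0
      rw [RingHom.map_det, RingHom.mapMatrix_apply, Matrix.map_sub _ (map_sub φ), hzero, sub_zero,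
        Matrix.map_one _ (map_zero φ) (map_one φ), Matrix.det_one]
      exact one_ne_zero
    have h1 : (1 - E) * E = 0 := by rw [sub_mul, one_mul, hE, sub_self]
    exact ((Matrix.isUnit_iff_isUnit_det _).2 hu1).mul_right_eq_zero.1 h1
  have htr : ∀ g : G, ((R g).trace : ℂ) = ρ.character g := by
    intro g
    have hconj : ρ g = (ε.symm.conj (Matrix.toLin' ((R g).map fun a : O => (a : ℂ)))) := by
      refine LinearMap.ext fun w => ?_
      rw [LinearEquiv.conj_apply, LinearMap.comp_apply, LinearMap.comp_apply]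
      apply ε.injective
      simp [hR g w, Matrix.toLin'_apply]
    rw [Representation.character, hconj, LinearMap.trace_conj', Matrix.trace_toLin'_eq,
      Matrix.trace]
    simp [Matrix.trace]
  have hinv : ∀ g : G, conj (ρ.character g) = ρ.character g⁻¹ := fun g =>
    (char_inv_eq_conj ρ g).symm
  have h0 : (E.trace : ℂ) = 0 := by rw [hE0]; simp
  rw [← h0]
  simp only [hinv]
  simp only [E, Matrix.trace_sum, Matrix.trace_smul, T, MonoidHom.coe_mk, OneHom.coe_mk,
    Matrix.trace_kronecker, Matrix.trace_transpose, ← htr, smul_eq_mul]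
  push_cast
  rfl

end CfsgLib.SmallTensor
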