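import Cfsg.Agent.Lib.Blk7.RankTrace
import Cfsg.Agent.Lib.Blocks.BlockParts
import Cfsg.Agent.Lib.Blocks.SectionNorm
import Cfsg.Agent.Lib.Blocks.PPart

/-! # The norms of the parts of a block on a subsection -/

set_option autoImplicit false

namespace CfsgLib.SubsectionNorm

open Cfsg CfsgLib.Characters CfsgLib.Blocks
open scoped ComplexConjugate

universe u

variable {G : Type u} [Group G] [Fintype G] {p : ℕ} [hp : Fact p.Prime] {M : Ideal AlgInt}

section Kernel

variable {H : Type u} [Group H] [Fintype H]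

/-- The kernel of the projection onto a block. -/
noncomputable def ker (e : Set (IrrCharacter H)) (s c : H) : ℂ := by
  classical exact (Nat.card H : ℂ)⁻¹ *
    ∑ ξ ∈ Finset.univ.filter (· ∈ e), (ξ : H → ℂ) s * conj ((ξ : H → ℂ) c)

open scoped Classical in
theorem blockPart_regular (hM : IsPModular p M) {e : Set (IrrCharacter H)} (he : IsPBlock M e)
    (f : H → ℂ) {s : H} (hs : ¬ p ∣ orderOf s) :
    blockPart e f s = ∑ c ∈ Finset.univ.filter (fun c : H => ¬ p ∣ orderOf c), ker e s c * f c := by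
  rw [blockPart_congr_regular hM he (g := fun c => if ¬ p ∣ orderOf c then f c else 0)
    (fun c hc => (if_pos hc).symm) hs, blockPart_eq_sum]
  conv_rhs => rw [Finset.sum_filter]
  simp only [classInner, ker, Finset.mul_sum, Finset.sum_mul]
  conv_lhs => rw [Finset.sum_comm]
  refine Finset.sum_congr rfl fun c _ => ?_
  split_ifs with hc
  · simp
  · exact Finset.sum_congr rfl fun ξ _ => by ring

theorem ker_inv (e : Set (IrrCharacter H)) (s c : H) : ker e s⁻¹ c⁻¹ = conj (ker e s c) := by
  classical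
  simp only [ker, map_mul, map_inv₀, Complex.conj_natCast, map_sum, irr_apply_inv]

end Kernel

variable {x : G} [Fintype ↥(Subgroup.centralizer ({x} : Set G))]

/-- Column orthogonality on one section is that of the centraliser. -/
theorem section_orth (hM : IsPModular p M) (hx : ∃ k : ℕ, orderOf x = p ^ k)
    {c d : ↥(Subgroup.centralizer ({x} : Set G))} (hc : ¬ p ∣ orderOf c) (hd : ¬ p ∣ orderOf d) :
    ∑ χ : IrrCharacter G, (χ : G → ℂ) (x * c) * conj ((χ : G → ℂ) (x * d)) =
      ∑ η : IrrCharacter ↥(Subgroup.centralizer ({x} : Set G)),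
        (η : _ → ℂ) c * conj ((η : _ → ℂ) d) := by
  classical
  rw [column_orth, column_orth]
  have hpc : IsPPart p (x * (c : G)) x :=
    isPPart_mul (commute_centralizer c) hx (by rwa [Subgroup.orderOf_coe])
  have hpd : IsPPart p (x * (d : G)) x :=
    isPPart_mul (commute_centralizer d) hx (by rwa [Subgroup.orderOf_coe])
  have hfix : ∀ t : G, t * (x * c) * t⁻¹ = x * d → t * x * t⁻¹ = x := fun t ht => by
    have h := IsPPart.conj hpc t
    rw [ht] at h
    exact IsPPart.unique hM.1 h hpd
  have hiff : IsConj (x * (c : G)) (x * d) ↔ IsConj c d := by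
    constructor
    · intro h
      obtain ⟨t, ht⟩ := isConj_iff.1 h
      have h1 := hfix t ht
      have htC : t ∈ Subgroup.centralizer ({x} : Set G) := by
        rw [Subgroup.mem_centralizer_singleton_iff]
        exact mul_inv_eq_iff_eq_mul.1 h1
      refine isConj_iff.2 ⟨⟨t, htC⟩, Subtype.ext ?_⟩
      simp only [Subgroup.coe_mul, Subgroup.coe_inv]
      refine mul_left_cancel (a := x) ?_
      rw [← ht]
      nth_rewrite 1 [← h1]
      group
    · intro h
      obtain ⟨t, ht⟩ := isConj_iff.1 h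
      refine isConj_iff.2 ⟨(t : G), ?_⟩
      rw [← ht]
      simp only [Subgroup.coe_mul, Subgroup.coe_inv]
      rw [← mul_assoc, ← mul_assoc x, ← mul_assoc x, (commute_centralizer t).eq, mul_assoc (t : G)]
  have hcard : Nat.card (Subgroup.centralizer ({x * (c : G)} : Set G)) =
      Nat.card (Subgroup.centralizer ({c} : Set ↥(Subgroup.centralizer ({x} : Set G)))) := by
    have hle : Subgroup.centralizer ({x * (c : G)} : Set G) ≤ Subgroup.centralizer ({x} : Set G) := by
      intro t ht
      rw [Subgroup.mem_centralizer_singleton_iff] at ht ⊢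
      have h1 : t * (x * c) * t⁻¹ = x * c := by rw [ht, mul_inv_cancel_right]
      have h := IsPPart.conj hpc t
      rw [h1] at h
      exact mul_inv_eq_iff_eq_mul.1 (IsPPart.unique hM.1 h hpc)
    refine (Nat.card_congr (Subgroup.subgroupOfEquivOfLe hle).toEquiv).symm.trans
      (Nat.card_congr (Equiv.subtypeEquivRight fun t => ?_))
    rw [Subgroup.mem_subgroupOf, Subgroup.mem_centralizer_singleton_iff,
      Subgroup.mem_centralizer_singleton_iff, Subtype.ext_iff, Subgroup.coe_mul, Subgroup.coe_mul,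
      ← mul_assoc, ← (commute_centralizer t).eq, mul_assoc, mul_assoc, mul_right_inj]
  by_cases h : IsConj c d
  · rw [if_pos h, if_pos (hiff.2 h), hcard]
  · rw [if_neg h, if_neg (fun h' => h (hiff.1 h'))]

open scoped Classical in
/-- The sum of the norms of the `b`-parts over a block. -/
theorem sum_norms (hM : IsPModular p M) (hx : ∃ k : ℕ, orderOf x = p ^ k)
    {B : Set (IrrCharacter G)} (hB : IsPBlock M B)
    {b : Set (IrrCharacter ↥(Subgroup.centralizer ({x} : Set G)))}
    (hind : IsInducedBlock M (Subgroup.centralizer ({x} : Set G)) b B) :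
    ∑ χ ∈ Finset.univ.filter (· ∈ B),
      ∑ s ∈ Finset.univ.filter (fun s : ↥(Subgroup.centralizer ({x} : Set G)) => ¬ p ∣ orderOf s),
        blockPart b (fun c : ↥(Subgroup.centralizer ({x} : Set G)) => (χ : G → ℂ) (x * c)) s *
          blockPart b (fun c : ↥(Subgroup.centralizer ({x} : Set G)) => (χ : G → ℂ) (x⁻¹ * c)) s⁻¹ =
      (Nat.card ↥(Subgroup.centralizer ({x} : Set G)) : ℂ) * (blockRank p b : ℂ) := by
  set R := Finset.univ.filter (fun s : ↥(Subgroup.centralizer ({x} : Set G)) => ¬ p ∣ orderOf s) with hR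
  have hb := hind.1
  have hRinv : ∀ c : ↥(Subgroup.centralizer ({x} : Set G)), c⁻¹ ∈ R ↔ c ∈ R := fun c => by simp [hR, orderOf_inv]
  -- expansions
  have hA : ∀ χ : IrrCharacter G, ∀ s ∈ R,
      blockPart b (fun c : ↥(Subgroup.centralizer ({x} : Set G)) => (χ : G → ℂ) (x * c)) s *
        blockPart b (fun c : ↥(Subgroup.centralizer ({x} : Set G)) => (χ : G → ℂ) (x⁻¹ * c)) s⁻¹ =
      ∑ c ∈ R, ∑ d ∈ R, ker b s c * conj (ker b s d) *
        ((χ : G → ℂ) (x * c) * conj ((χ : G → ℂ) (x * d))) := by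
    intro χ s hs
    have hs' : ¬ p ∣ orderOf s := (Finset.mem_filter.1 hs).2
    rw [blockPart_regular hM hb _ hs', blockPart_regular hM hb _ (by rwa [orderOf_inv])]
    have h2 : ∑ d ∈ R, ker b s⁻¹ d * (χ : G → ℂ) (x⁻¹ * d) =
        ∑ d ∈ R, conj (ker b s d) * conj ((χ : G → ℂ) (x * d)) := by
      refine Finset.sum_nbij' (fun d => d⁻¹) (fun d => d⁻¹) (fun d hd => (hRinv d).2 hd)
        (fun d hd => (hRinv d).2 hd) (fun d _ => inv_inv d) (fun d _ => inv_inv d) fun d _ => ?_
      rw [← ker_inv, inv_inv, ← irr_apply_inv χ, Subgroup.coe_inv, mul_inv_rev, inv_inv]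
      rw [((commute_centralizer d).inv_left).eq]
    rw [← hR, h2, Finset.sum_mul_sum]
    exact Finset.sum_congr rfl fun c _ => Finset.sum_congr rfl fun d _ => by ring
  have hout : ∀ χ : IrrCharacter G, χ ∉ B → ∀ s ∈ R,
      blockPart b (fun c : ↥(Subgroup.centralizer ({x} : Set G)) => (χ : G → ℂ) (x * c)) s = 0 := fun χ hχ s hs =>
    blockPart_sectionFun_eq_zero hM hx hb (fun h => hχ (by
      rw [IsInducedBlock.unique hM hind h]; exact mem_blockOf_self hM χ)) (Finset.mem_filter.1 hs).2
  rw [Finset.sum_subset (Finset.subset_univ _) fun χ _ hχ => Finset.sum_eq_zero fun s hs => by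
      rw [hout χ (fun h => hχ (Finset.mem_filter.2 ⟨Finset.mem_univ _, h⟩)) s hs, zero_mul]]
  rw [Finset.sum_comm]
  have hB' : ∀ s ∈ R, ∑ χ : IrrCharacter G, blockPart b (fun c : ↥(Subgroup.centralizer ({x} : Set G)) => (χ : G → ℂ) (x * c)) s *
        blockPart b (fun c : ↥(Subgroup.centralizer ({x} : Set G)) => (χ : G → ℂ) (x⁻¹ * c)) s⁻¹ =
      ∑ η ∈ Finset.univ.filter (· ∈ b), (η : ↥(Subgroup.centralizer ({x} : Set G)) → ℂ) s * conj ((η : ↥(Subgroup.centralizer ({x} : Set G)) → ℂ) s) := by
    intro s hs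
    rw [Finset.sum_congr rfl fun χ _ => hA χ s hs, Finset.sum_comm]
    calc ∑ c ∈ R, ∑ χ : IrrCharacter G, ∑ d ∈ R, ker b s c * conj (ker b s d) *
          ((χ : G → ℂ) (x * c) * conj ((χ : G → ℂ) (x * d)))
        = ∑ c ∈ R, ∑ d ∈ R, ∑ η : IrrCharacter ↥(Subgroup.centralizer ({x} : Set G)),
            (ker b s c * (η : ↥(Subgroup.centralizer ({x} : Set G)) → ℂ) c) * conj (ker b s d * (η : ↥(Subgroup.centralizer ({x} : Set G)) → ℂ) d) := by
          refine Finset.sum_congr rfl fun c hc => ?_
          rw [Finset.sum_comm]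
          refine Finset.sum_congr rfl fun d hd => ?_
          rw [← Finset.mul_sum, section_orth hM hx (Finset.mem_filter.1 hc).2 (Finset.mem_filter.1 hd).2,
            Finset.mul_sum]
          exact Finset.sum_congr rfl fun η _ => by rw [map_mul]; ring
      _ = ∑ η : IrrCharacter ↥(Subgroup.centralizer ({x} : Set G)), (∑ c ∈ R, ker b s c * (η : ↥(Subgroup.centralizer ({x} : Set G)) → ℂ) c) *
            conj (∑ d ∈ R, ker b s d * (η : ↥(Subgroup.centralizer ({x} : Set G)) → ℂ) d) := by
          simp only [Finset.sum_comm (s := R) (t := (Finset.univ : Finset (IrrCharacter ↥(Subgroup.centralizer ({x} : Set G))))),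
            map_sum, Finset.sum_mul_sum]
      _ = _ := by
          rw [Finset.sum_filter]
          refine Finset.sum_congr rfl fun η _ => ?_
          rw [hR, ← blockPart_regular hM hb _ (Finset.mem_filter.1 hs).2, blockPart_irr]
          split_ifs <;> simp
  rw [Finset.sum_congr rfl hB', Blk7.card_mul_blockRank hM hb, hR, Finset.sum_filter]
  refine Finset.sum_congr rfl fun s _ => ?_
  by_cases h : p ∣ orderOf s <;> simp [pRegularPart, IsPRegular, h]

end CfsgLib.SubsectionNorm
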