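import Cfsg.Agent.Lib.Blk7.SubsectionTrace
import Cfsg.Agent.Lib.Blocks.CyclicSection
import Cfsg.Agent.Lib.KGV.CharTools

/-!
# At a major subsection no character of the block vanishes

If `(y, b)` is a major subsection of `B`, the `b`-part of every member of `B` at `y` is nonzero
at `1`. Hence `k(B) ≤ p ^ d l(b)`.
-/

set_option autoImplicit false
set_option linter.unusedSectionVars false
set_option maxHeartbeats 1000000

namespace CfsgLib.MajorNonvanish

open Cfsg CfsgLib.Characters CfsgLib.Blocks CfsgLib.Contribution CfsgLib.SubsectionSq CfsgLib.CentralDefect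
open scoped ComplexConjugate Classical

universe u

variable {G : Type u} [Group G] [Fintype G] {p : ℕ} [hp : Fact p.Prime] {M : Ideal AlgInt}
  {C : Subgroup G} [Fintype C] {y : G} {B : Set (IrrCharacter G)} {b : Set (IrrCharacter C)}

theorem mem_C (hC : C = Subgroup.centralizer ({y} : Set G)) : y ∈ C :=
  hC ▸ Subgroup.mem_centralizer_singleton_iff.2 rfl

theorem mem_center_C (hC : C = Subgroup.centralizer ({y} : Set G)) :
    (⟨y, mem_C hC⟩ : C) ∈ Subgroup.center C :=
  Subgroup.mem_center_iff.2 fun c => Subtype.ext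
    (Subgroup.mem_centralizer_singleton_iff.1 (hC ▸ c.2 : (c : G) ∈ _))

/-- The scalar of `y` on a member of `b`. -/
noncomputable def scal (hC : C = Subgroup.centralizer ({y} : Set G)) (ξ : IrrCharacter C) : ℂ :=
  (ξ : C → ℂ) ⟨y, mem_C hC⟩ / (ξ : C → ℂ) 1

theorem scal_pow (hC : C = Subgroup.centralizer ({y} : Set G)) (ξ : IrrCharacter C) :
    scal hC ξ ^ orderOf y = 1 := by
  rw [scal, ← apply_central_pow ξ (mem_center_C hC),
    show (⟨y, mem_C hC⟩ : C) ^ orderOf y = 1 from Subtype.ext (pow_orderOf_eq_one y),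
    div_self (irr_one_ne_zero ξ)]

/-- The `b`-part at `y` by the constituents of the restriction. -/
theorem blockPart_shift (hC : C = Subgroup.centralizer ({y} : Set G)) (χ : IrrCharacter G)
    (m : IrrCharacter C → ℕ)
    (hm : ∀ ξ : IrrCharacter C, classInner (fun c : C => (χ : G → ℂ) c) (ξ : C → ℂ) = m ξ)
    (u : C) :
    blockPart b (fun c : C => (χ : G → ℂ) (y * c)) u =
      ∑ ξ ∈ Finset.univ.filter (· ∈ b), (m ξ : ℂ) * scal hC ξ * (ξ : C → ℂ) u := by
  rw [blockPart_eq_sum]
  refine Finset.sum_congr rfl fun ξ _ => ?_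
  rw [show (fun c : C => (χ : G → ℂ) (y * c)) =
      fun c : C => (χ : G → ℂ) (((⟨y, mem_C hC⟩ : C) : G) * c) from rfl,
    classInner_shift (mem_center_C hC), hm, scal]
  ring

theorem isClassFunction_shift (hC : C = Subgroup.centralizer ({y} : Set G)) (χ : IrrCharacter G) :
    IsClassFunction C (fun c : C => (χ : G → ℂ) (y * c)) := by
  intro g t
  show (χ : G → ℂ) (y * ((t * g * t⁻¹ : C) : G)) = (χ : G → ℂ) (y * g)
  have ht : (t : G) * y = y * t := Subgroup.mem_centralizer_singleton_iff.1 (hC ▸ t.2 : (t : G) ∈ _)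
  rw [← irr_isClassFunction χ (y * g) t]
  congr 1
  simp only [Subgroup.coe_mul, Subgroup.coe_inv, ← mul_assoc, ht]

/-- The scaled `b`-part at `y` as a combination of central characters of the whole group. -/
theorem omega_shift (hM : IsPModular p M) (hy : ∃ k : ℕ, orderOf y = p ^ k)
    (hC : C = Subgroup.centralizer ({y} : Set G)) (hb : IsPBlock M b) (χ : IrrCharacter G) :
    (C.index : ℂ) * blockPart b (fun c : C => (χ : G → ℂ) (y * c)) 1 / (χ : G → ℂ) 1 =
      ∑ K ∈ Finset.univ.filter (fun K : ConjClasses C => ¬ p ∣ orderOf K.out),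
        blockCoeff b K.out * centralChar (χ : G → ℂ) (y * (K.out : C)) := by
  have hcl := isClassFunction_shift hC χ
  rw [← sum_blockCoeff_mul_eq_blockPart b hcl (1 : C)]
  simp only [mul_one]
  rw [← Finset.sum_subset (Finset.subset_univ (regSet C p)) fun c _ hc => by
    rw [blockCoeff_eq_zero_of_singular hM hb (by simpa [mem_regSet] using hc), zero_mul],
    CyclicDefectBound.sum_classes (fun c : C => blockCoeff b c * (χ : G → ℂ) (y * c))
      (fun g t => by
        rw [blockCoeff_conj b g t]; exact congrArg _ (hcl g t)),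
    Finset.mul_sum, Finset.sum_div]
  refine Finset.sum_congr rfl fun K hK => ?_
  obtain ⟨k, hk⟩ := hy
  set z : C := ⟨y, mem_C hC⟩ with hz
  have hZp : IsPGroup p (Subgroup.zpowers z) := IsPGroup.of_card (by
    rw [Nat.card_zpowers, ← Subgroup.orderOf_coe, hz, hk])
  have hcard := CyclicDefectBound.natCard_centralizer_shift (H := C) hM
    (x := ⟨z, Subgroup.mem_zpowers z⟩) hZp hC (Finset.mem_filter.1 hK).2
  have hidx : (Subgroup.centralizer ({y * (K.out : C)} : Set G)).index =
      C.index * (Subgroup.centralizer ({K.out} : Set C)).index := by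
    have h1 := (Subgroup.centralizer ({y * (K.out : C)} : Set G)).card_mul_index
    rw [← C.card_mul_index, ← (Subgroup.centralizer ({K.out} : Set C)).card_mul_index,
      show Nat.card (Subgroup.centralizer ({y * (K.out : C)} : Set G)) = _ from hcard, mul_assoc] at h1
    rw [Nat.eq_of_mul_eq_mul_left Nat.card_pos h1, mul_comm]
  rw [centralChar, hidx, Nat.cast_mul]
  ring

theorem cz_data (hM : IsPModular p M) (hy : ∃ k : ℕ, orderOf y = p ^ k)
    (hC : C = Subgroup.centralizer ({y} : Set G)) :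
    Subgroup.zpowers y ≤ BrauerPairs.cz (Subgroup.zpowers y) ∧
      IsPGroup p (Subgroup.zpowers y) ∧ C = BrauerPairs.cz (Subgroup.zpowers y) := by
  obtain ⟨e, he⟩ := hy
  refine ⟨fun g hg => BrauerPairs.mem_cz.2 fun a ha => ?_,
    IsPGroup.of_card (by rw [Nat.card_zpowers, he]),
    by rw [hC, BrauerPairs.cz, Subgroup.zpowers_eq_closure, Subgroup.centralizer_closure]⟩
  obtain ⟨i, rfl⟩ := Subgroup.mem_zpowers_iff.1 hg
  obtain ⟨l, rfl⟩ := Subgroup.mem_zpowers_iff.1 ha
  rw [← zpow_add, ← zpow_add, add_comm]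

/-- The `b`-part of a member at `y` does not vanish. -/
theorem blockPart_one_ne_zero (hM : IsPModular p M) (hy : ∃ k : ℕ, orderOf y = p ^ k)
    (hC : C = Subgroup.centralizer ({y} : Set G)) (hind : IsInducedBlock M C b B)
    (hd : blockDefect p b = blockDefect p B) {χ : IrrCharacter G} (hχ : χ ∈ B) :
    blockPart b (fun c : C => (χ : G → ℂ) (y * c)) 1 ≠ 0 := by
  have := hM.2.1
  have hb := hind.1
  obtain ⟨ψ, hψ, hψu, -⟩ := exists_height_zero hM hind.2.1
  obtain ⟨hQ, hQp, hCQ⟩ := cz_data hM hy hC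
  obtain ⟨k, hk⟩ := hy
  choose m hm using fun ξ : IrrCharacter C => exists_mult_res ψ ξ
  have hT := not_dvd_resDegree hM hQp hQ hCQ hind hd hψ hψu m hm
  -- the difference of the scaled parts lies in the ideal
  have hdiff : MemLocalIdeal M
      ((C.index : ℂ) * blockPart b (fun c : C => (χ : G → ℂ) (y * c)) 1 / (χ : G → ℂ) 1 -
       (C.index : ℂ) * blockPart b (fun c : C => (ψ : G → ℂ) (y * c)) 1 / (ψ : G → ℂ) 1) := by
    rw [omega_shift hM ⟨k, hk⟩ hC hb χ, omega_shift hM ⟨k, hk⟩ hC hb ψ, ← Finset.sum_sub_distrib]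
    refine MemLocalIdeal.sum hM _ fun K _ => ?_
    rw [← mul_sub]
    exact MemLocalIdeal.mul_left hM (memLocalRing_blockCoeff hM hb _)
      ((IsPBlock.mem_iff hM hind.2.1 hχ ψ).1 hψ _)
  -- the one of height zero is a unit
  have hunit : ¬ MemLocalIdeal M
      ((C.index : ℂ) * blockPart b (fun c : C => (ψ : G → ℂ) (y * c)) 1 / (ψ : G → ℂ) 1) := by
    set U : ℕ := C.index / p ^ C.index.factorization p with hU
    have hUp : ¬ p ∣ U := Nat.not_dvd_ordCompl hp.out Subgroup.index_ne_zero_of_finite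
    have hexp : C.index.factorization p + minExp p b = minExp p B := by
      have h1 := minExp_add_defect hM hb
      have h2 := minExp_add_defect hM hind.2.1
      have h3 := BlockCover.factorization_card_eq (p := p) C
      omega
    have hidx : (C.index : ℂ) = (p : ℂ) ^ C.index.factorization p * (U : ℂ) := by
      exact_mod_cast (Nat.ordProj_mul_ordCompl_eq_self C.index p).symm
    set S : ℂ := ∑ ξ ∈ Finset.univ.filter (· ∈ b), ((m ξ * red p b ξ : ℕ) : ℂ) * scal hC ξ with hS
    have hbp : blockPart b (fun c : C => (ψ : G → ℂ) (y * c)) 1 = (p : ℂ) ^ minExp p b * S := by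
      rw [blockPart_shift hC ψ m hm, hS, Finset.mul_sum]
      refine Finset.sum_congr rfl fun ξ hξ => ?_
      rw [apply_one_red (p := p) (Finset.mem_filter.1 hξ).2]
      push_cast
      ring
    have hp0 : (p : ℂ) ≠ 0 := Nat.cast_ne_zero.2 hM.1.ne_zero
    have hr0 : (red p B ψ : ℂ) ≠ 0 := Nat.cast_ne_zero.2 (red_pos hψ).ne'
    have hX : (C.index : ℂ) * blockPart b (fun c : C => (ψ : G → ℂ) (y * c)) 1 / (ψ : G → ℂ) 1 =
        (U : ℂ) * S / (red p B ψ : ℂ) := by
      rw [hbp, hidx, apply_one_red (p := p) hψ, ← hexp, pow_add]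
      field_simp
    rw [hX]
    intro h
    have h1 : MemLocalIdeal M ((U : ℂ) * S) := by
      have h' := MemLocalIdeal.mul_right hM h (natCast_mem (lRing hM) (red p B ψ))
      rwa [div_mul_cancel₀ _ hr0] at h'
    have h2 : MemLocalIdeal M
        ((U : ℂ) * ((∑ ξ ∈ Finset.univ.filter (· ∈ b), m ξ * red p b ξ : ℕ) : ℂ) - (U : ℂ) * S) := by
      rw [← mul_sub, Nat.cast_sum, hS, ← Finset.sum_sub_distrib]
      refine MemLocalIdeal.mul_left hM (natCast_mem (lRing hM) _) (MemLocalIdeal.sum hM _ fun ξ _ => ?_)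
      rw [show ((m ξ * red p b ξ : ℕ) : ℂ) - ((m ξ * red p b ξ : ℕ) : ℂ) * scal hC ξ =
        -((m ξ * red p b ξ : ℕ) : ℂ) * (scal hC ξ - 1) by ring]
      exact MemLocalIdeal.mul_left hM ((lRing hM).neg_mem (natCast_mem (lRing hM) _))
        (CentralDefect.root_sub_one_mem hM (k := k) (by rw [← hk, scal_pow]))
    have h3 := MemLocalIdeal.add hM h2 h1
    rw [sub_add_cancel, ← Nat.cast_mul, memLocalIdeal_natCast_iff hM] at h3
    exact (hp.out.dvd_mul.1 h3).elim hUp hT
  intro h0
  apply hunit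
  simpa [h0] using MemLocalIdeal.sub hM (memLocalIdeal_zero hM) hdiff

theorem re_normSq_sum_pos {ι : Type*} (s : Finset ι) (f : ι → ℂ) {i : ι} (hi : i ∈ s)
    (hne : f i ≠ 0) : ∑ j ∈ s, f j * conj (f j) ≠ 0 := by
  simp only [Complex.mul_conj, ← Complex.ofReal_sum]
  exact Complex.ofReal_ne_zero.2 (Finset.sum_pos' (fun j _ => Complex.normSq_nonneg _)
    ⟨i, hi, Complex.normSq_pos.2 hne⟩).ne'

variable [Fintype (ConjClasses C)]

/-- The form of the contributions of `b` is a sum of squared absolute values. -/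
theorem sum_contribInt_mul (hM : IsPModular p M) (hb : IsPBlock M b) (a : IrrCharacter C → ℂ) :
    ∑ ξ ∈ Finset.univ.filter (· ∈ b), ∑ η ∈ Finset.univ.filter (· ∈ b),
      (contribInt p b ξ η : ℂ) * (a ξ * conj (a η)) =
    (p : ℂ) ^ blockDefect p b * (Nat.card C : ℂ)⁻¹ *
      ∑ u ∈ Finset.univ.filter (fun u : C => ¬ p ∣ orderOf u),
        (∑ ξ ∈ Finset.univ.filter (· ∈ b), a ξ * (ξ : C → ℂ) u) *
          conj (∑ ξ ∈ Finset.univ.filter (· ∈ b), a ξ * (ξ : C → ℂ) u) := by
  simp only [map_sum, map_mul, Finset.sum_mul_sum]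
  simp only [Finset.mul_sum]
  conv_rhs => rw [Finset.sum_comm]
  refine Finset.sum_congr rfl fun ξ _ => ?_
  conv_rhs => rw [Finset.sum_comm]
  refine Finset.sum_congr rfl fun η hη => ?_
  rw [contribInt_cast hM hb ξ (Finset.mem_filter.1 hη).2, contrib, Contribution.regSum]
  simp only [Finset.mul_sum, Finset.sum_mul]
  exact Finset.sum_congr rfl fun u _ => by ring

/-- `k(B) ≤ p ^ d l(b)` at a major subsection. -/
theorem card_le_mul_rank (hM : IsPModular p M) (hy : ∃ k : ℕ, orderOf y = p ^ k)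
    (hC : C = Subgroup.centralizer ({y} : Set G)) (hind : IsInducedBlock M C b B)
    (hd : blockDefect p b = blockDefect p B) :
    Nat.card B ≤ p ^ blockDefect p b * blockRank p b := by
  have hb := hind.1
  set N := orderOf y with hN
  have hN0 : 0 < N := orderOf_pos y
  choose m hm using fun (χ : IrrCharacter G) (ξ : IrrCharacter C) => exists_mult_res χ ξ
  let R : IrrCharacter C → KGV.rootField N := fun ξ =>
    ⟨scal hC ξ, KGV.mem_rootField_of_pow_eq_one (scal_pow hC ξ)⟩
  let R' : IrrCharacter C → KGV.rootField N := fun ξ =>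
    ⟨conj (scal hC ξ), KGV.conj_mem_rootField (R ξ).2⟩
  let bF := Finset.univ.filter (· ∈ b)
  let t : {χ // χ ∈ B} → KGV.rootField N := fun χ => ∑ ξ ∈ bF, ∑ η ∈ bF,
    ((contribInt p b ξ η * (m χ.1 ξ : ℤ) * (m χ.1 η : ℤ) : ℤ) : KGV.rootField N) * (R ξ * R' η)
  have ht : ∀ χ, (t χ : ℂ) = subContrib p (blockDefect p b) C b y χ.1 χ.1 := by
    intro χ
    rw [subContrib]
    simp only [blockPart_shift hC χ.1 (m χ.1) (hm χ.1)]
    rw [← sum_contribInt_mul hM hb (fun ξ => (m χ.1 ξ : ℂ) * scal hC ξ)]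
    simp only [t, R, R', AddSubmonoidClass.coe_finsetSum, MulMemClass.coe_mul, map_mul,
      Complex.conj_natCast]
    refine Finset.sum_congr rfl fun ξ _ => Finset.sum_congr rfl fun η _ => ?_
    push_cast
    ring
  have hroot : ∀ ξ, IsIntegral ℤ (scal hC ξ) := fun ξ =>
    IsIntegral.of_pow hN0 (by rw [scal_pow]; exact isIntegral_one)
  have h := KGV.card_le_sum_of_totallyPositive hN0 t (fun χ => ?_) (fun χ h0 => ?_)
    (fun σ χ => ?_) ((p ^ blockDefect p b * blockRank p b : ℕ) : ℚ) ?_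
  · rw [Nat.card_eq_fintype_card (α := B)]
    have h' : ((Fintype.card {χ // χ ∈ B} : ℕ) : ℝ) ≤
        ((p ^ blockDefect p b * blockRank p b : ℕ) : ℝ) := by
      simpa using h
    exact Nat.cast_le.1 h'
  · simp only [t, R, R', AddSubmonoidClass.coe_finsetSum, MulMemClass.coe_mul]
    refine IsIntegral.sum _ fun ξ _ => IsIntegral.sum _ fun η _ => IsIntegral.mul ?_
      ((hroot ξ).mul ((hroot η).map ((starRingEnd ℂ).toIntAlgHom)))
    push_cast
    refine ((?_ : IsIntegral ℤ ((contribInt p b ξ η : ℂ))).mul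
      (isIntegral_algebraMap (x := (m χ.1 ξ : ℤ)))).mul (isIntegral_algebraMap (x := (m χ.1 η : ℤ)))
    exact isIntegral_algebraMap (x := contribInt p b ξ η)
  · have h1 : subContrib p (blockDefect p b) C b y χ.1 χ.1 = 0 := by rw [← ht, h0]; rfl
    rw [subContrib, mul_eq_zero] at h1
    refine re_normSq_sum_pos _ _ (i := (1 : C)) ?_
      (blockPart_one_ne_zero hM hy hC hind hd χ.2) (h1.resolve_left ?_)
    · simp [hp.out.not_dvd_one]
    · simp [hM.1.ne_zero]
  · set a : IrrCharacter C → ℂ := fun ξ => (m χ.1 ξ : ℂ) * σ (R ξ) with ha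
    have hR' : ∀ η, σ (R' η) = conj (σ (R η)) := fun η => KGV.map_conj_rootField hN0 σ (R η).2
    refine ⟨(p : ℝ) ^ blockDefect p b * (Nat.card C : ℝ)⁻¹ *
      ∑ u ∈ Finset.univ.filter (fun u : C => ¬ p ∣ orderOf u),
        Complex.normSq (∑ ξ ∈ bF, a ξ * (ξ : C → ℂ) u), mul_nonneg (by positivity)
        (Finset.sum_nonneg fun u _ => Complex.normSq_nonneg _), ?_⟩
    push_cast
    simp only [← Complex.mul_conj]
    rw [← sum_contribInt_mul hM hb a]
    simp only [t, map_sum, map_mul, map_intCast, hR', ha, Complex.conj_natCast]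
    refine Finset.sum_congr rfl fun ξ _ => Finset.sum_congr rfl fun η _ => ?_
    push_cast
    ring
  · simp only [ht]
    rw [Rat.cast_natCast, Nat.cast_mul, Nat.cast_pow,
      ← SubsectionTrace.sum_diag hM _ hy hC hind]
    rw [Finset.sum_subtype (Finset.univ.filter (· ∈ B)) (p := fun χ => χ ∈ B) (by simp)]

end CfsgLib.MajorNonvanish
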