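import Cfsg.Agent.Lib.Blk7.SectionCount
import Cfsg.Agent.Lib.Blocks.ThirdMain
import Cfsg.Agent.Lib.Blocks.RankOrth
import Cfsg.Agent.Lib.Blocks.Kernel
import Cfsg.Agent.Lib.Characters.Clifford
import Cfsg.Agent.S0914
import Mathlib.GroupTheory.Transfer

/-!
The principal 2-block of a group with a Klein four Sylow subgroup and one class of involutions.
-/

set_option autoImplicit false
set_option linter.unusedSectionVars false

noncomputable section

namespace CfsgLib.Blk7

open Cfsg CfsgLib.Characters CfsgLib.Blocks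
open scoped ComplexConjugate

universe u

variable {G : Type u} [Group G] [Fintype G] {p : ℕ} {M : Ideal AlgInt}

theorem sum_regSpan_mul (hM : IsPModular p M) {A : Set (IrrCharacter G)} {f : G → ℂ}
    (hf : f ∈ regSpan p A) {ψ : IrrCharacter G}
    (hψ : ∀ χ ∈ A, ¬ SameBlock M (χ : G → ℂ) (ψ : G → ℂ)) :
    ∑ g, f g * conj ((ψ : G → ℂ) g) = 0 := by
  classical
  induction hf using Submodule.span_induction with
  | mem f hf =>
    obtain ⟨χ, hχ, rfl⟩ := hf
    rw [← sum_regular_eq_zero_of_not_sameBlock hM (hψ χ hχ), Finset.sum_filter]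
    refine Finset.sum_congr rfl fun g _ => ?_
    show pRegularPart p (χ : G → ℂ) g * _ = _
    rw [pRegularPart_apply]
    by_cases hg : IsPRegular p g
    · rw [if_pos hg, if_pos (show ¬ p ∣ orderOf g from hg)]
    · rw [if_neg hg, if_neg (show ¬¬ p ∣ orderOf g from hg), zero_mul]
  | zero => simp
  | add a b _ _ ha hb =>
    simp only [Pi.add_apply, add_mul, Finset.sum_add_distrib]
    rw [ha, hb, add_zero]
  | smul c a _ ha =>
    simp only [Pi.smul_apply, smul_eq_mul, mul_assoc, ← Finset.mul_sum]
    rw [ha, mul_zero]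

omit [Fintype G] in
theorem one_mem_centralizer_one (g : G) : g ∈ Subgroup.centralizer ({(1 : G)} : Set G) := by
  rw [Subgroup.mem_centralizer_singleton_iff, mul_one, one_mul]

theorem finrank_regSpan_inducing_one [Fact p.Prime] (hM : IsPModular p M) {B : Set (IrrCharacter G)}
    (hB : IsPBlock M B) :
    Module.finrank ℂ (regSpan p (inducing M (1 : G) B)) = blockRank p B := by
  classical
  set C := Subgroup.centralizer ({(1 : G)} : Set G)
  have : Fintype C := Fintype.ofFinite C
  have hx : ∃ k : ℕ, orderOf (1 : G) = p ^ k := ⟨0, by rw [orderOf_one, pow_zero]⟩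
  let e : C →* G := C.subtype
  have hsurj : Function.Surjective e := fun g => ⟨⟨g, one_mem_centralizer_one g⟩, rfl⟩
  let L : (G → ℂ) →ₗ[ℂ] (C → ℂ) := LinearMap.funLeft ℂ ℂ (fun c : C => (c : G))
  have hLinj : Function.Injective L := LinearMap.funLeft_injective_of_surjective _ _ _ hsurj
  have hLreg : ∀ χ : IrrCharacter G, L (pRegularPart p (χ : G → ℂ)) =
      regPart p (sectionFun (1 : G) (χ : G → ℂ)) := by
    intro χ
    funext c
    show pRegularPart p (χ : G → ℂ) (c : G) = pRegularPart p (sectionFun (1 : G) (χ : G → ℂ)) c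
    rw [pRegularPart_apply, pRegularPart_apply]
    have hiff : IsPRegular p (c : G) ↔ IsPRegular p c := by
      rw [IsPRegular, IsPRegular, Subgroup.orderOf_coe]
    simp only [hiff, sectionFun, one_mul]
  let inv : G →* C :=
    { toFun := fun g => ⟨g, one_mem_centralizer_one g⟩
      map_one' := rfl
      map_mul' := fun _ _ => rfl }
  have hset : regSpan p (inducing M (1 : G) B) = (regSpan p B).map L := by
    apply le_antisymm
    · refine Submodule.span_le.2 ?_
      rintro _ ⟨ξ, hξ, rfl⟩
      let χ : IrrCharacter G := ⟨fun g => (ξ : C → ℂ) (inv g),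
        CfsgLib.Clifford.isIrrCharacter_pullback ξ.2 inv fun c => ⟨(c : G), rfl⟩⟩
      have heq : L (pRegularPart p (χ : G → ℂ)) = pRegularPart p (ξ : C → ℂ) := by
        rw [hLreg]
        show pRegularPart p (sectionFun (1 : G) (χ : G → ℂ)) = _
        congr 1
        funext c
        show (ξ : C → ℂ) (inv (1 * (c : G))) = _
        rw [one_mul]
        rfl
      refine Submodule.mem_map.2 ⟨_, Submodule.subset_span ⟨χ, ?_, rfl⟩, heq⟩
      by_contra hχ
      have h1 := (section_mem hM hx hB χ).2 hχ
      rw [← hLreg, heq] at h1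
      have h2 : pRegularPart p (ξ : C → ℂ) ∈ regSpan p (inducing M (1 : G) B) :=
        Submodule.subset_span ⟨ξ, hξ, rfl⟩
      have h3 : pRegularPart p (ξ : C → ℂ) = 0 := by
        rw [← Submodule.mem_bot ℂ, ← regSpan_disjoint hM (inducing_not_sameBlock hM (1 : G) B)]
        exact ⟨h2, h1⟩
      exact CfsgLib.RankOrth.pRegularPart_one_ne_zero hM.1 ξ h3
    · rw [regSpan, Submodule.map_span, Submodule.span_le]
      rintro _ ⟨_, ⟨χ, hχ, rfl⟩, rfl⟩
      show L (pRegularPart p (χ : G → ℂ)) ∈ _
      rw [hLreg]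
      exact (section_mem hM hx hB χ).1 hχ
  rw [hset, blockRank_eq]
  exact ((regSpan p B).equivMapOfInjective L hLinj).finrank_eq.symm

/-- With a normal `p`-complement the principal block has one Brauer character. -/
theorem blockRank_principal_of_complement (hM : IsPModular p M) {R : Subgroup G} [R.Normal]
    (hR : ¬ p ∣ Nat.card R) (hreg : ∀ y : G, ¬ p ∣ orderOf y → y ∈ R) :
    blockRank p (principalBlock M G) = 1 := by
  classical
  have htriv : principalIrr G ∈ principalBlock M G := by
    rw [principalBlock_eq]; exact mem_blockOf_self hM _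
  have hne : pRegularPart p ((principalIrr G : IrrCharacter G) : G → ℂ) ≠ 0 :=
    CfsgLib.RankOrth.pRegularPart_one_ne_zero hM.1 _
  rw [blockRank_eq]
  have : regSpan p (principalBlock M G) =
      Submodule.span ℂ {pRegularPart p ((principalIrr G : IrrCharacter G) : G → ℂ)} := by
    refine le_antisymm (Submodule.span_le.2 ?_) (Submodule.span_le.2 ?_)
    · rintro _ ⟨χ, hχ, rfl⟩
      refine Submodule.mem_span_singleton.2 ⟨(χ : G → ℂ) 1, ?_⟩
      funext g
      show (χ : G → ℂ) 1 * pRegularPart p ((principalIrr G : IrrCharacter G) : G → ℂ) g =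
        pRegularPart p (χ : G → ℂ) g
      rw [pRegularPart_apply, pRegularPart_apply]
      by_cases hg : IsPRegular p g
      · rw [if_pos hg, if_pos hg, principalBlock_kernel hM hχ hR (hreg g hg)]
        exact mul_one _
      · rw [if_neg hg, if_neg hg, mul_zero]
    · rintro _ rfl
      exact Submodule.subset_span ⟨_, htriv, rfl⟩
  rw [this]
  exact finrank_span_singleton hne

omit [Fintype G] in
theorem two_element_sq [Finite G] (P : Sylow 2 G) (hexp : ∀ x : P, x * x = 1) {x : G}
    (hx : ∃ k : ℕ, orderOf x = 2 ^ k) : x * x = 1 := by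
  obtain ⟨k, hk⟩ := hx
  obtain ⟨Q, hQ⟩ := (IsPGroup.of_card ((Nat.card_zpowers x).trans hk)).exists_le_sylow
  obtain ⟨g, rfl⟩ := MulAction.exists_smul_eq G P Q
  have hxQ := hQ (Subgroup.mem_zpowers x)
  rw [Sylow.coe_subgroup_smul, Subgroup.mem_pointwise_smul_iff_inv_smul_mem] at hxQ
  simp only [map_inv, MulAut.smul_def, MulAut.inv_apply, MulAut.conj_symm_apply] at hxQ
  have h1 : g⁻¹ * x * g * (g⁻¹ * x * g) = 1 :=
    congrArg (fun z : P => (z : G)) (hexp ⟨_, hxQ⟩)
  calc x * x = g * ((g⁻¹ * x * g) * (g⁻¹ * x * g)) * g⁻¹ := by group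
    _ = g * 1 * g⁻¹ := by rw [h1]
    _ = 1 := by group

/-- The centralizer of an involution. -/
theorem centralizer_structure (P : Sylow 2 G) (hP : Nat.card P = 4) (hexp : ∀ x : P, x * x = 1)
    {t : G} (ht : orderOf t = 2) :
    ∃ R : Subgroup ↥(Subgroup.centralizer ({t} : Set G)), R.Normal ∧ ¬ 2 ∣ Nat.card R ∧
      Nat.card R * 4 = Nat.card ↥(Subgroup.centralizer ({t} : Set G)) ∧
      ∀ y, ¬ 2 ∣ orderOf y ↔ y ∈ R := by
  classical
  set C := Subgroup.centralizer ({t} : Set G) with hC
  obtain ⟨S⟩ := (inferInstance : Nonempty (Sylow 2 C))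
  have hsq : ∀ x : C, (∃ k : ℕ, orderOf x = 2 ^ k) → x * x = 1 := fun x hx => by
    apply Subtype.ext
    exact two_element_sq P hexp (by simpa [Subgroup.orderOf_coe] using hx)
  have hSsq : ∀ x ∈ (S : Subgroup C), x * x = 1 := fun x hx => hsq x (by
    obtain ⟨k, hk⟩ := IsPGroup.iff_orderOf.1 S.2 ⟨x, hx⟩
    exact ⟨k, hk ▸ (Subgroup.orderOf_mk x hx).symm⟩)
  have hScomm : ∀ x ∈ (S : Subgroup C), ∀ y ∈ (S : Subgroup C), x * y = y * x := by
    intro x hx y hy
    calc x * y = (x * y) * ((y * x) * (y * x)) := by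
          rw [hSsq (y * x) (mul_mem hy hx), mul_one]
      _ = x * (y * y) * x * (y * x) := by group
      _ = y * x := by rw [hSsq y hy, mul_one, hSsq x hx, one_mul]
  have hPeq : ∀ Q : Sylow 2 G, Nat.card Q = 4 := fun Q => by
    rw [← hP, Q.card_eq_multiplicity, P.card_eq_multiplicity]
  have hS4 : Nat.card S = 4 := by
    refine Nat.dvd_antisymm ?_ ?_
    · obtain ⟨Q, hQ⟩ := (S.2.map C.subtype).exists_le_sylow
      have h1 := Subgroup.card_dvd_of_le hQ
      rwa [← Nat.card_congr ((S : Subgroup C).equivMapOfInjective C.subtype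
        Subtype.val_injective).toEquiv, hPeq] at h1
    · obtain ⟨Q, hQ⟩ := (IsPGroup.of_card (p := 2) (n := 1)
        ((Nat.card_zpowers t).trans (by rw [ht, pow_one]))).exists_le_sylow
      have hQC : (Q : Subgroup G) ≤ C := fun y hy => by
        rw [hC, Subgroup.mem_centralizer_singleton_iff]
        have htQ := hQ (Subgroup.mem_zpowers t)
        have hsq2 : ∀ z ∈ (Q : Subgroup G), z * z = 1 := fun z hz => two_element_sq P hexp (by
          obtain ⟨k, hk⟩ := IsPGroup.iff_orderOf.1 Q.2 ⟨z, hz⟩
          exact ⟨k, by rw [← hk, Subgroup.orderOf_mk]⟩)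
        calc y * t = (y * t) * ((t * y) * (t * y)) := by
              rw [hsq2 _ (mul_mem htQ hy), mul_one]
          _ = y * (t * t) * y * (t * y) := by group
          _ = t * y := by rw [hsq2 t htQ, mul_one, hsq2 y hy, one_mul]
      have h1 := Subgroup.card_dvd_of_le hQC
      rw [hPeq] at h1
      rw [S.card_eq_multiplicity, show (4 : ℕ) = 2 ^ 2 by norm_num]
      exact pow_dvd_pow 2 ((Nat.prime_two.pow_dvd_iff_le_factorization Nat.card_pos.ne').1
        ((show (2:ℕ) ^ 2 = 4 by norm_num).symm ▸ h1))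
  let t' : C := ⟨t, Subgroup.mem_centralizer_singleton_iff.2 rfl⟩
  have ht'ord : orderOf t' = 2 := by rw [← Subgroup.orderOf_coe]; exact ht
  have ht'ne : t' ≠ 1 := fun h => by rw [h, orderOf_one] at ht'ord; omega
  have ht'c : ∀ y : C, y * t' = t' * y := fun y => Subtype.ext
    (Subgroup.mem_centralizer_singleton_iff.1 y.2)
  have hjoin : ∀ x : C, (∃ k : ℕ, orderOf x = 2 ^ k) →
      x ∈ Subgroup.normalizer ((S : Subgroup C) : Set C) → x ∈ (S : Subgroup C) := by
    intro x hx hn
    obtain ⟨k, hk⟩ := hx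
    have h1 : IsPGroup 2 (Subgroup.zpowers x ⊔ S : Subgroup C) :=
      (IsPGroup.of_card ((Nat.card_zpowers x).trans hk)).to_sup_of_normal_right' S.2
        (Subgroup.zpowers_le.2 hn)
    rw [← S.3 h1 le_sup_right]
    exact (le_sup_left : Subgroup.zpowers x ≤ _) (Subgroup.mem_zpowers x)
  have ht'S : t' ∈ (S : Subgroup C) := by
    refine hjoin t' ⟨1, by rw [ht'ord, pow_one]⟩ ?_
    rw [Subgroup.mem_normalizer_iff]
    intro a
    have : t' * a * t'⁻¹ = a := by rw [← ht'c a, mul_inv_cancel_right]
    rw [this]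
  have hNC : Subgroup.normalizer ((S : Subgroup C) : Set C) ≤
      Subgroup.centralizer ((S : Subgroup C) : Set C) := by
    intro n hn
    rw [Subgroup.mem_centralizer_iff]
    intro a ha
    rcases eq_or_ne a 1 with rfl | ha1
    · rw [one_mul, mul_one]
    rcases eq_or_ne a t' with rfl | hat
    · exact (ht'c n).symm
    have hfour : ∀ s : C, s ∈ (S : Subgroup C) → s = 1 ∨ s = t' ∨ s = a ∨ s = a * t' := by
      intro s hs
      by_contra hne
      push Not at hne
      obtain ⟨h1, h2, h3, h4⟩ := hne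
      have hsub : ({1, t', a, a * t', s} : Finset C) ⊆
          Finset.univ.filter (fun z => z ∈ (S : Subgroup C)) := by
        intro z hz
        simp only [Finset.mem_insert, Finset.mem_singleton] at hz
        simp only [Finset.mem_filter, Finset.mem_univ, true_and]
        rcases hz with rfl | rfl | rfl | rfl | rfl
        exacts [one_mem _, ht'S, ha, mul_mem ha ht'S, hs]
      have h5 := Finset.card_le_card hsub
      rw [← Fintype.card_subtype, ← Nat.card_eq_fintype_card, hS4] at h5
      have e1 : a * t' ≠ 1 := fun h => hat (by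
        rw [← mul_one a, ← hSsq t' ht'S, ← mul_assoc, h, one_mul])
      have e2 : a * t' ≠ t' := fun h => ha1 (mul_eq_right.1 h)
      have e3 : a * t' ≠ a := fun h => ht'ne (mul_eq_left.1 h)
      rw [Finset.card_insert_of_notMem (by simp [ht'ne.symm, ha1.symm, e1.symm, h1.symm]),
        Finset.card_insert_of_notMem (by simp [hat.symm, e2.symm, h2.symm]),
        Finset.card_insert_of_notMem (by simp [e3.symm, h3.symm]),
        Finset.card_insert_of_notMem (by simp [h4.symm]), Finset.card_singleton] at h5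
      omega
    rcases hfour _ ((Subgroup.mem_normalizer_iff.1 hn a).1 ha) with h | h | h | h
    · exact absurd (conj_eq_one_iff.1 h) ha1
    · refine absurd ?_ hat
      have h' : n * a * n⁻¹ = n * t' * n⁻¹ := by rw [h, ht'c n, mul_inv_cancel_right]
      exact mul_left_cancel (mul_right_cancel h')
    · conv_lhs => rw [← h]
      rw [inv_mul_cancel_right]
    · exfalso
      have hiter : ∀ j : ℕ, n ^ j * a * (n ^ j)⁻¹ = a * t' ^ j := by
        intro j
        induction j with
        | zero => simp
        | succ j ih =>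
          calc n ^ (j + 1) * a * (n ^ (j + 1))⁻¹
              = n * (n ^ j * a * (n ^ j)⁻¹) * n⁻¹ := by rw [pow_succ']; group
            _ = (n * a * n⁻¹) * (n * t' ^ j * n⁻¹) := by rw [ih]; group
            _ = a * t' * t' ^ j := by
              rw [h]
              congr 1
              have hc : Commute n (t' ^ j) := Commute.pow_right (ht'c n) j
              rw [hc.eq, mul_inv_cancel_right]
            _ = a * t' ^ (j + 1) := by rw [pow_succ', mul_assoc]
      set k := orderOf n / 2 ^ (orderOf n).factorization 2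
      have hk : ¬ 2 ∣ k := Nat.not_dvd_ordCompl Nat.prime_two (orderOf_pos n).ne'
      have hnk : n ^ k ∈ (S : Subgroup C) := by
        refine hjoin _ ?_ (pow_mem hn k)
        have h1 : orderOf (n ^ k) ∣ 2 ^ (orderOf n).factorization 2 := by
          refine orderOf_dvd_of_pow_eq_one ?_
          rw [← pow_mul, mul_comm, Nat.ordProj_mul_ordCompl_eq_self, pow_orderOf_eq_one]
        obtain ⟨i, -, hi⟩ := (Nat.dvd_prime_pow Nat.prime_two).1 h1
        exact ⟨i, hi⟩
      have h2 := hiter k
      rw [hScomm _ hnk a ha, mul_inv_cancel_right] at h2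
      have h3 : t' ^ k = 1 := mul_eq_left.1 h2.symm
      exact hk (ht'ord ▸ orderOf_dvd_of_pow_eq_one h3)
  set f := MonoidHom.transferSylow S hNC
  have hcompl : Subgroup.IsComplement' f.ker (S : Subgroup C) :=
    MonoidHom.ker_transferSylow_isComplement' S hNC
  have hcard : Nat.card f.ker * 4 = Nat.card C := by
    rw [← hS4]; exact hcompl.card_mul_card
  have hodd : ¬ 2 ∣ Nat.card f.ker := fun h => by
    have h1 : 2 ^ 2 * 2 ∣ Nat.card C := by
      rw [← hcard, mul_comm (Nat.card f.ker)]
      exact mul_dvd_mul_left _ h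
    have h2 : (Nat.card C).factorization 2 = 2 := by
      have h4 := S.card_eq_multiplicity
      rw [hS4, show (4 : ℕ) = 2 ^ 2 by norm_num] at h4
      exact (Nat.pow_right_injective le_rfl h4).symm
    exact Nat.pow_succ_factorization_not_dvd Nat.card_pos.ne' Nat.prime_two (by rw [h2]; exact h1)
  refine ⟨f.ker, f.normal_ker, hodd, hcard, fun y => ⟨fun hy => ?_, fun hy h => ?_⟩⟩
  · rw [MonoidHom.mem_ker, ← orderOf_eq_one_iff]
    have h1 : orderOf (f y) ∣ 2 ^ 2 := by
      have := orderOf_dvd_natCard (f y)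
      rwa [hS4] at this
    exact Nat.dvd_one.1 (((Nat.prime_two.coprime_iff_not_dvd.2 hy).pow_left 2).symm.gcd_eq_one ▸
      Nat.dvd_gcd (orderOf_map_dvd f y) h1)
  · exact hodd (h.trans (Subgroup.orderOf_mk y hy ▸ orderOf_dvd_natCard (⟨y, hy⟩ : f.ker)))

/-- The value of a character at an involution is an integer. -/
theorem exists_int_value {t : G} (ht : orderOf t = 2) (χ : IrrCharacter G) :
    ∃ z : ℤ, (χ : G → ℂ) t = (z : ℂ) := by
  obtain ⟨n, ρ, -, hρ⟩ := χ.2
  obtain ⟨ω, hω, -, hsum⟩ := exists_eigenvalues ρ t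
  rw [← hρ, hsum]
  have h : ∀ i, ∃ z : ℤ, ω i = (z : ℂ) := fun i => by
    have := hω i
    rw [ht, sq_eq_one_iff] at this
    rcases this with h | h
    · exact ⟨1, by rw [h, Int.cast_one]⟩
    · exact ⟨-1, by rw [h, Int.cast_neg, Int.cast_one]⟩
  choose z hz using h
  exact ⟨∑ i, z i, by rw [Int.cast_sum]; exact Finset.sum_congr rfl fun i _ => hz i⟩

/-- The principal block has rank three. -/
theorem klein_blockRank [Fact (Nat.Prime 2)] (hM : IsPModular 2 M) (P : Sylow 2 G) (hP : Nat.card P = 4)
    (hexp : ∀ x : P, x * x = 1)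
    (hone : ∀ s t : G, orderOf s = 2 → orderOf t = 2 → IsConj s t) :
    blockRank 2 (principalBlock M G) = 3 := by
  classical
  obtain ⟨t, ht⟩ := exists_prime_orderOf_dvd_card' (G := G) 2
    ((by norm_num : (2 : ℕ) ∣ 4).trans (hP ▸ Subgroup.card_subgroup_dvd_card _))
  set C := Subgroup.centralizer ({t} : Set G) with hC
  have : Fintype C := Fintype.ofFinite C
  obtain ⟨R, hRn, hRodd, hRcard, hreg⟩ := centralizer_structure P hP hexp ht
  set B := principalBlock M G
  have hB : IsPBlock M B := isPBlock_principalBlock M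
  have htord : ∃ k : ℕ, orderOf t = 2 ^ k := ⟨1, by rw [ht, pow_one]⟩
  have hind : inducing M t B = principalBlock M C := by
    ext ξ
    show IsInducedBlock M C (blockOf M (ξ : C → ℂ)) B ↔ _
    rw [isInducedBlock_principal_iff hM C (inducedBlockDefined_centralizer hM htord (isPBlock_blockOf ξ))]
    exact ⟨fun h => h ▸ mem_blockOf_self hM ξ,
      fun h => (IsPBlock.eq_blockOf hM (isPBlock_principalBlock M) h).symm⟩
  have hrankt : Module.finrank ℂ (regSpan 2 (inducing M t B)) = 1 := by
    rw [hind, ← blockRank_eq]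
    exact blockRank_principal_of_complement hM hRodd fun y hy => (hreg y).1 hy
  -- the column of `t` in the principal block
  have hconst : ∀ χ ∈ B, ∀ y ∈ R, (χ : G → ℂ) (t * (y : G)) = (χ : G → ℂ) t :=
    fun χ hχ y hy => principal_apply_mul hM htord hRodd hy hχ
  have hout : ∀ χ : IrrCharacter G, χ ∉ B →
      ∑ y ∈ Finset.univ.filter (fun y : C => y ∈ R), (χ : G → ℂ) (t * (y : G)) = 0 := by
    intro χ hχ
    have hmem : principalIrr C ∈ inducing M t B := by
      rw [hind, principalBlock_eq]; exact mem_blockOf_self hM _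
    have h := sum_regSpan_mul hM ((section_mem hM htord hB χ).2 hχ) (ψ := principalIrr C)
      fun ξ hξ h' => hξ (inducing_closed hM t B hmem (SameBlock.symm hM h'))
    rw [← h, Finset.sum_filter]
    refine Finset.sum_congr rfl fun y _ => ?_
    show (if y ∈ R then (χ : G → ℂ) (t * (y : G)) else 0) =
      pRegularPart 2 (sectionFun t (χ : G → ℂ)) y * conj (1 : ℂ)
    rw [map_one, mul_one, pRegularPart_apply]
    simp only [show IsPRegular 2 y ↔ y ∈ R from hreg y]
    rfl
  have hcol : ∀ y ∈ R, ∑ χ : IrrCharacter G, (χ : G → ℂ) (t * (y : G)) * conj ((χ : G → ℂ) t) =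
      if (y : C) = 1 then (Nat.card C : ℂ) else 0 := by
    intro y hy
    rw [column_orth]
    by_cases hy1 : y = 1
    · subst hy1
      rw [if_pos (by rw [OneMemClass.coe_one, mul_one]), if_pos rfl]
      simp [hC]
    · rw [if_neg hy1, if_neg]
      intro hcon
      apply hy1
      obtain ⟨a, ha⟩ := isConj_iff.1 hcon
      have h2 : orderOf (t * (y : G)) = 2 := by
        calc orderOf (t * (y : G)) = orderOf (a * (t * (y : G)) * a⁻¹) := by
              rw [← MulAut.conj_apply, MulEquiv.orderOf_eq]
          _ = 2 := by rw [ha, ht]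
      have hc : Commute t (y : G) := commute_centralizer y
      have h3 : ((y : G)) ^ 2 = 1 := by
        have h4 := pow_orderOf_eq_one (t * (y : G))
        rw [h2, hc.mul_pow, show t ^ 2 = 1 from ht ▸ pow_orderOf_eq_one t, one_mul] at h4
        exact h4
      have h5 : orderOf y ∣ 2 := by
        rw [← Subgroup.orderOf_coe]; exact orderOf_dvd_of_pow_eq_one h3
      rcases (Nat.dvd_prime Nat.prime_two).1 h5 with h6 | h6
      · exact orderOf_eq_one_iff.1 h6
      · exact absurd (dvd_of_eq h6.symm) ((hreg y).2 hy)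
  choose z hz using exists_int_value ht (G := G)
  set RF := Finset.univ.filter (fun y : C => y ∈ R)
  have hRF : (RF.card : ℂ) = Nat.card R := by
    rw [Nat.card_eq_fintype_card, Fintype.card_subtype]
  have htotal : ∑ χ ∈ Finset.univ.filter (· ∈ B), z χ ^ 2 = 4 := by
    have h1 : ∑ χ : IrrCharacter G, (∑ y ∈ RF, (χ : G → ℂ) (t * (y : G))) * conj ((χ : G → ℂ) t) =
        (Nat.card C : ℂ) := by
      simp only [Finset.sum_mul]
      rw [Finset.sum_comm, Finset.sum_congr rfl fun y hy => hcol y (Finset.mem_filter.1 hy).2,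
        Finset.sum_ite_eq' RF (1 : C) fun _ => (Nat.card C : ℂ), if_pos]
      exact Finset.mem_filter.2 ⟨Finset.mem_univ _, one_mem R⟩
    have h2 : ∀ χ : IrrCharacter G, (∑ y ∈ RF, (χ : G → ℂ) (t * (y : G))) * conj ((χ : G → ℂ) t) =
        if χ ∈ B then (Nat.card R : ℂ) * ((z χ ^ 2 : ℤ) : ℂ) else 0 := by
      intro χ
      split_ifs with hχ
      · rw [Finset.sum_congr rfl fun y hy => hconst χ hχ y (Finset.mem_filter.1 hy).2,
          Finset.sum_const, nsmul_eq_mul, hRF, hz, map_intCast]
        push_cast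
        ring
      · rw [hout χ hχ, zero_mul]
    rw [Finset.sum_congr rfl fun χ _ => h2 χ, ← Finset.sum_filter, ← Finset.mul_sum, ← Int.cast_sum,
      ← hRcard, Nat.cast_mul] at h1
    have h3 := mul_left_cancel₀ (Nat.cast_ne_zero.2 (Nat.card_pos (α := R)).ne' : (Nat.card R : ℂ) ≠ 0) h1
    exact_mod_cast h3
  have hznz : ∀ χ ∈ B, z χ ≠ 0 := by
    intro χ hχ h0
    have hχt : (χ : G → ℂ) t = 0 := by rw [hz, h0, Int.cast_zero]
    have hvan : ∀ g : G, 2 ∣ orderOf g → (χ : G → ℂ) g = 0 := by
      intro g hg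
      obtain ⟨u, hu⟩ := exists_isPPart hM.1 g
      obtain ⟨w, hw, hc, hord, hwp⟩ := hu
      have hu2 : orderOf u = 2 := by
        have h := two_element_sq P hexp hord
        rcases (Nat.dvd_prime Nat.prime_two).1 (orderOf_dvd_of_pow_eq_one ((sq u).trans h)) with h1 | h1
        · rw [orderOf_eq_one_iff] at h1
          exact absurd (by rwa [← hw, h1, one_mul] at hg) hwp
        · exact h1
      obtain ⟨a, ha⟩ := isConj_iff.1 (hone u t hu2 ht)
      have hcw : a * w * a⁻¹ ∈ C := by
        rw [hC, Subgroup.mem_centralizer_singleton_iff, ← ha]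
        exact (hc.map (MulAut.conj a).toMonoidHom).symm
      have hyR : (⟨_, hcw⟩ : C) ∈ R := (hreg _).1 (by
        rw [← Subgroup.orderOf_coe]
        show ¬ 2 ∣ orderOf (MulAut.conj a w)
        rwa [MulEquiv.orderOf_eq])
      have h3 := hconst χ hχ _ hyR
      rw [hχt] at h3
      rw [classFunction_eq_of_isConj (irr_isClassFunction χ)
        (b := t * (a * w * a⁻¹)) (isConj_iff.2 ⟨a, by rw [← hw, ← ha]; group⟩)]
      exact h3
    obtain ⟨n, hn0, hn⟩ := irr_exists_degree χ.2
    have : Fintype P := Fintype.ofFinite P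
    obtain ⟨k, hk⟩ := classInner_char_nat (CfsgLib.Clifford.isCharacter_subtype (irr_isCharacter χ) (P : Subgroup G))
      (isCharacter_one (G := P))
    have hsum : ∑ x : P, (χ : G → ℂ) x = n := by
      rw [Finset.sum_eq_single 1]
      · exact hn
      · intro x _ hx
        refine hvan _ ?_
        obtain ⟨j, hj⟩ := IsPGroup.iff_orderOf.1 P.isPGroup' x
        rw [Subgroup.orderOf_coe, hj]
        refine dvd_pow_self 2 ?_
        rintro rfl
        exact hx (orderOf_eq_one_iff.1 (by rw [hj, pow_zero]))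
      · simp
    have h4n : 4 ∣ n := by
      refine ⟨k, ?_⟩
      simp only [classInner, Pi.one_apply, map_one, mul_one] at hk
      rw [hsum, hP] at hk
      rw [inv_mul_eq_iff_eq_mul₀ (by norm_num)] at hk
      exact_mod_cast hk
    have hdz : ¬ 2 ∣ Nat.card G / charDegree (χ : G → ℂ) := by
      have hdeg : charDegree (χ : G → ℂ) = n := by
        rw [charDegree, hn, Complex.natCast_re, Nat.floor_natCast]
      obtain ⟨n', hn', -, hdvd⟩ := irr_degree_dvd_card χ
      have hnn : n = n' := by exact_mod_cast hn.symm.trans hn'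
      obtain ⟨q, hq⟩ := hnn ▸ hdvd
      rw [hdeg, hq, Nat.mul_div_cancel_left q hn0]
      intro h2
      have h8 : 2 ^ 3 ∣ Nat.card G := by
        rw [hq, show (2 : ℕ) ^ 3 = 4 * 2 by norm_num]
        exact mul_dvd_mul h4n h2
      have h9 := P.card_eq_multiplicity
      rw [hP, show (4 : ℕ) = 2 ^ 2 by norm_num] at h9
      have := (Nat.prime_two.pow_dvd_iff_le_factorization Nat.card_pos.ne').1 h8
      have := Nat.pow_right_injective le_rfl h9
      omega
    have hblock := (Cfsg.Agent.S0914.result 2 M hM χ).1 hdz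
    rw [← IsPBlock.eq_blockOf hM hB hχ] at hblock
    have htriv : principalIrr G ∈ B := mem_blockOf_self hM (principalIrr G)
    rw [hblock, Set.mem_singleton_iff] at htriv
    rw [← htriv] at hχt
    exact one_ne_zero (show (1 : ℂ) = 0 from hχt)
  have hcard : Nat.card B = 4 := by
    set BF := Finset.univ.filter (fun χ : IrrCharacter G => χ ∈ B)
    have hone' : principalIrr G ∈ BF :=
      Finset.mem_filter.2 ⟨Finset.mem_univ _, mem_blockOf_self hM (principalIrr G)⟩
    have hz1 : z (principalIrr G) = 1 := by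
      have h := hz (principalIrr G)
      change (1 : ℂ) = _ at h
      exact_mod_cast h.symm
    have hone1 : ∀ χ ∈ BF, z χ ^ 2 = 1 := by
      intro χ hχ
      rcases eq_or_ne χ (principalIrr G) with rfl | hne
      · rw [hz1]; norm_num
      have h1 : z χ ^ 2 + z (principalIrr G) ^ 2 ≤ 4 := by
        rw [← htotal, ← Finset.sum_pair (f := fun ψ => z ψ ^ 2) hne]
        refine Finset.sum_le_sum_of_subset_of_nonneg ?_ fun _ _ _ => sq_nonneg _
        intro ψ hψ
        simp only [Finset.mem_insert, Finset.mem_singleton] at hψ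
        rcases hψ with rfl | rfl <;> assumption
      rw [hz1] at h1
      have h2 := hznz χ (Finset.mem_filter.1 hχ).2
      have hlt : z χ < 2 := by nlinarith
      have hgt : -2 < z χ := by nlinarith
      have hcases : z χ = 1 ∨ z χ = -1 := by omega
      rcases hcases with h | h <;> rw [h] <;> norm_num
    have h3 : (BF.card : ℤ) = 4 := by
      rw [← htotal, Finset.sum_congr rfl hone1, Finset.sum_const, nsmul_eq_mul, mul_one]
    rw [Nat.card_coe_set_eq, ← Set.ncard_coe_finset BF |>.trans (by norm_num; exact_mod_cast h3 : BF.card = 4)]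
    congr 1
    ext χ
    simp [BF]
  have h1t : (1 : G) ≠ t := fun h => by rw [← h, orderOf_one] at ht; omega
  have hcount := card_block_eq hM hB ({1, t} : Finset G)
    (fun x hx => by
      rcases Finset.mem_insert.1 hx with rfl | hx
      · exact ⟨0, by rw [orderOf_one, pow_zero]⟩
      · rw [Finset.mem_singleton.1 hx]; exact htord)
    (fun g hg => by
      have h := two_element_sq P hexp hg
      rcases (Nat.dvd_prime Nat.prime_two).1 (orderOf_dvd_of_pow_eq_one ((sq g).trans h)) with h1 | h1
      · rw [orderOf_eq_one_iff] at h1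
        subst h1
        refine ⟨1, ⟨Finset.mem_insert_self _ _, IsConj.refl _⟩, fun x hx => ?_⟩
        exact isConj_one_right.1 hx.2
      · refine ⟨t, ⟨Finset.mem_insert_of_mem (Finset.mem_singleton_self _), hone g t h1 ht⟩,
          fun x hx => ?_⟩
        rcases Finset.mem_insert.1 hx.1 with rfl | hx1
        · rw [isConj_one_left.1 hx.2, orderOf_one] at h1; omega
        · exact Finset.mem_singleton.1 hx1)
  rw [Finset.sum_pair h1t, finrank_regSpan_inducing_one hM hB, hrankt, hcard] at hcount
  omega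

end CfsgLib.Blk7
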