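import Cfsg.Agent.S4591
import Cfsg.Agent.Lib.Characters.ExtensionUnique
import Cfsg.Agent.Lib.BlockCover.PValues
import Cfsg.Agent.Lib.Blocks.PPart
import Mathlib.LinearAlgebra.Trace

/-!
Extension of an invariant character over a `p`-quotient, its congruences modulo `p`, and the
orthogonality relation used to split the twisted group algebra of the extension.
-/

set_option autoImplicit false

noncomputable section

namespace CfsgLib.FongRep

open Cfsg

universe u

/-- Schur's relation for products of traces. -/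
theorem sum_trace_mul_trace {X : Type u} [Group X] [Fintype X] {d : ℕ}
    (ρ : Representation ℂ X (Fin d → ℂ)) [ρ.IsIrreducible] (A B : Module.End ℂ (Fin d → ℂ)) :
    ∑ x : X, LinearMap.trace ℂ _ (A * ρ x⁻¹) * LinearMap.trace ℂ _ (B * ρ x) =
      (Fintype.card X : ℂ) / d * LinearMap.trace ℂ _ (A * B) := by
  classical
  have hd : (d : ℂ) ≠ 0 := Nat.cast_ne_zero.2 (CfsgLib.CharExtension.pos_of_irreducible ρ).ne'
  -- the average of a map is scalar
  have havg : ∀ T : Module.End ℂ (Fin d → ℂ), ∑ x : X, ρ x⁻¹ * T * ρ x =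
      ((Fintype.card X : ℂ) / d * LinearMap.trace ℂ _ T) • (1 : Module.End ℂ (Fin d → ℂ)) := by
    intro T
    obtain ⟨c, hc⟩ := CfsgLib.CharExtension.exists_scalar_of_commute ρ
      (∑ x : X, ρ x⁻¹ * T * ρ x) fun y => by
      rw [Finset.sum_mul, Finset.mul_sum]
      refine Fintype.sum_equiv (Equiv.mulRight y) _ _ fun x => ?_
      simp only [Equiv.coe_mulRight, mul_inv_rev, map_mul]
      simp only [← mul_assoc, ← map_mul, mul_inv_cancel, one_mul]
      simp only [map_mul, mul_assoc]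
    rw [hc, Algebra.algebraMap_eq_smul_one]
    congr 1
    have h := congrArg (LinearMap.trace ℂ (Fin d → ℂ)) hc
    rw [map_sum, Algebra.algebraMap_eq_smul_one, map_smul, LinearMap.trace_one,
      Module.finrank_fin_fun, smul_eq_mul] at h
    rw [Finset.sum_congr rfl (fun x _ => show LinearMap.trace ℂ _ (ρ x⁻¹ * T * ρ x) =
      LinearMap.trace ℂ _ T by
        rw [LinearMap.trace_mul_comm, ← mul_assoc, ← map_mul, mul_inv_cancel, map_one, one_mul]),
      Finset.sum_const, Finset.card_univ, nsmul_eq_mul] at h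
    field_simp
    linear_combination -h
  let M : Module.End ℂ (Fin d → ℂ) ≃ₐ[ℂ] Matrix (Fin d) (Fin d) ℂ := LinearMap.toMatrixAlgEquiv'
  have htr : ∀ T, LinearMap.trace ℂ (Fin d → ℂ) T = ∑ i, M T i i := fun T => by
    rw [LinearMap.trace_eq_matrix_trace ℂ (Pi.basisFun ℂ (Fin d)), Matrix.trace,
      LinearMap.toMatrix_eq_toMatrix']
    rfl
  -- rank one maps split the product of two traces
  let E : Fin d → Fin d → Module.End ℂ (Fin d → ℂ) := fun i k => M.symm (Matrix.single i k 1)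
  have hsplit : ∀ S T : Module.End ℂ (Fin d → ℂ), ∀ i k,
      M S i i * M T k k = M (S * E i k * T) i k := by
    intro S T i k
    rw [map_mul, map_mul, AlgEquiv.apply_symm_apply, Matrix.mul_apply,
      Finset.sum_eq_single k]
    · rw [Matrix.mul_single_apply_same, mul_one]
    · intro b _ hb
      rw [Matrix.mul_single_apply_of_ne _ _ _ _ _ hb, zero_mul]
    · simp
  calc ∑ x : X, LinearMap.trace ℂ _ (A * ρ x⁻¹) * LinearMap.trace ℂ _ (B * ρ x)
      = ∑ x : X, ∑ i, ∑ k, M (A * (ρ x⁻¹ * (E i k * B) * ρ x)) i k := by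
        refine Finset.sum_congr rfl fun x _ => ?_
        rw [htr, htr, Finset.sum_mul_sum]
        refine Finset.sum_congr rfl fun i _ => Finset.sum_congr rfl fun k _ => ?_
        rw [hsplit]
        simp only [mul_assoc]
    _ = ∑ i, ∑ k, M (A * ∑ x : X, ρ x⁻¹ * (E i k * B) * ρ x) i k := by
        rw [Finset.sum_comm]
        refine Finset.sum_congr rfl fun i _ => ?_
        rw [Finset.sum_comm]
        refine Finset.sum_congr rfl fun k _ => ?_
        rw [Finset.mul_sum, map_sum, Matrix.sum_apply]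
    _ = ∑ i, ∑ k, (Fintype.card X : ℂ) / d * (M A i k * M B k i) := by
        refine Finset.sum_congr rfl fun i _ => Finset.sum_congr rfl fun k _ => ?_
        rw [havg, mul_smul_comm, mul_one, map_smul, Matrix.smul_apply, smul_eq_mul, htr]
        rw [Finset.sum_eq_single i]
        · rw [map_mul, AlgEquiv.apply_symm_apply, Matrix.single_mul_apply_same, one_mul]
          ring
        · intro b _ hb
          rw [map_mul, AlgEquiv.apply_symm_apply, Matrix.single_mul_apply_of_ne _ _ _ _ _ hb]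
        · simp
    _ = _ := by
        rw [htr, Finset.mul_sum]
        refine Finset.sum_congr rfl fun i _ => ?_
        rw [map_mul, Matrix.mul_apply, Finset.mul_sum]

variable {G : Type u} [Group G] [Finite G] {p : ℕ}

/-- An invariant irreducible representation extends over a `p`-quotient above a `p'`-subgroup. -/
theorem exists_ext_rep {N K : Subgroup G} [hN : N.Normal] (hNK : N ≤ K) {d : ℕ}
    (ρ : Representation ℂ N (Fin d → ℂ)) [hρ : ρ.IsIrreducible]
    (hinv : ∀ g ∈ K, ∀ n : N, ρ.character ⟨g * n * g⁻¹, hN.conj_mem n n.2 g⟩ = ρ.character n)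
    (hcop : Nat.Coprime (N.relIndex K) (Nat.card N)) :
    ∃ σ : Representation ℂ K (Fin d → ℂ), σ.IsIrreducible ∧
      ∀ n : N, σ ⟨n, hNK n.2⟩ = ρ n := by
  let e : N.subgroupOf K ≃* N := Subgroup.subgroupOfEquivOfLe hNK
  let ρ' : Representation ℂ (N.subgroupOf K) (Fin d → ℂ) := ρ.comp e.toMonoidHom
  have hirr : IsIrrCharacter (N.subgroupOf K) ρ'.character :=
    CfsgLib.Clifford.isIrrCharacter_pullback (χ := ρ.character) ⟨d, ρ, hρ, rfl⟩
      e.toMonoidHom e.surjective
  have hρ' : ρ'.IsIrreducible := by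
    have h := (CfsgLib.Characters.isIrreducible_iff ρ).1 hρ
    exact (CfsgLib.Characters.isIrreducible_iff _).2 ⟨h.1, fun U hU => h.2 U fun g v hv => by
      obtain ⟨x, rfl⟩ := e.surjective g
      exact hU x v hv⟩
  have hinv' : ∀ (g : K) (n : N.subgroupOf K), ρ'.character
      ⟨g * n * g⁻¹, (inferInstance : (N.subgroupOf K).Normal).conj_mem (n : K) n.2 g⟩ =
      ρ'.character n := fun g n => hinv g g.2 (e n)
  have hcop' : Nat.Coprime (N.subgroupOf K).index (Nat.card (N.subgroupOf K)) := by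
    rwa [Nat.card_congr e.toEquiv]
  obtain ⟨χ, hχ⟩ := Cfsg.Agent.S4591.exists_extension_of_coprime (N.subgroupOf K)
    ⟨_, hirr⟩ hinv' hcop'
  obtain ⟨s, hs, -⟩ := CfsgLib.CharExtension.exists_hom_of_char_top (N.subgroupOf K) ρ'
    (CfsgLib.Characters.isCharacter_of_irr χ.2) hχ
  refine ⟨CfsgLib.CharExtension.repOfUnits s,
    CfsgLib.CharExtension.isIrreducible_repOfUnits (N.subgroupOf K) ρ' hs, fun n => ?_⟩
  exact congrArg Units.val (hs ⟨⟨n, hNK n.2⟩, n.2⟩)

/-- Values of an extension over a `p`-quotient are congruent to those on the `p'`-parts, hence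
invariant modulo `M`. -/
theorem ext_congr {M : Ideal AlgInt} (hM : IsPModular p M) {N K : Subgroup G} [hN : N.Normal]
    [hK : K.Normal] (hNK : N ≤ K) (hq : IsPGroup p (K.map (QuotientGroup.mk' N)))
    (η : IrrCharacter K) (f : N → ℂ) (hη : ∀ n : N, (η : K → ℂ) ⟨n, hNK n.2⟩ = f n)
    (hf : ∀ (g : G) (n : N), f ⟨g * n * g⁻¹, hN.conj_mem n n.2 g⟩ = f n) (x : G) (k : K) :
    MemLocalIdeal M
      ((η : K → ℂ) ⟨x * k * x⁻¹, hK.conj_mem k k.2 x⟩ - (η : K → ℂ) k) := by
  obtain ⟨e, ⟨y, hy, hc, ⟨j, hj⟩, hreg⟩, -⟩ :=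
    Blocks.exists_pPart_exponent hM.1 (isOfFinOrder_of_finite k)
  have hyN : (y : G) ∈ N := by
    rw [← QuotientGroup.eq_one_iff, ← QuotientGroup.mk'_apply]
    obtain ⟨i, hi⟩ := hq ⟨_, y, y.2, rfl⟩
    have h1 : orderOf (QuotientGroup.mk' N (y : G)) ∣ p ^ i :=
      orderOf_dvd_of_pow_eq_one (congrArg Subtype.val hi)
    refine Blocks.eq_one_of_pow_order_dvd hM.1 h1 fun h => hreg ?_
    exact (h.trans (orderOf_map_dvd _ _)).trans (Subgroup.orderOf_coe y).dvd
  let cx : K →* K := ((MulAut.conjNormal x : MulAut K)).toMonoidHom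
  have hcx : ∀ z : K, (η : K → ℂ) (cx z) = (η : K → ℂ) ⟨x * z * x⁻¹, hK.conj_mem z z.2 x⟩ :=
    fun z => congrArg _ (Subtype.ext (MulAut.conjNormal_apply x z))
  have h1 := BlockCover.irr_mul_pElement_congr hM η (x := k ^ e) (y := y) ⟨j, hj⟩ hc
  have h2 := BlockCover.irr_mul_pElement_congr hM η (x := cx (k ^ e)) (y := cx y)
    ⟨j, by rw [orderOf_injective cx (MulAut.conjNormal x : MulAut K).injective, hj]⟩ (hc.map cx)
  rw [← map_mul, hy, hcx, hcx] at h2
  rw [hy] at h1
  have h3 : (η : K → ℂ) ⟨x * y * x⁻¹, hK.conj_mem y y.2 x⟩ = (η : K → ℂ) y :=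
    ((hη ⟨_, hN.conj_mem _ hyN x⟩).trans (hf x ⟨y, hyN⟩)).trans (hη ⟨y, hyN⟩).symm
  rw [h3] at h2
  simpa using Blocks.MemLocalIdeal.sub hM h2 h1

end CfsgLib.FongRep
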