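import Cfsg.Agent.Lib.Blk7.FongAlgebra
import Cfsg.Agent.Lib.Blk7.FongRep
import Cfsg.Agent.Lib.Blocks12.Duality
import Cfsg.Agent.Lib.Blocks12.Bounds
import Cfsg.Agent.Lib.Blocks.NormalPPrime
import Cfsg.Agent.Lib.Blocks.WeakOrth
import Cfsg.Agent.Lib.BlockCover.DefectGroup
import Cfsg.Agent.Lib.Blocks.DefectInduced
import Cfsg.Agent.Lib.Characters.Clifford
import Cfsg.Agent.Lib.CharCorr.Solvable
import Cfsg.Agent.Lib.PCore.PSolvable

/-!
Fong's theorem: over an invariant character of `O_{p'}(G)`, `G` being `p`-solvable, there is a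
single block and it has full defect.
-/

set_option autoImplicit false
set_option linter.style.haveILetI false
set_option linter.unusedSectionVars false

noncomputable section

namespace CfsgLib.Fong

open Cfsg CfsgLib.Characters CfsgLib.Blocks CfsgLib.BrauerPairs MonoidAlgebra
open scoped ComplexConjugate

universe u

variable {G : Type u} [Group G] [Fintype G] {p : ℕ} [Fact p.Prime] {M : Ideal AlgInt}

/-- A `p`-subgroup above the `p'`-core which sees all of the local structure. -/
theorem exists_setup (hsolv : IsPSolvable p G) :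
    ∃ K Q : Subgroup G, K.Normal ∧ pPrimeCore p G ≤ K ∧ Q ≤ K ∧ IsPGroup p Q ∧
      IsPGroup p (K.map (QuotientGroup.mk' (pPrimeCore p G))) ∧
      Subgroup.centralizer (Q : Set G) ≤ K ∧
      pPrimeCore p G ⊔ Subgroup.normalizer (Q : Set G) = ⊤ := by
  obtain ⟨S⟩ : Nonempty (Sylow p (pPrimePCore p G)) := inferInstance
  set Q := ((S : Subgroup (pPrimePCore p G)).map (pPrimePCore p G).subtype) with hQ
  have hQp : IsPGroup p Q := S.isPGroup'.map _
  obtain ⟨P, hP⟩ := hQp.exists_le_sylow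
  have hQK : Q ≤ pPrimePCore p G := Subgroup.map_subtype_le _
  refine ⟨pPrimePCore p G, Q, inferInstance, CfsgLib.PCore.pPrimeCore_le_pPrimePCore, hQK, hQp,
    ?_, CfsgLib.PCore.centralizer_le_pPrimePCore hsolv S, ?_⟩
  · rw [CfsgLib.PCore.map_pPrimePCore]
    exact CfsgLib.PCore.pCore_isPGroup
  have hle : pPrimePCore p G ≤ pPrimeCore p G ⊔ Q := by
    intro x hx
    obtain ⟨n, hn, y, hy, rfl⟩ :=
      Subgroup.mem_sup_of_normal_left.1 (CfsgLib.PCore.pPrimePCore_le_sup_sylow P hx)
    have hyK : y ∈ pPrimePCore p G :=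
      (Subgroup.mul_mem_cancel_left _ (CfsgLib.PCore.pPrimeCore_le_pPrimePCore hn)).1 hx
    refine Subgroup.mul_mem_sup hn ?_
    have hle' : (S : Subgroup (pPrimePCore p G)) ≤
        (P : Subgroup G).subgroupOf (pPrimePCore p G) := fun z hz => hP ⟨z, hz, rfl⟩
    have heq := S.is_maximal' (P.isPGroup'.comap_subtype) hle'
    exact ⟨⟨y, hyK⟩, by rw [← heq]; exact hy, rfl⟩
  refine top_le_iff.1 ((Sylow.normalizer_sup_eq_top S).ge.trans ?_)
  exact sup_le le_sup_right (hle.trans (sup_le_sup_left Subgroup.le_normalizer _))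

variable (N : Subgroup G) [hN : N.Normal]

/-- The element with the coefficients of a translate of `η` on `N`. -/
def twistElem (c : ℂ) (η : G → ℂ) (h : G) : MonoidAlgebra ℂ G :=
  open scoped Classical in Blocks.ofFun fun g => if g ∈ N then c * η (h * g⁻¹) else 0

open scoped Classical in
theorem coeff_twistElem (c : ℂ) (η : G → ℂ) (h g : G) :
    (twistElem N c η h).coeff g = if g ∈ N then c * η (h * g⁻¹) else 0 := by
  simp [twistElem]

theorem twistElem_mul {K : Subgroup G} (hNK : N ≤ K) [Fintype N] {d : ℕ}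
    (σ : Representation ℂ K (Fin d → ℂ)) (ρ : Representation ℂ N (Fin d → ℂ)) [ρ.IsIrreducible]
    (hσ : ∀ n : N, σ ⟨n, hNK n.2⟩ = ρ n) (η : G → ℂ) (hη : ∀ k : K, η k = σ.character k)
    {h h' : G} (hh : h ∈ K) (hh' : h' ∈ K) :
    twistElem N ((d : ℂ) / Fintype.card N) η h * twistElem N ((d : ℂ) / Fintype.card N) η h' =
      twistElem N ((d : ℂ) / Fintype.card N) η (h * h') := by
  classical
  ext g
  rw [coeff_mul_fintype]
  simp only [coeff_twistElem, ite_mul, zero_mul]
  rw [← Finset.sum_filter, Finset.sum_subtype (Finset.univ.filter (· ∈ N)) (p := (· ∈ N))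
    (fun x => by simp)]
  by_cases hg : g ∈ N
  · rw [if_pos hg]
    set gN : N := ⟨g, hg⟩
    have h1 : ∀ m : N, η (h * (m : G)⁻¹) = LinearMap.trace ℂ _ (σ ⟨h, hh⟩ * ρ m⁻¹) := fun m => by
      rw [show h * (m : G)⁻¹ = ((⟨h, hh⟩ * ⟨(m⁻¹ : N), hNK (m⁻¹ : N).2⟩ : K) : G) from rfl, hη,
        Representation.character, map_mul, hσ]
    have h2 : ∀ m : N, η (h' * ((m : G)⁻¹ * g)⁻¹) =
        LinearMap.trace ℂ _ (σ ⟨h', hh'⟩ * ρ gN⁻¹ * ρ m) := fun m => by
      rw [mul_assoc (σ ⟨h', hh'⟩), ← map_mul, ← hσ, ← map_mul]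
      refine Eq.trans ?_ (hη _)
      congr 1
      simp [gN]
    have h3 : η (h * h' * g⁻¹) =
        LinearMap.trace ℂ _ (σ ⟨h, hh⟩ * (σ ⟨h', hh'⟩ * ρ gN⁻¹)) := by
      rw [← hσ, ← map_mul, ← map_mul]
      refine Eq.trans ?_ (hη _)
      congr 1
      simp [gN, mul_assoc]
    rw [h3]
    rw [show (LinearMap.trace ℂ (Fin d → ℂ)) (σ ⟨h, hh⟩ * (σ ⟨h', hh'⟩ * ρ gN⁻¹)) =
      (d : ℂ) / Fintype.card N * ∑ m : N, LinearMap.trace ℂ _ (σ ⟨h, hh⟩ * ρ m⁻¹) *
        LinearMap.trace ℂ _ (σ ⟨h', hh'⟩ * ρ gN⁻¹ * ρ m) by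
      rw [FongRep.sum_trace_mul_trace ρ]
      have : (d : ℂ) ≠ 0 := Nat.cast_ne_zero.2 (CfsgLib.CharExtension.pos_of_irreducible ρ).ne'
      have : (Fintype.card N : ℂ) ≠ 0 := Nat.cast_ne_zero.2 Fintype.card_ne_zero
      field_simp]
    rw [Finset.mul_sum, Finset.mul_sum]
    refine Finset.sum_congr rfl fun m _ => ?_
    rw [if_pos (N.mul_mem (N.inv_mem m.2) hg), h1, h2]
    ring
  · rw [if_neg hg]
    refine Finset.sum_eq_zero fun m _ => ?_
    rw [if_neg fun hm => hg ?_, mul_zero]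
    simpa using N.mul_mem m.2 hm

theorem card_ne_zero_res [M.IsMaximal] (hM : IsPModular p M) (hN' : ¬ p ∣ Nat.card N) :
    (Nat.card N : ResK M) ≠ 0 := by
  haveI := charP_res hM
  exact fun h => hN' ((CharP.cast_eq_zero_iff (ResK M) p _).1 h)

/-- A block over an invariant character of `O_{p'}(G)` has an idempotent with a unit coefficient
inside the core. -/
theorem exists_coeff_unit (hM : IsPModular p M) (hsolv : IsPSolvable p G)
    (hNdef : N = pPrimeCore p G) [Fintype N] (θ : IrrCharacter N)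
    (hinv : ∀ (g : G) (n : N),
      (θ : N → ℂ) ⟨g * n * g⁻¹, hN.conj_mem n n.2 g⟩ = (θ : N → ℂ) n)
    {B : Set (IrrCharacter G)} (hB : IsPBlock M B)
    (hover : ∀ χ ∈ B, ∀ n : N, (χ : G → ℂ) n * (θ : N → ℂ) 1 = (χ : G → ℂ) 1 * (θ : N → ℂ) n) :
    ∃ n ∈ N, ¬ MemLocalIdeal M (blockCoeff B n) := by
  classical
  haveI := hM.2.1
  haveI := charP_res hM
  by_contra hcon
  push Not at hcon
  obtain ⟨K, Q, hKn, hNK', hQK, hQp, hKq, hCQ, hsup⟩ := exists_setup (p := p) hsolv
  haveI := hKn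
  have hNp : ¬ p ∣ Nat.card N := by rw [hNdef]; exact CfsgLib.PCore.not_dvd_card_pPrimeCore
  have hNK : N ≤ K := hNdef ▸ hNK'
  have hq : IsPGroup p (K.map (QuotientGroup.mk' N)) := by
    subst hNdef
    exact hKq
  have hreg : ∀ x ∈ K, ¬ p ∣ orderOf x → x ∈ N := by
    intro x hx hxr
    rw [← QuotientGroup.eq_one_iff, ← QuotientGroup.mk'_apply]
    obtain ⟨i, hi⟩ := hq ⟨_, x, hx, rfl⟩
    exact eq_one_of_pow_order_dvd hM.1 (orderOf_dvd_of_pow_eq_one (congrArg Subtype.val hi))
      fun h => hxr (h.trans (orderOf_map_dvd _ _))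
  have hθi := fun g n => hinv g n
  obtain ⟨θf, d, ρ, hρ, hρθ⟩ := θ
  subst hρθ
  haveI := hρ
  obtain ⟨σ, hσi, hσ⟩ := FongRep.exists_ext_rep hNK ρ (fun g _ n => hinv g n) (by
    rw [Subgroup.relIndex]
    have hdvd : (N.subgroupOf K).index ∣ Nat.card (K.map (QuotientGroup.mk' N)) := by
      have h1 := Subgroup.index_ker ((QuotientGroup.mk' N).comp K.subtype)
      rw [MonoidHom.range_comp, Subgroup.range_subtype, ← MonoidHom.comap_ker,
        QuotientGroup.ker_mk'] at h1
      exact h1.dvd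
    obtain ⟨i, hi⟩ := IsPGroup.iff_card.1 hq
    rw [hi] at hdvd
    obtain ⟨j, -, hj⟩ := (Nat.dvd_prime_pow hM.1).1 hdvd
    rw [hj]
    exact ((hM.1.coprime_iff_not_dvd).2 hNp).pow_left j)
  let ηI : IrrCharacter K := ⟨σ.character, d, σ, hσi, rfl⟩
  let η : G → ℂ := fun g => if hg : g ∈ K then σ.character ⟨g, hg⟩ else 0
  have hη : ∀ k : K, η k = σ.character k := fun k => by simp [η]
  have hηN : ∀ n : N, η n = ρ.character n := fun n => by
    rw [show ((n : G)) = ((⟨(n : G), hNK n.2⟩ : K) : G) from rfl, hη, Representation.character,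
      hσ]
    rfl
  have hd : (d : ℂ) ≠ 0 := Nat.cast_ne_zero.2 (CfsgLib.CharExtension.pos_of_irreducible ρ).ne'
  have hρ1 : ρ.character 1 = d := by rw [Representation.char_one, Module.finrank_fin_fun]
  have hcard : (Fintype.card N : ℂ) ≠ 0 := Nat.cast_ne_zero.2 Fintype.card_ne_zero
  set c : ℂ := (d : ℂ) / Fintype.card N with hc
  have hcmem : c ∈ lRing hM := by
    rw [hc, div_eq_mul_inv]
    refine (lRing hM).mul_mem (natCast_mem (lRing hM) _) (inv_natCast_mem_lRing hM ?_)
    rwa [← Nat.card_eq_fintype_card]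
  have hmem : ∀ h x, (twistElem N c η h).coeff x ∈ lRing hM := by
    intro h x
    rw [coeff_twistElem]
    split_ifs
    · refine (lRing hM).mul_mem hcmem ?_
      show η _ ∈ lRing hM
      simp only [η]
      split_ifs
      · exact isIntegral_mem_lRing hM (isIntegral_of_isCharacter ⟨d, σ, rfl⟩ _)
      · exact (lRing hM).zero_mem
    · exact (lRing hM).zero_mem
  let a : G → MonoidAlgebra (ResK M) G := fun h => redFun hM ((twistElem N c η h).coeff ·)
  let e : MonoidAlgebra (ResK M) G := a 1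
  have ha : ∀ h ∈ K, ∀ h' ∈ K, a h * a h' = a (h * h') := fun h hh h' hh' => by
    show redFun hM _ * redFun hM _ = redFun hM _
    rw [← redFun_mul hM (hmem h) (hmem h'), twistElem_mul N hNK σ ρ hσ η hη hh hh']
  have hsupp : ∀ h x, x ∉ N → (a h).coeff x = 0 := fun h x hx => by
    show (redFun hM _).coeff x = 0
    rw [coeff_redFun hM (hmem h x), resK_eq_zero_iff]
    show MemLocalIdeal M ((twistElem N c η h).coeff x)
    rw [coeff_twistElem, if_neg hx]
    exact memLocalIdeal_zero hM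
  have hspan : ∀ h ∈ K, a h ∈ Submodule.span (ResK M)
      ((fun n : N => single (n : G) (1 : ResK M) * e) '' Set.univ) := by
    intro h hh
    have h1 : a h = a h * e := by
      show _ = a h * a 1
      rw [ha h hh 1 (one_mem K), mul_one]
    rw [h1, ← FongAlg.sum_single_coeff (a h), Finset.sum_mul]
    refine Submodule.sum_mem _ fun x _ => ?_
    by_cases hx : x ∈ N
    · rw [smul_mul_assoc]
      exact Submodule.smul_mem _ _ (Submodule.subset_span ⟨⟨x, hx⟩, trivial, rfl⟩)
    · rw [hsupp h x hx, zero_smul, zero_mul]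
      exact Submodule.zero_mem _
  have han : ∀ n ∈ N, a n = single n 1 * e := by
    intro n hn
    ext g
    rw [coeff_single_mul_apply, one_mul]
    refine coeff_redFun_congr hM ?_
    rw [coeff_twistElem, coeff_twistElem]
    by_cases hg : g ∈ N
    · rw [if_pos hg, if_pos (N.mul_mem (N.inv_mem hn) hg), one_mul]
      congr 1
      rw [show n * g⁻¹ = (((⟨n, hn⟩ * ⟨g, hg⟩⁻¹ : N)) : G) from rfl,
        show (n⁻¹ * g)⁻¹ = (((⟨g, hg⟩⁻¹ * ⟨n, hn⟩ : N)) : G) by simp, hηN, hηN,
        Representation.character, Representation.character]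
      simp only [map_mul]
      exact LinearMap.trace_mul_comm ℂ _ _
    · rw [if_neg hg, if_neg fun h => hg ?_]
      simpa using N.mul_mem hn h
  have heq : ∀ g, ∀ h ∈ K, single g 1 * a h * single g⁻¹ 1 = a (g * h * g⁻¹) := by
    intro g h hh
    ext x
    rw [coeff_mul_single_apply, coeff_single_mul_apply, one_mul, mul_one, inv_inv]
    show (redFun hM _).coeff _ = (redFun hM _).coeff x
    rw [coeff_redFun hM (hmem h _), coeff_redFun hM (hmem _ x), resK_eq_iff]
    show MemLocalIdeal M ((twistElem N c η h).coeff _ - (twistElem N c η _).coeff x)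
    rw [coeff_twistElem, coeff_twistElem]
    by_cases hx : x ∈ N
    · have hx' : g⁻¹ * (x * g) ∈ N := by
        rw [← mul_assoc]; exact hN.conj_mem' x hx g
      rw [if_pos hx', if_pos hx, ← mul_sub]
      refine MemLocalIdeal.mul_left hM hcmem ?_
      have hk : h * (g⁻¹ * (x * g))⁻¹ ∈ K := K.mul_mem hh (K.inv_mem (hNK hx'))
      have hk' : g * (h * (g⁻¹ * (x * g))⁻¹) * g⁻¹ ∈ K := hKn.conj_mem _ hk g
      have h1 := FongRep.ext_congr hM hNK hq ηI ρ.character (fun n => by
        show σ.character _ = ρ.character n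
        rw [Representation.character, hσ]; rfl) (fun g n => hinv g n) g ⟨_, hk⟩
      have e1 : g * h * g⁻¹ * x⁻¹ = g * (h * (g⁻¹ * (x * g))⁻¹) * g⁻¹ := by group
      rw [e1]
      simp only [η, dif_pos hk, dif_pos hk']
      simpa using MemLocalIdeal.neg hM h1
    · rw [if_neg hx, if_neg fun h2 => hx ?_, sub_zero]
      · exact memLocalIdeal_zero hM
      · have := hN.conj_mem _ h2 g
        simpa [mul_assoc] using this
  have hecC : twistElem N c η 1 ∈ Subalgebra.center ℂ (MonoidAlgebra ℂ G) := by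
    rw [mem_center_iff_coeff]
    intro x g
    rw [coeff_twistElem, coeff_twistElem]
    by_cases hx : x ∈ N
    · rw [if_pos hx, if_pos (hN.conj_mem x hx g)]
      congr 1
      rw [one_mul, one_mul, show (g * x * g⁻¹)⁻¹ =
          (((⟨g * ((⟨x, hx⟩⁻¹ : N) : G) * g⁻¹, hN.conj_mem _ (⟨x, hx⟩⁻¹ : N).2 g⟩ : N)) : G) by
        simp [mul_assoc], show x⁻¹ = ((⟨x, hx⟩⁻¹ : N) : G) from rfl, hηN, hηN]
      exact hθi g _
    · rw [if_neg hx, if_neg fun h => hx ?_]
      have := hN.conj_mem' _ h g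
      simpa [mul_assoc] using this
  have hec : ∀ x, x * e = e * x := by
    intro x
    have h1 : ∀ g, single g 1 * e = e * single g 1 := fun g => by
      have h2 := heq g 1 (one_mem K)
      rw [mul_one, mul_inv_cancel] at h2
      calc single g 1 * e = single g 1 * e * single g⁻¹ 1 * single g 1 := by
            rw [mul_assoc (single g 1 * e), FongAlg.single_mul_single', inv_mul_cancel,
              ← MonoidAlgebra.one_def, mul_one]
        _ = e * single g 1 := by rw [h2]
    rw [← FongAlg.sum_single_coeff x, Finset.sum_mul, Finset.mul_sum]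
    refine Finset.sum_congr rfl fun g _ => ?_
    rw [smul_mul_assoc, mul_smul_comm, h1]
  have hbe : blockIdem B * twistElem N c η 1 = blockIdem B := by
    refine eq_blockIdem (mul_mem (blockIdem_mem_center B) hecC) fun χ => ?_
    rw [omega_mul χ (blockIdem_mem_center B), omega_blockIdem]
    by_cases hχ : χ ∈ B
    · rw [if_pos hχ, one_mul, omega_apply]
      simp only [coeff_twistElem, ite_mul, zero_mul]
      rw [← Finset.sum_filter, Finset.sum_subtype (Finset.univ.filter (· ∈ N)) (p := (· ∈ N))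
        (fun x => by simp)]
      have h1 : ∑ n : N, c * η (1 * (n : G)⁻¹) * (χ : G → ℂ) n =
          c / d * (χ : G → ℂ) 1 * ∑ n : N, ρ.character n * ρ.character n⁻¹ := by
        rw [Finset.mul_sum]
        refine Finset.sum_congr rfl fun n _ => ?_
        rw [one_mul, show (n : G)⁻¹ = ((n⁻¹ : N) : G) from rfl, hηN]
        have h2 := hover χ hχ n
        simp only [hρ1] at h2
        field_simp
        linear_combination (c * ρ.character n⁻¹) * h2
      rw [h1]
      have h3 := CfsgLib.Characters.classInner_irr_self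
        (χ := ρ.character) ⟨d, ρ, hρ, rfl⟩
      rw [classInner, Nat.card_eq_fintype_card] at h3
      have h4 : ∑ n : N, ρ.character n * ρ.character n⁻¹ =
          ∑ n : N, ρ.character n * conj (ρ.character n) :=
        Finset.sum_congr rfl fun n _ => by
          congr 1
          exact irr_apply_inv (⟨ρ.character, d, ρ, hρ, rfl⟩ : IrrCharacter N) n
      rw [h4, hc]
      field_simp [irr_one_ne_zero χ] at h3 ⊢
      linear_combination h3
    · rw [if_neg hχ, zero_mul]
  set f := eG hM B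
  have hfe : f * e = f := by
    show eG hM B * redFun hM _ = eG hM B
    rw [eG_eq_redFun, ← redFun_mul hM (fun x => by simpa using blockCoeff_mem hM hB x) (hmem 1),
      hbe]
  have hff : f * f = f := by
    show eG hM B * eG hM B = eG hM B
    rw [eG_mul hM hB hB, Set.inter_self]
  have hfc : ∀ x, x * f = f * x := by
    intro x
    have hf : eG hM B ∈ Subalgebra.center (ResK M) (MonoidAlgebra (ResK M) G) := by
      rw [mem_center_iff_coeff]
      intro y g
      exact coeff_redFun_congr hM (blockCoeff_conj B y g)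
    exact Subalgebra.mem_center_iff.1 hf x
  refine eG_ne_zero hM hB (FongAlg.eq_zero_of_br N Q K hQp hNK hQK (card_ne_zero_res N hM hNp)
    (hNdef ▸ hsup) e a ha han hspan hec heq f hfc hff hfe fun x hx => ?_)
  show (eG hM B).coeff x = 0
  by_contra hne
  have hne' := (BlockCover.eG_coeff_ne_zero_iff hM hB x).1 hne
  by_cases hxr : p ∣ orderOf x
  · rw [blockCoeff_eq_zero_of_singular hM hB hxr] at hne'
    exact hne' (memLocalIdeal_zero hM)
  · exact hne' (hcon x (hreg x (hCQ hx) hxr))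

open scoped Classical in
theorem restrict_eq {θf : N → ℂ} [Fintype N] (hθ : IsIrrCharacter N θf)
    (hinv : ∀ (g : G) (n : N), θf ⟨g * n * g⁻¹, hN.conj_mem n n.2 g⟩ = θf n)
    {χ : IrrCharacter G} (hχ : classInner (fun n : N => (χ : G → ℂ) n) θf ≠ 0) (n : N) :
    (χ : G → ℂ) n * θf 1 = (χ : G → ℂ) 1 * θf n := by
  have horb : (CfsgLib.Clifford.conjOrbit_finite hN θf).toFinset = {θf} := by
    ext ψ
    rw [Set.Finite.mem_toFinset, Finset.mem_singleton]
    refine ⟨?_, fun h => ⟨1, h.trans (CfsgLib.Clifford.conjChar_one hN θf).symm⟩⟩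
    rintro ⟨g, rfl⟩
    exact funext (hinv g)
  have h := CfsgLib.Clifford.clifford hN χ.2 hθ hχ
  rw [horb, Finset.sum_singleton] at h
  have h1 := congrFun h 1
  have h2 := congrFun h n
  simp only [Pi.smul_apply, smul_eq_mul, OneMemClass.coe_one] at h1 h2
  rw [h1, h2]
  ring

/-- Blocks over an invariant character of `O_{p'}(G)` have full defect. -/
theorem blockDefect_eq (hM : IsPModular p M) (hsolv : IsPSolvable p G)
    (hNdef : N = pPrimeCore p G) [Fintype N] (θ : IrrCharacter N)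
    (hinv : ∀ (g : G) (n : N),
      (θ : N → ℂ) ⟨g * n * g⁻¹, hN.conj_mem n n.2 g⟩ = (θ : N → ℂ) n)
    {B : Set (IrrCharacter G)} (hB : IsPBlock M B)
    (hover : ∀ χ ∈ B, ∀ n : N, (χ : G → ℂ) n * (θ : N → ℂ) 1 = (χ : G → ℂ) 1 * (θ : N → ℂ) n) :
    blockDefect p B = (Nat.card G).factorization p := by
  classical
  obtain ⟨n, hn, hne⟩ := exists_coeff_unit N hM hsolv hNdef θ hinv hB hover
  have hle : blockDefect p B ≤ (Nat.card G).factorization p := Nat.sub_le _ _
  by_contra hlt
  apply hne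
  have hNp : ¬ p ∣ Nat.card N := by rw [hNdef]; exact CfsgLib.PCore.not_dvd_card_pPrimeCore
  set a := (Nat.card G).factorization p with ha
  set S : ℕ := ∑ᶠ χ ∈ B, charDegree (χ : G → ℂ) ^ 2 with hS
  have hv : S.factorization p = 2 * a - blockDefect p B := Contribution.sum_sq_valuation hM hB
  have hdvd : p ^ (a + 1) ∣ S := (pow_dvd_pow p (by omega)).trans (Nat.ordProj_dvd S p)
  obtain ⟨t, ht⟩ := hdvd
  obtain ⟨d, hd1, hd0, hd2⟩ := irr_degree_dvd_card θ
  set c := Nat.card G / p ^ a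
  have hcard : Nat.card G = p ^ a * c := (Nat.ordProj_mul_ordCompl_eq_self _ p).symm
  have hc : ¬ p ∣ c := Nat.not_dvd_ordCompl hM.1 Nat.card_pos.ne'
  have hdc : ¬ p ∣ d * c := hM.1.not_dvd_mul (fun h => hNp (h.trans hd2)) hc
  have hd' : (d : ℂ) ≠ 0 := fun h => irr_one_ne_zero θ (hd1.trans h)
  have hval : blockCoeff B n =
      (p : ℂ) * ((t : ℂ) * ((d * c : ℕ) : ℂ)⁻¹ * conj ((θ : N → ℂ) ⟨n, hn⟩)) := by
    have h1 : blockCoeff B n = (Nat.card G : ℂ)⁻¹ *
        ((S : ℂ) / d * conj ((θ : N → ℂ) ⟨n, hn⟩)) := by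
      rw [blockCoeff_eq_sum, hS, finsum_mem_eq_sum_of_inter_support_eq
        (t := Finset.univ.filter (· ∈ B)) _ (by ext x; simp), Nat.cast_sum, Finset.sum_div,
        Finset.sum_mul]
      congr 1
      refine Finset.sum_congr rfl fun χ hχ => ?_
      have h2 := hover χ (Finset.mem_filter.1 hχ).2 ⟨n, hn⟩
      rw [hd1] at h2
      have h3 : conj ((χ : G → ℂ) n) * d =
          (χ : G → ℂ) 1 * conj ((θ : N → ℂ) ⟨n, hn⟩) := by
        have h4 := congrArg conj h2
        rw [map_mul, map_mul, Complex.conj_natCast, (ClassCount.degree_eq χ).1,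
          Complex.conj_natCast, ← (ClassCount.degree_eq χ).1] at h4
        exact h4
      push_cast
      rw [← (ClassCount.degree_eq χ).1]
      field_simp
      linear_combination (χ : G → ℂ) 1 * h3
    rw [h1, ht, hcard]
    have : (p : ℂ) ≠ 0 := Nat.cast_ne_zero.2 hM.1.ne_zero
    have : (c : ℂ) ≠ 0 := Nat.cast_ne_zero.2 fun h => hc (h ▸ dvd_zero p)
    push_cast
    field_simp
    ring
  rw [hval]
  refine MemLocalIdeal.mul_right hM (memLocalIdeal_p hM) ?_
  exact (lRing hM).mul_mem ((lRing hM).mul_mem (natCast_mem (lRing hM) _)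
    (inv_natCast_mem_lRing hM hdc)) (isIntegral_mem_lRing hM (isIntegral_conj
      (isIntegral_of_isCharacter (irr_isCharacter θ) _)))

end CfsgLib.Fong
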