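import Cfsg.Agent.Lib.BrauerPairs.MajorTrace
import Cfsg.Agent.Lib.BrauerPairs.Induced
import Cfsg.Agent.Lib.BlockCover.DefectGroup
import Cfsg.Agent.Lib.Blocks.DefectInduced

/-!
# Major subsections: the trace of the block of the centraliser is a unit on the induced block
-/

set_option autoImplicit false
set_option linter.unusedSectionVars false

namespace CfsgLib.MajorUnit

open Cfsg CfsgLib.BrauerPairs MonoidAlgebra
open CfsgLib.Blocks (lRing)

variable {p : ℕ} [hp : Fact p.Prime] {M : Ideal AlgInt} [M.IsMaximal] {G : Type*} [Group G]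
  [Fintype G]

/-- The trace from `C` to `G` of the idempotent of a block of `C`, as a function. -/
noncomputable def trCoeff (C : Subgroup G) (b : Set (IrrCharacter C)) : G → ℂ :=
  ((relTr ℂ C ⊤ (Blocks.ofFun (subgroupBlockCoeff C b))).coeff ·)

theorem trCoeff_eq_sum (C : Subgroup G) [Fintype ((⊤ : Subgroup G) ⧸ C.subgroupOf ⊤)]
    (b : Set (IrrCharacter C)) (x : G) :
    trCoeff C b x = ∑ q : (⊤ : Subgroup G) ⧸ C.subgroupOf ⊤,
      subgroupBlockCoeff C b (((q.out : (⊤ : Subgroup G)) : G)⁻¹ * x *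
        ((q.out : (⊤ : Subgroup G)) : G)) := by
  simp only [trCoeff, relTr_eq_sum, coeff_sum, Finsupp.finsetSum_apply, coeff_conjA,
    Blocks.coeff_ofFun]

theorem trCoeff_mem (hM : IsPModular p M) (C : Subgroup G) {b : Set (IrrCharacter C)}
    (hb : IsPBlock M b) (x : G) : trCoeff C b x ∈ lRing hM := by
  classical
  rw [trCoeff_eq_sum]
  exact Subring.sum_mem _ fun q _ => subgroupBlockCoeff_mem hM hb _

theorem trCoeff_conj (C : Subgroup G) (b : Set (IrrCharacter C)) (g x : G) :
    trCoeff C b (g * x * g⁻¹) = trCoeff C b x :=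
  mem_fixAlg_iff_coeff.1 (relTr_mem_fixAlg (mem_fixAlg_iff_coeff.2 fun u hu y => by
    simp only [Blocks.coeff_ofFun]
    exact subgroupBlockCoeff_conj C b hu y)) g (Subgroup.mem_top g) x

theorem redFun_trCoeff (hM : IsPModular p M) (C : Subgroup G) {b : Set (IrrCharacter C)}
    (hb : IsPBlock M b) :
    redFun hM (trCoeff C b) = relTr (ResK M) C ⊤ (eA hM C b) := by
  classical
  ext x
  rw [coeff_redFun hM (trCoeff_mem hM C hb x), relTr_eq_sum]
  simp only [coeff_sum, Finsupp.finsetSum_apply, coeff_conjA, eA,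
    coeff_redFun hM (subgroupBlockCoeff_mem hM hb _)]
  rw [← map_sum]
  congr 1
  exact Subtype.ext (by simp [trCoeff_eq_sum])

theorem sum_trCoeff_mul (C : Subgroup G) [Fintype C] (b : Set (IrrCharacter C))
    {φ : G → ℂ} (hφ : IsClassFunction G φ) :
    ∑ x : G, trCoeff C b x * φ x = (C.index : ℂ) * ∑ c : C, blockCoeff b c * φ c := by
  classical
  simp only [trCoeff_eq_sum, Finset.sum_mul]
  rw [Finset.sum_comm]
  have hterm : ∀ q : (⊤ : Subgroup G) ⧸ C.subgroupOf ⊤,
      ∑ x : G, subgroupBlockCoeff C b (((q.out : (⊤ : Subgroup G)) : G)⁻¹ * x *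
        ((q.out : (⊤ : Subgroup G)) : G)) * φ x = ∑ c : C, blockCoeff b c * φ c := by
    intro q
    set t : G := ((q.out : (⊤ : Subgroup G)) : G)
    rw [← Equiv.sum_comp (MulAut.conj t).toEquiv]
    have h1 : ∀ y : G, subgroupBlockCoeff C b (t⁻¹ * (MulAut.conj t).toEquiv y * t) *
        φ ((MulAut.conj t).toEquiv y) = subgroupBlockCoeff C b y * φ y := fun y => by
      simp only [MulEquiv.toEquiv_eq_coe, EquivLike.coe_coe, MulAut.conj_apply]
      rw [hφ y t, show t⁻¹ * (t * y * t⁻¹) * t = y by group]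
    rw [Finset.sum_congr rfl fun y _ => h1 y, ← Finset.sum_subset (Finset.subset_univ
      (Finset.univ.map (Function.Embedding.subtype fun x => x ∈ C))) ?_, Finset.sum_map]
    · exact Finset.sum_congr rfl fun c _ => by
        rw [show (Function.Embedding.subtype fun x => x ∈ C) c = (c : G) from rfl,
          subgroupBlockCoeff_coe]
    · intro y _ hy
      rw [subgroupBlockCoeff_notMem b (fun h => hy (Finset.mem_map.2 ⟨⟨y, h⟩, Finset.mem_univ _, rfl⟩)),
        zero_mul]
  rw [Finset.sum_congr rfl fun q _ => hterm q, Finset.sum_const, nsmul_eq_mul, Finset.card_univ,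
    ← Nat.card_eq_fintype_card, ← Subgroup.index_eq_card]
  congr 2
  exact C.relIndex_top_right

/-- For a major subsection the trace of the idempotent of `b` is a unit on `B`. -/
theorem omega_trace_unit (hM : IsPModular p M) {Q C : Subgroup G} [Fintype C]
    (hQp : IsPGroup p Q) (hQ : Q ≤ cz Q) (hC : C = cz Q) {b : Set (IrrCharacter C)}
    {B : Set (IrrCharacter G)} (hind : IsInducedBlock M C b B)
    (hd : blockDefect p b = blockDefect p B) {χ : IrrCharacter G} (hχ : χ ∈ B) :
    ¬ MemLocalIdeal M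
      ((C.index : ℂ) * (∑ c : C, blockCoeff b c * (χ : G → ℂ) c) / (χ : G → ℂ) 1) := by
  classical
  subst hC
  have := charP_res (M := M) hM
  obtain ⟨hb, hB, -⟩ := id hind
  intro hω
  obtain ⟨-, -, hO⟩ := (isBrauerPairOf_iff hM B Q b).1
    (isBrauerPairOf_of_isInducedBlock hM hQp hind)
  have hS : BrSetup p Q (eA hM (cz Q) b) (cz Q) :=
    ⟨hQp, isBlockIdem_eA hM hb, Subgroup.centralizer_le_normalizer _, le_rfl, hQ,
      (isBlockIdem_eA hM hb).fixed⟩
  obtain ⟨D, hD⟩ := Blocks.exists_isDefectGroup hM hb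
  obtain ⟨DE, hDE⟩ := Blocks.exists_isDefectGroup hM hB
  have hcard : Nat.card DE ≤ Nat.card (D.map (cz Q).subtype) := by
    rw [Subgroup.card_map_of_injective (cz Q).subtype_injective,
      BlockCover.natCard_defect hM hb hD, BlockCover.natCard_defect hM hB hDE, hd]
  refine not_isNilpotent_trace (hasBlocks hM) (brSetup_block hM hB) hS hO.cover
    ((isDefectGroup_stabilizer_iff hM hS hb rfl D).1 hD) ((isDefectGroup_iff hM hB DE).1 hDE)
    hcard ?_
  have hn := nilpotent_sub hM hB hχ (trCoeff_mem hM _ hb) (trCoeff_conj _ b)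
  have h0 : resK hM ⟨_, omega_sum_mem hM χ (trCoeff_mem hM _ hb) (trCoeff_conj _ b)⟩ = 0 := by
    rw [resK_eq_zero_iff]
    show MemLocalIdeal M (∑ᶠ x : G, trCoeff (cz Q) b x * (χ : G → ℂ) x / (χ : G → ℂ) 1)
    rwa [finsum_eq_sum_of_fintype, ← Finset.sum_div,
      sum_trCoeff_mul _ b (Characters.irr_isClassFunction χ)]
  rwa [h0, zero_smul, sub_zero, redFun_trCoeff hM _ hb] at hn

end CfsgLib.MajorUnit
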