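import Mathlib.RingTheory.RootsOfUnity.Complex
import Mathlib.Algebra.Order.Chebyshev
import Mathlib.RingTheory.Polynomial.Cyclotomic.Basic

/-!
# A lower bound for the conjugates of a nonzero integral combination of roots of unity

If an integral combination `v` of `p ^ (k + 1)`-th roots of unity is not zero, the sum of
`|v_j| ^ 2` over its conjugates is at least their number `p ^ k * (p - 1)`.
-/

set_option autoImplicit false

namespace CfsgLib.RootBound

open scoped ComplexConjugate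

/-- An integer-valued function which is not constant on a set of at most `p` elements. -/
theorem sub_one_le_of_ne {α : Type*} [DecidableEq α] (F : Finset α) (n : α → ℤ) {p : ℕ}
    (hF : F.card ≤ p) {a b : α} (ha : a ∈ F) (hb : b ∈ F) (hne : n a ≠ n b) :
    (p : ℤ) - 1 ≤ (p : ℤ) * ∑ x ∈ F, n x ^ 2 - (∑ x ∈ F, n x) ^ 2 := by
  have hab : a ≠ b := fun h => hne (by rw [h])
  have hid : ∑ x ∈ F, ∑ y ∈ F, (n x - n y) ^ 2 =
      2 * ((F.card : ℤ) * ∑ x ∈ F, n x ^ 2 - (∑ x ∈ F, n x) ^ 2) := by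
    simp only [sub_sq, Finset.sum_add_distrib, Finset.sum_sub_distrib, Finset.sum_const,
      nsmul_eq_mul, ← Finset.mul_sum, ← Finset.sum_mul]
    ring
  have hpt : ∀ x, 1 ≤ (n x - n a) ^ 2 + (n x - n b) ^ 2 := fun x => by
    rcases ne_or_eq (n x) (n a) with h | h
    · nlinarith [sq_pos_of_ne_zero (sub_ne_zero.2 h), sq_nonneg (n x - n b)]
    · nlinarith [sq_pos_of_ne_zero (sub_ne_zero.2 (h ▸ hne)), sq_nonneg (n x - n a)]
  have h1 : (F.card : ℤ) ≤ ∑ y ∈ F, (n a - n y) ^ 2 + ∑ y ∈ F, (n b - n y) ^ 2 := by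
    rw [← Finset.sum_add_distrib, Finset.card_eq_sum_ones, Nat.cast_sum]
    refine Finset.sum_le_sum fun y _ => ?_
    have := hpt y
    push_cast
    linarith [show (n a - n y) ^ 2 = (n y - n a) ^ 2 by ring,
      show (n b - n y) ^ 2 = (n y - n b) ^ 2 by ring]
  set E := (F.erase a).erase b with hE
  have hbE : b ∈ F.erase a := Finset.mem_erase.2 ⟨hab.symm, hb⟩
  have hEc : (E.card : ℤ) + 2 = F.card := by
    have h2 := Finset.card_erase_add_one ha
    have h3 := Finset.card_erase_add_one hbE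
    push_cast [← h2, ← h3, hE]
    ring
  have h2 : (E.card : ℤ) ≤ ∑ x ∈ E, ∑ y ∈ F, (n x - n y) ^ 2 := by
    rw [Finset.card_eq_sum_ones, Nat.cast_sum]
    refine Finset.sum_le_sum fun x _ => ?_
    have h3 : ∑ y ∈ ({a, b} : Finset α), (n x - n y) ^ 2 ≤ ∑ y ∈ F, (n x - n y) ^ 2 :=
      Finset.sum_le_sum_of_subset_of_nonneg
        (by simp [Finset.insert_subset_iff, ha, hb]) fun _ _ _ => sq_nonneg _
    rw [Finset.sum_pair hab] at h3
    have := hpt x
    push_cast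
    linarith
  have hsplit : ∑ x ∈ F, ∑ y ∈ F, (n x - n y) ^ 2 =
      ∑ y ∈ F, (n a - n y) ^ 2 + (∑ y ∈ F, (n b - n y) ^ 2 + ∑ x ∈ E, ∑ y ∈ F, (n x - n y) ^ 2) := by
    rw [← Finset.add_sum_erase F _ ha, ← Finset.add_sum_erase (F.erase a) _ hbE]
  have hsq : 1 ≤ ∑ x ∈ F, n x ^ 2 := by
    have h3 : ∑ x ∈ ({a, b} : Finset α), n x ^ 2 ≤ ∑ x ∈ F, n x ^ 2 :=
      Finset.sum_le_sum_of_subset_of_nonneg
        (by simp [Finset.insert_subset_iff, ha, hb]) fun _ _ _ => sq_nonneg _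
    rw [Finset.sum_pair hab] at h3
    rcases ne_or_eq (n a) 0 with h | h
    · nlinarith [sq_pos_of_ne_zero h, sq_nonneg (n b)]
    · nlinarith [sq_pos_of_ne_zero (h ▸ hne).symm, sq_nonneg (n a)]
  have hpm : (F.card : ℤ) ≤ p := by exact_mod_cast hF
  nlinarith [mul_nonneg (sub_nonneg.2 hpm) (sub_nonneg.2 hsq)]

theorem orth {m : ℕ} (hm : m ≠ 0) {μ ν : ℂ} (hμ : μ ^ m = 1) (hν : ν ^ m = 1) :
    ∑ j ∈ Finset.range m, μ ^ j * conj (ν ^ j) = if μ = ν then (m : ℂ) else 0 := by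
  have hν1 : ν * conj ν = 1 := by
    rw [Complex.mul_conj, Complex.normSq_eq_norm_sq, Complex.norm_eq_one_of_pow_eq_one hν hm]
    norm_num
  simp only [map_pow, ← mul_pow]
  split_ifs with h
  · subst h; simp [hν1]
  · have hne : μ * conj ν ≠ 1 := fun h1 => h (by
      calc μ = μ * (ν * conj ν) := by rw [hν1, mul_one]
        _ = μ * conj ν * ν := by ring
        _ = ν := by rw [h1, one_mul])
    have hz : (μ * conj ν) ^ m = 1 := by rw [mul_pow, hμ, ← map_pow, hν, map_one, one_mul]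
    rw [geom_sum_eq hne, hz, sub_self, zero_div]

open scoped Classical in
/-- The weights of the roots equal to `μ`. -/
noncomputable def wt {ι : Type*} (s : Finset ι) (w : ι → ℤ) (r : ι → ℂ) (μ : ℂ) : ℤ :=
  ∑ a ∈ s.filter (fun a => r a = μ), w a

theorem sum_range_mul_conj {ι : Type*} (s : Finset ι) (w : ι → ℤ) (r : ι → ℂ) {m : ℕ} (hm : m ≠ 0)
    (hr : ∀ a ∈ s, r a ^ m = 1) :
    ∑ j ∈ Finset.range m,
        (∑ a ∈ s, (w a : ℂ) * r a ^ j) * conj (∑ a ∈ s, (w a : ℂ) * r a ^ j) =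
      (((m : ℤ) * ∑ μ ∈ Polynomial.nthRootsFinset m (1 : ℂ), wt s w r μ ^ 2 : ℤ) : ℂ) := by
  classical
  have h1 : ∀ j, (∑ a ∈ s, (w a : ℂ) * r a ^ j) * conj (∑ a ∈ s, (w a : ℂ) * r a ^ j) =
      ∑ a ∈ s, ∑ b ∈ s, (w a : ℂ) * (w b : ℂ) * (r a ^ j * conj (r b ^ j)) := fun j => by
    rw [map_sum, Finset.sum_mul_sum]
    exact Finset.sum_congr rfl fun a _ => Finset.sum_congr rfl fun b _ => by
      rw [map_mul, map_intCast]; ring
  rw [Finset.sum_congr rfl fun j _ => h1 j, Finset.sum_comm]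
  rw [Int.cast_mul, Int.cast_sum, Finset.mul_sum]
  have hmap : ∀ a ∈ s, r a ∈ Polynomial.nthRootsFinset m (1 : ℂ) := fun a ha =>
    (Polynomial.mem_nthRootsFinset (Nat.pos_of_ne_zero hm) 1).2 (hr a ha)
  rw [← Finset.sum_fiberwise_of_maps_to hmap]
  refine Finset.sum_congr rfl fun μ _ => ?_
  rw [wt, sq, Finset.sum_mul_sum, Int.cast_sum, Finset.mul_sum]
  refine Finset.sum_congr rfl fun a ha => ?_
  obtain ⟨has, rfl⟩ := Finset.mem_filter.1 ha
  rw [Finset.sum_comm, Int.cast_sum, Finset.mul_sum, Finset.sum_filter]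
  refine Finset.sum_congr rfl fun b hb => ?_
  rw [← Finset.mul_sum, orth hm (hr a has) (hr b hb)]
  rcases eq_or_ne (r a) (r b) with h | h
  · rw [if_pos h, if_pos h.symm]; push_cast; ring
  · rw [if_neg h, if_neg h.symm, mul_zero]

/-- The bound. -/
theorem sum_conjugates_ge {p : ℕ} (hp : p.Prime) (k : ℕ) {ι : Type*} (s : Finset ι) (w : ι → ℤ)
    (r : ι → ℂ) (hr : ∀ a ∈ s, r a ^ p ^ (k + 1) = 1) (hv : ∑ a ∈ s, (w a : ℂ) * r a ≠ 0) :
    ∃ N : ℤ, (p : ℤ) ^ k * ((p : ℤ) - 1) ≤ N ∧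
      ∑ j ∈ (Finset.range (p ^ (k + 1))).filter (fun j => ¬ p ∣ j),
        (∑ a ∈ s, (w a : ℂ) * r a ^ j) * conj (∑ a ∈ s, (w a : ℂ) * r a ^ j) = (N : ℂ) := by
  classical
  set R := Polynomial.nthRootsFinset (p ^ (k + 1)) (1 : ℂ) with hR
  set R' := Polynomial.nthRootsFinset (p ^ k) (1 : ℂ) with hR'
  have hq : 0 < p ^ (k + 1) := pow_pos hp.pos _
  have hq' : 0 < p ^ k := pow_pos hp.pos _
  have hr' : ∀ a ∈ s, (r a ^ p) ^ p ^ k = 1 := fun a ha => by
    rw [← pow_mul, ← pow_succ']; exact hr a ha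
  have hA := sum_range_mul_conj s w r hq.ne' hr
  have hB := sum_range_mul_conj s w (fun a => r a ^ p) hq'.ne' hr'
  rw [← hR] at hA
  rw [← hR'] at hB
  have hmul : ∑ j ∈ (Finset.range (p ^ (k + 1))).filter (fun j => p ∣ j),
      (∑ a ∈ s, (w a : ℂ) * r a ^ j) * conj (∑ a ∈ s, (w a : ℂ) * r a ^ j) =
      ∑ j ∈ Finset.range (p ^ k),
        (∑ a ∈ s, (w a : ℂ) * (r a ^ p) ^ j) * conj (∑ a ∈ s, (w a : ℂ) * (r a ^ p) ^ j) := by
    refine Finset.sum_nbij' (fun j => j / p) (fun j => p * j) ?_ ?_ ?_ ?_ ?_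
    · intro j hj
      simp only [Finset.mem_filter, Finset.mem_range] at hj ⊢
      exact Nat.div_lt_of_lt_mul (by rw [← pow_succ']; exact hj.1)
    · intro j hj
      simp only [Finset.mem_filter, Finset.mem_range] at hj ⊢
      exact ⟨by rw [pow_succ']; exact Nat.mul_lt_mul_of_pos_left hj hp.pos, dvd_mul_right _ _⟩
    · intro j hj
      simp only [Finset.mem_filter] at hj
      exact Nat.mul_div_cancel' hj.2
    · intro j _
      exact Nat.mul_div_cancel_left _ hp.pos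
    · intro j hj
      simp only [Finset.mem_filter] at hj
      simp only [← pow_mul, Nat.mul_div_cancel' hj.2]
  refine ⟨((p ^ (k + 1) : ℕ) : ℤ) * ∑ μ ∈ R, wt s w r μ ^ 2 -
    ((p ^ k : ℕ) : ℤ) * ∑ c ∈ R', wt s w (fun a => r a ^ p) c ^ 2, ?_, ?_⟩
  swap
  · rw [Int.cast_sub, ← hA, ← hB, ← hmul, eq_sub_iff_add_eq, add_comm]
    exact Finset.sum_filter_add_sum_filter_not _ _ _
  -- regroup over the fibres of the `p`-th power
  set F : ℂ → Finset ℂ := fun c => R.filter (fun μ => μ ^ p = c) with hF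
  have hmap : ∀ μ ∈ R, μ ^ p ∈ R' := fun μ hμ => by
    rw [hR, Polynomial.mem_nthRootsFinset hq] at hμ
    rw [hR', Polynomial.mem_nthRootsFinset hq', ← pow_mul, ← pow_succ']
    exact hμ
  have hN : ∀ c, wt s w (fun a => r a ^ p) c = ∑ μ ∈ F c, wt s w r μ := by
    intro c
    simp only [wt]
    rw [← Finset.sum_fiberwise_of_maps_to (t := F c) (g := r) (fun a ha => by
      obtain ⟨has, hac⟩ := Finset.mem_filter.1 ha
      exact Finset.mem_filter.2
        ⟨(Polynomial.mem_nthRootsFinset hq 1).2 (hr a has), hac⟩)]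
    refine Finset.sum_congr rfl fun μ hμ => ?_
    rw [Finset.filter_filter]
    refine Finset.sum_congr (Finset.filter_congr fun a _ => ?_) fun _ _ => rfl
    exact ⟨fun h => h.2, fun h => ⟨by rw [h]; exact (Finset.mem_filter.1 hμ).2, h⟩⟩
  rw [← Finset.sum_fiberwise_of_maps_to hmap, pow_succ, Nat.cast_mul, mul_assoc, ← mul_sub,
    Nat.cast_pow, Finset.mul_sum, ← Finset.sum_sub_distrib]
  refine mul_le_mul_of_nonneg_left ?_ (by positivity)
  simp only [hN]
  have hcard : ∀ c, (F c).card ≤ p := fun c => by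
    refine le_trans (Finset.card_le_card (t := (Polynomial.nthRoots p c).toFinset) fun μ hμ => ?_)
      ((Multiset.toFinset_card_le _).trans (Polynomial.card_nthRoots p c))
    rw [Multiset.mem_toFinset, Polynomial.mem_nthRoots hp.pos]
    exact (Finset.mem_filter.1 hμ).2
  have hnn : ∀ c ∈ R', (0 : ℤ) ≤
      (p : ℤ) * ∑ μ ∈ F c, wt s w r μ ^ 2 - (∑ μ ∈ F c, wt s w r μ) ^ 2 := fun c _ => by
    have h1 : ((F c).card : ℤ) ≤ p := by exact_mod_cast hcard c
    have h2 := sq_sum_le_card_mul_sum_sq (s := F c) (f := wt s w r)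
    have h3 := mul_le_mul_of_nonneg_right h1
      (Finset.sum_nonneg (s := F c) fun μ _ => sq_nonneg (wt s w r μ))
    linarith
  obtain ⟨c, hc, a, ha, b, hb, hne⟩ : ∃ c ∈ R', ∃ a ∈ F c, ∃ b ∈ F c,
      wt s w r a ≠ wt s w r b := by
    by_contra hcon
    push Not at hcon
    apply hv
    have hv' : ∑ a ∈ s, (w a : ℂ) * r a = ∑ μ ∈ R, (wt s w r μ : ℂ) * μ := by
      rw [← Finset.sum_fiberwise_of_maps_to (t := R) (g := r)
        (fun a ha => (Polynomial.mem_nthRootsFinset hq 1).2 (hr a ha))]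
      refine Finset.sum_congr rfl fun μ _ => ?_
      rw [wt, Int.cast_sum, Finset.sum_mul]
      exact Finset.sum_congr rfl fun a ha => by rw [(Finset.mem_filter.1 ha).2]
    rw [hv', ← Finset.sum_fiberwise_of_maps_to hmap]
    refine Finset.sum_eq_zero fun c hc => ?_
    change ∑ μ ∈ F c, (wt s w r μ : ℂ) * μ = 0
    rcases (F c).eq_empty_or_nonempty with h | ⟨a, ha⟩
    · rw [h, Finset.sum_empty]
    rw [Finset.sum_congr rfl fun μ hμ => by rw [hcon c hc μ hμ a ha], ← Finset.mul_sum]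
    obtain ⟨ω, hω⟩ : ∃ ω : ℂ, IsPrimitiveRoot ω p :=
      ⟨_, Complex.isPrimitiveRoot_exp p hp.ne_zero⟩
    have hω0 : ω ≠ 0 := hω.ne_zero hp.ne_zero
    have hstep : ∀ μ ∈ F c, ω * μ ∈ F c := fun μ hμ => by
      obtain ⟨h1, h2⟩ := Finset.mem_filter.1 hμ
      rw [hR, Polynomial.mem_nthRootsFinset hq] at h1
      refine Finset.mem_filter.2 ⟨?_, by rw [mul_pow, hω.pow_eq_one, one_mul, h2]⟩
      rw [hR, Polynomial.mem_nthRootsFinset hq, mul_pow, h1, mul_one, pow_succ', pow_mul,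
        hω.pow_eq_one, one_pow]
    have himg : (F c).image (ω * ·) = F c :=
      Finset.eq_of_subset_of_card_le (Finset.image_subset_iff.2 hstep)
        (Finset.card_image_of_injective _ (mul_right_injective₀ hω0)).ge
    have hs : ω * ∑ μ ∈ F c, μ = ∑ μ ∈ F c, μ := by
      conv_rhs => rw [← himg, Finset.sum_image fun _ _ _ _ h => mul_right_injective₀ hω0 h]
      rw [Finset.mul_sum]
    have h0 : ∑ μ ∈ F c, μ = 0 := by
      have : (ω - 1) * ∑ μ ∈ F c, μ = 0 := by rw [sub_mul, hs, one_mul, sub_self]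
      exact (mul_eq_zero.1 this).resolve_left (sub_ne_zero.2 (hω.ne_one hp.one_lt))
    rw [h0, mul_zero]
  calc (p : ℤ) - 1 ≤ _ := sub_one_le_of_ne (F c) _ (hcard c) ha hb hne
    _ ≤ _ := Finset.single_le_sum hnn hc

end CfsgLib.RootBound
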