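import Cfsg.Agent.Lib.Blk7.SubsectionNorm
import Cfsg.Agent.Lib.Blk7.MajorUnit
import Cfsg.Agent.Lib.Blk7.RootBound
import Cfsg.Agent.Lib.Blocks12.Bounds
import Cfsg.Agent.Lib.BlockCover.CentralizedDefect
import Cfsg.Agent.Lib.Characters.NormalRes
import Mathlib.Data.Nat.Totient

/-!
# Blocks with all heights zero: `k(B)² ≤ p ^ (2 d) l(b)` for major subsections
-/

set_option autoImplicit false
set_option linter.unusedSectionVars false
set_option maxHeartbeats 1000000

namespace CfsgLib.SubsectionSq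

open Cfsg CfsgLib.Characters CfsgLib.Blocks CfsgLib.Contribution
open scoped ComplexConjugate Classical

universe u

variable {G : Type u} [Group G] [Fintype G] {p : ℕ} [hp : Fact p.Prime] {M : Ideal AlgInt}

/-- The contribution of a pair of characters at the subsection `(x, b)`. -/
noncomputable def subContrib (p d : ℕ) (C : Subgroup G) [Fintype C]
    (b : Set (IrrCharacter C)) (x : G) (χ ψ : IrrCharacter G) : ℂ :=
  (p : ℂ) ^ d * (Nat.card C : ℂ)⁻¹ *
    ∑ u ∈ Finset.univ.filter (fun u : C => ¬ p ∣ orderOf u),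
      blockPart b (fun c : C => (χ : G → ℂ) (x * c)) u *
        conj (blockPart b (fun c : C => (ψ : G → ℂ) (x * c)) u)

/-- The squares of the contributions at a subsection add up to `p ^ (2 d) l(b)`. -/
theorem sum_sq (hM : IsPModular p M) (d : ℕ) {x : G} (hx : ∃ k : ℕ, orderOf x = p ^ k)
    {C : Subgroup G} [Fintype C] (hC : C = Subgroup.centralizer ({x} : Set G))
    {B : Set (IrrCharacter G)} {b : Set (IrrCharacter C)} (hind : IsInducedBlock M C b B) :
    ∑ χ ∈ Finset.univ.filter (· ∈ B), ∑ ψ ∈ Finset.univ.filter (· ∈ B),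
      subContrib p d C b x χ ψ * conj (subContrib p d C b x χ ψ) =
      (p : ℂ) ^ (2 * d) * (blockRank p b : ℂ) := by
  subst hC
  set R := Finset.univ.filter (fun u : ↥(Subgroup.centralizer ({x} : Set G)) => ¬ p ∣ orderOf u) with hR
  set n : ℂ := (Nat.card ↥(Subgroup.centralizer ({x} : Set G)) : ℂ)
  have hn : n ≠ 0 := Nat.cast_ne_zero.2 Nat.card_pos.ne'
  have hb := hind.1
  have hreg : ∀ u : ↥(Subgroup.centralizer ({x} : Set G)), u ∈ R → ¬ p ∣ orderOf u := fun u hu => (Finset.mem_filter.1 hu).2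
  set P : IrrCharacter G → ↥(Subgroup.centralizer ({x} : Set G)) → ℂ := fun χ u =>
    blockPart b (fun c : ↥(Subgroup.centralizer ({x} : Set G)) => (χ : G → ℂ) (x * c)) u with hP
  have hPR : ∀ χ : IrrCharacter G, ∀ u ∈ R,
      P χ u = ∑ c ∈ R, SubsectionNorm.ker b u c * (χ : G → ℂ) (x * c) := fun χ u hu =>
    SubsectionNorm.blockPart_regular hM hb _ (hreg u hu)
  have hker : ∀ (η : IrrCharacter ↥(Subgroup.centralizer ({x} : Set G))), ∀ u ∈ R,
      ∑ c ∈ R, SubsectionNorm.ker b u c * (η : ↥(Subgroup.centralizer ({x} : Set G)) → ℂ) c = if η ∈ b then (η : ↥(Subgroup.centralizer ({x} : Set G)) → ℂ) u else 0 := by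
    intro η u hu
    rw [hR, ← SubsectionNorm.blockPart_regular hM hb _ (hreg u hu), blockPart_irr]
  set Φ : ↥(Subgroup.centralizer ({x} : Set G)) → ↥(Subgroup.centralizer ({x} : Set G)) → ℂ := fun u v => ∑ η ∈ Finset.univ.filter (· ∈ b),
    (η : ↥(Subgroup.centralizer ({x} : Set G)) → ℂ) u * conj ((η : ↥(Subgroup.centralizer ({x} : Set G)) → ℂ) v) with hΦ
  have hΦk : ∀ u v, Φ u v = n * SubsectionNorm.ker b u v := fun u v => by
    rw [SubsectionNorm.ker, ← mul_assoc, mul_inv_cancel₀ hn, one_mul]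
  -- the second main theorem and column orthogonality
  have hPhi : ∀ u ∈ R, ∀ v ∈ R,
      ∑ χ ∈ Finset.univ.filter (· ∈ B), P χ u * conj (P χ v) = Φ u v := by
    intro u hu v hv
    have hout : ∀ χ : IrrCharacter G, χ ∉ B → P χ u = 0 := fun χ hχ =>
      blockPart_sectionFun_eq_zero hM hx hb (fun h => hχ (by
        rw [IsInducedBlock.unique hM hind h]; exact mem_blockOf_self hM χ)) (hreg u hu)
    rw [Finset.sum_subset (Finset.subset_univ _) fun χ _ hχ => by
      rw [hout χ (fun h => hχ (Finset.mem_filter.2 ⟨Finset.mem_univ _, h⟩)), zero_mul]]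
    calc ∑ χ : IrrCharacter G, P χ u * conj (P χ v)
        = ∑ c ∈ R, ∑ e ∈ R, SubsectionNorm.ker b u c * conj (SubsectionNorm.ker b v e) *
            ∑ χ : IrrCharacter G, (χ : G → ℂ) (x * c) * conj ((χ : G → ℂ) (x * e)) := by
          simp only [Finset.mul_sum]
          rw [Finset.sum_congr rfl fun χ _ => by
            rw [hPR χ u hu, hPR χ v hv, map_sum, Finset.sum_mul_sum]]
          rw [Finset.sum_comm]
          refine Finset.sum_congr rfl fun c _ => ?_
          rw [Finset.sum_comm]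
          exact Finset.sum_congr rfl fun e _ => Finset.sum_congr rfl fun χ _ => by
            rw [map_mul]; ring
      _ = ∑ c ∈ R, ∑ e ∈ R, SubsectionNorm.ker b u c * conj (SubsectionNorm.ker b v e) *
            ∑ η : IrrCharacter ↥(Subgroup.centralizer ({x} : Set G)), (η : ↥(Subgroup.centralizer ({x} : Set G)) → ℂ) c * conj ((η : ↥(Subgroup.centralizer ({x} : Set G)) → ℂ) e) := by
          refine Finset.sum_congr rfl fun c hc => Finset.sum_congr rfl fun e he => ?_
          rw [SubsectionNorm.section_orth hM hx (hreg c hc) (hreg e he)]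
      _ = ∑ η : IrrCharacter ↥(Subgroup.centralizer ({x} : Set G)), (∑ c ∈ R, SubsectionNorm.ker b u c * (η : ↥(Subgroup.centralizer ({x} : Set G)) → ℂ) c) *
            conj (∑ e ∈ R, SubsectionNorm.ker b v e * (η : ↥(Subgroup.centralizer ({x} : Set G)) → ℂ) e) := by
          simp only [Finset.mul_sum, map_sum, Finset.sum_mul]
          rw [Finset.sum_comm (s := (Finset.univ : Finset (IrrCharacter ↥(Subgroup.centralizer ({x} : Set G))))), Finset.sum_comm (s := R)]
          refine Finset.sum_congr rfl fun e _ => ?_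
          rw [Finset.sum_comm (s := (Finset.univ : Finset (IrrCharacter ↥(Subgroup.centralizer ({x} : Set G)))))]
          exact Finset.sum_congr rfl fun c _ => Finset.sum_congr rfl fun η _ => by
            rw [map_mul]; ring
      _ = Φ u v := by
          simp only [hΦ]
          rw [Finset.sum_filter]
          refine Finset.sum_congr rfl fun η _ => ?_
          rw [hker η u hu, hker η v hv]
          split_ifs <;> simp
  have hrepro : ∀ u ∈ R, ∑ v ∈ R, SubsectionNorm.ker b u v * Φ v u = Φ u u := by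
    intro u hu
    simp only [hΦ, Finset.mul_sum]
    rw [Finset.sum_comm]
    refine Finset.sum_congr rfl fun η hη => ?_
    rw [Finset.sum_congr rfl fun v _ => (mul_assoc _ _ _).symm, ← Finset.sum_mul, hker η u hu,
      if_pos (Finset.mem_filter.1 hη).2]
  have hrank : ∑ u ∈ R, Φ u u = n * (blockRank p b : ℂ) := by
    rw [Blk7.card_mul_blockRank hM hb, hR, Finset.sum_filter]
    refine Finset.sum_congr rfl fun s _ => ?_
    by_cases h : p ∣ orderOf s <;> simp [hΦ, pRegularPart, IsPRegular, h]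
  calc ∑ χ ∈ Finset.univ.filter (· ∈ B), ∑ ψ ∈ Finset.univ.filter (· ∈ B),
        subContrib p d (Subgroup.centralizer ({x} : Set G)) b x χ ψ * conj (subContrib p d (Subgroup.centralizer ({x} : Set G)) b x χ ψ)
      = ((p : ℂ) ^ d * n⁻¹) ^ 2 * ∑ u ∈ R, ∑ v ∈ R,
          (∑ χ ∈ Finset.univ.filter (· ∈ B), P χ u * conj (P χ v)) *
            (∑ ψ ∈ Finset.univ.filter (· ∈ B), P ψ v * conj (P ψ u)) := by
        have hc : ∀ χ ψ : IrrCharacter G, subContrib p d (Subgroup.centralizer ({x} : Set G)) b x χ ψ *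
            conj (subContrib p d (Subgroup.centralizer ({x} : Set G)) b x χ ψ) =
            ∑ u ∈ R, ∑ v ∈ R, ((p : ℂ) ^ d * n⁻¹) ^ 2 *
              ((P χ u * conj (P χ v)) * (P ψ v * conj (P ψ u))) := fun χ ψ => by
          simp only [subContrib, map_mul, map_pow, map_inv₀, Complex.conj_natCast, map_sum,
            Complex.conj_conj]
          rw [mul_mul_mul_comm, Finset.sum_mul_sum, Finset.mul_sum]
          refine Finset.sum_congr rfl fun u _ => ?_
          rw [Finset.mul_sum]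
          exact Finset.sum_congr rfl fun v _ => by simp only [hP, n]; ring
        rw [Finset.sum_congr rfl fun χ _ => Finset.sum_congr rfl fun ψ _ => hc χ ψ,
          Finset.sum_congr rfl fun χ _ => Finset.sum_comm, Finset.sum_comm, Finset.mul_sum]
        refine Finset.sum_congr rfl fun u _ => ?_
        rw [Finset.sum_congr rfl fun χ _ => Finset.sum_comm, Finset.sum_comm, Finset.mul_sum]
        refine Finset.sum_congr rfl fun v _ => ?_
        rw [Finset.sum_mul_sum, Finset.mul_sum]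
        exact Finset.sum_congr rfl fun χ _ => (Finset.mul_sum _ _ _).symm
    _ = ((p : ℂ) ^ d * n⁻¹) ^ 2 * ∑ u ∈ R, n * Φ u u := by
        refine congrArg _ (Finset.sum_congr rfl fun u hu => ?_)
        rw [← hrepro u hu, Finset.mul_sum]
        refine Finset.sum_congr rfl fun v hv => ?_
        rw [hPhi u hu v hv, hPhi v hv u hu, hΦk u v, mul_assoc]
    _ = _ := by
        rw [← Finset.mul_sum, hrank]
        field_simp
        ring

variable {C : Subgroup G} [Fintype C]

theorem exists_mult_res (χ : IrrCharacter G) (ξ : IrrCharacter C) :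
    ∃ m : ℕ, classInner (fun c : C => (χ : G → ℂ) c) (ξ : C → ℂ) = m :=
  classInner_char_nat (NormalRes.isCharacter_res C (irr_isCharacter χ)) (irr_isCharacter ξ)

/-- Shifting by a central element multiplies the multiplicities by its scalar. -/
theorem classInner_shift {z : C} (hz : z ∈ Subgroup.center C) (χ : IrrCharacter G)
    (ξ : IrrCharacter C) :
    classInner (fun c : C => (χ : G → ℂ) ((z : G) * c)) (ξ : C → ℂ) =
      (ξ : C → ℂ) z / (ξ : C → ℂ) 1 * classInner (fun c : C => (χ : G → ℂ) c) (ξ : C → ℂ) := by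
  simp only [classInner, Finset.mul_sum]
  refine Fintype.sum_equiv (Equiv.mulLeft z) _ _ fun c => ?_
  simp only [Equiv.coe_mulLeft, Subgroup.coe_mul]
  have h1 := CentralDefect.apply_central_mul ξ ((Subgroup.center C).inv_mem hz) (z * c)
  rw [inv_mul_cancel_left, irr_apply_inv, CharCorr.irr_one_eq_charDegree] at h1
  rw [CharCorr.irr_one_eq_charDegree, h1, map_mul, map_div₀, Complex.conj_conj, Complex.conj_natCast]
  ring

theorem apply_central_pow (ξ : IrrCharacter C) {z : C} (hz : z ∈ Subgroup.center C) (j : ℕ) :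
    (ξ : C → ℂ) (z ^ j) / (ξ : C → ℂ) 1 = ((ξ : C → ℂ) z / (ξ : C → ℂ) 1) ^ j := by
  induction j with
  | zero => rw [pow_zero, pow_zero, div_self (irr_one_ne_zero ξ)]
  | succ j ih =>
    rw [pow_succ', CentralDefect.apply_central_mul ξ hz, mul_div_assoc, ih, ← pow_succ']

theorem not_dvd_red (hM : IsPModular p M) {B : Set (IrrCharacter G)} {χ : IrrCharacter G}
    (hχ : χ ∈ B) (h0 : blockHeight p B (χ : G → ℂ) = 0) : ¬ p ∣ red p B χ := by
  intro h
  have h1 := (pow_dvd_red hM.1 hχ (k := 1)).1 (by rwa [pow_one])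
  have h2 : (charDegree (χ : G → ℂ)).factorization p ≤ minExp p B := Nat.sub_eq_zero_iff_le.1 h0
  omega

/-- The reduced degree of the `b`-part of the restriction of a height zero character is prime
to `p`. -/
theorem not_dvd_resDegree (hM : IsPModular p M) {Q : Subgroup G} (hQp : IsPGroup p Q)
    (hQ : Q ≤ BrauerPairs.cz Q) (hC : C = BrauerPairs.cz Q) {b : Set (IrrCharacter C)}
    {B : Set (IrrCharacter G)} (hind : IsInducedBlock M C b B)
    (hd : blockDefect p b = blockDefect p B) {χ : IrrCharacter G} (hχ : χ ∈ B)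
    (h0 : ¬ p ∣ red p B χ) (m : IrrCharacter C → ℕ)
    (hm : ∀ ξ : IrrCharacter C, classInner (fun c : C => (χ : G → ℂ) c) (ξ : C → ℂ) = m ξ) :
    ¬ p ∣ ∑ ξ ∈ Finset.univ.filter (· ∈ b), m ξ * red p b ξ := by
  have := hM.2.1
  intro hdvd
  apply MajorUnit.omega_trace_unit hM hQp hQ hC hind hd hχ
  set T := ∑ ξ ∈ Finset.univ.filter (· ∈ b), m ξ * red p b ξ with hT
  have hS : ∑ c : C, blockCoeff b c * (χ : G → ℂ) c = (p : ℂ) ^ minExp p b * (T : ℂ) := by
    have h := sum_blockCoeff_mul_eq_blockPart b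
      (NormalRes.isClassFunction_res C (irr_isClassFunction χ)) (1 : C)
    simp only [mul_one] at h
    rw [h, blockPart_eq_sum, hT, Nat.cast_sum, Finset.mul_sum]
    refine Finset.sum_congr rfl fun ξ hξ => ?_
    rw [hm, apply_one_red (p := p) (Finset.mem_filter.1 hξ).2]
    push_cast
    ring
  have hexp : C.index.factorization p + minExp p b = minExp p B := by
    have h1 := minExp_add_defect hM hind.1
    have h2 := minExp_add_defect hM hind.2.1
    have h3 := BlockCover.factorization_card_eq (p := p) C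
    omega
  have hidx : (C.index : ℂ) = (p : ℂ) ^ C.index.factorization p *
      ((C.index / p ^ C.index.factorization p : ℕ) : ℂ) := by
    exact_mod_cast (Nat.ordProj_mul_ordCompl_eq_self C.index p).symm
  have hp0 : (p : ℂ) ≠ 0 := Nat.cast_ne_zero.2 hM.1.ne_zero
  rw [hS, hidx, apply_one_red (p := p) hχ, ← hexp, pow_add,
    show ∀ a u e t r : ℂ, a * u * (e * t) / (a * e * r) = a * e * (u * t) / (a * e * r) from
      fun a u e t r => by ring_nf,
    mul_div_mul_left _ _ (mul_ne_zero (pow_ne_zero _ hp0) (pow_ne_zero _ hp0)), div_eq_mul_inv]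
  refine MemLocalIdeal.mul_right hM (MemLocalIdeal.mul_left hM (natCast_mem (lRing hM) _)
    ((memLocalIdeal_natCast_iff hM T).2 hdvd)) (inv_natCast_mem_lRing hM h0)

variable [Fintype (ConjClasses C)]

/-- A contribution of `b` to the pair of reduced degrees, modulo `M`. -/
theorem red_mul_contribInt_congr (hM : IsPModular p M) {b : Set (IrrCharacter C)}
    (hb : IsPBlock M b) {η₀ ξ η : IrrCharacter C} (h0 : η₀ ∈ b) (hξ : ξ ∈ b) (hη : η ∈ b) :
    MemLocalIdeal M ((red p b η₀ : ℂ) * (contribInt p b ξ η : ℂ) -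
      (red p b ξ : ℂ) * (red p b η : ℂ) * tfac p η₀ η₀) := by
  rw [contribInt_cast hM hb ξ hη, contrib_eq hM hb ξ hη]
  have hsame : ∀ ζ ∈ b, SameBlock M (ζ : C → ℂ) (η₀ : C → ℂ) := fun ζ hζ =>
    (IsPBlock.mem_iff hM hb hζ η₀).1 h0
  have h1 := MemLocalIdeal.mul_left hM
    (x := (red p b η₀ : ℂ) * (red p b η : ℂ))
    ((lRing hM).mul_mem (natCast_mem (lRing hM) _) (natCast_mem (lRing hM) _))
    (tfac_congr hM ξ (hsame η hη))
  have h2 := MemLocalIdeal.mul_left hM (x := (red p b η : ℂ) * (red p b ξ : ℂ))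
    ((lRing hM).mul_mem (natCast_mem (lRing hM) _) (natCast_mem (lRing hM) _))
    (tfac_congr hM η₀ (hsame ξ hξ))
  have h3 : (red p b η₀ : ℂ) * tfac p ξ η₀ = (red p b ξ : ℂ) * tfac p η₀ ξ := by
    rw [← contrib_eq hM hb ξ h0, ← contrib_eq hM hb η₀ hξ, contrib_symm hM hb ξ h0]
  have h := MemLocalIdeal.add hM h1 h2
  convert h using 1
  linear_combination (red p b η : ℂ) * h3

/-- `k(B)² ≤ p ^ (2 d) l(b)` when all heights are zero and `(y, b)` is a major subsection. -/
theorem card_sq_le (hM : IsPModular p M) {B : Set (IrrCharacter G)}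
    (hh : ∀ χ ∈ B, blockHeight p B (χ : G → ℂ) = 0) {y : G} (hy : ∃ k : ℕ, orderOf y = p ^ k)
    (hC : C = Subgroup.centralizer ({y} : Set G)) {b : Set (IrrCharacter C)}
    (hind : IsInducedBlock M C b B) (hd : blockDefect p b = blockDefect p B) :
    Nat.card B ^ 2 ≤ p ^ (2 * blockDefect p b) * blockRank p b := by
  have := hM.2.1
  have hb := hind.1
  have hyC : y ∈ C := hC ▸ Subgroup.mem_centralizer_singleton_iff.2 rfl
  set z : C := ⟨y, hyC⟩ with hz
  have hzc : z ∈ Subgroup.center C := Subgroup.mem_center_iff.2 fun c => Subtype.ext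
    (Subgroup.mem_centralizer_singleton_iff.1 (hC ▸ c.2 : (c : G) ∈ _))
  obtain ⟨e, he⟩ := hy
  set q := p ^ (e + 1) with hq
  have hzq : z ^ q = 1 := Subtype.ext (by
    rw [SubgroupClass.coe_pow, OneMemClass.coe_one, hq, hz, pow_succ, pow_mul, ← he,
      pow_orderOf_eq_one, one_pow])
  set r : IrrCharacter C → ℂ := fun ξ => (ξ : C → ℂ) z / (ξ : C → ℂ) 1 with hr
  have hrq : ∀ ξ, r ξ ^ q = 1 := fun ξ => by
    rw [hr, ← apply_central_pow ξ hzc, hzq, div_self (irr_one_ne_zero ξ)]
  choose m hm using fun (χ : IrrCharacter G) (ξ : IrrCharacter C) => exists_mult_res χ ξ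
  set bF := Finset.univ.filter (· ∈ b) with hbF
  set BF := Finset.univ.filter (· ∈ B) with hBF
  set s := bF ×ˢ bF
  set w : IrrCharacter G → IrrCharacter G → IrrCharacter C × IrrCharacter C → ℤ := fun χ ψ t =>
    (m χ t.1 : ℤ) * (m ψ t.2 : ℤ) * contribInt p b t.1 t.2 with hw
  set ρ : IrrCharacter C × IrrCharacter C → ℂ := fun t => r t.1 * conj (r t.2) with hρ
  have hρq : ∀ t, ρ t ^ q = 1 := fun t => by
    rw [hρ, mul_pow, ← map_pow, hrq, hrq, map_one, one_mul]
  -- the contributions as combinations of roots of unity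
  have hpart : ∀ (j : ℕ) (χ : IrrCharacter G) (u : C),
      blockPart b (fun c : C => (χ : G → ℂ) (y ^ j * c)) u =
        ∑ ξ ∈ bF, (m χ ξ : ℂ) * r ξ ^ j * (ξ : C → ℂ) u := by
    intro j χ u
    rw [blockPart_eq_sum]
    refine Finset.sum_congr rfl fun ξ _ => ?_
    rw [show (fun c : C => (χ : G → ℂ) (y ^ j * c)) =
        fun c : C => (χ : G → ℂ) (((z ^ j : C) : G) * c) from funext fun c => by simp [hz],
      classInner_shift (Subgroup.pow_mem _ hzc j), hm, apply_central_pow ξ hzc, hr]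
    ring
  have hsub : ∀ (j : ℕ) (χ ψ : IrrCharacter G),
      subContrib p (blockDefect p b) C b (y ^ j) χ ψ =
        ∑ t ∈ s, (w χ ψ t : ℂ) * ρ t ^ j := by
    intro j χ ψ
    rw [subContrib]
    simp only [hpart, map_sum, map_mul, map_pow, Complex.conj_natCast, Finset.sum_mul_sum]
    simp only [Finset.mul_sum]
    rw [Finset.sum_product, Finset.sum_comm]
    refine Finset.sum_congr rfl fun ξ hξ => ?_
    rw [Finset.sum_comm]
    refine Finset.sum_congr rfl fun η hη => ?_
    simp only [hw, hρ, Int.cast_mul, Int.cast_natCast]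
    rw [contribInt_cast hM hb ξ (Finset.mem_filter.1 hη).2, contrib, Contribution.regSum]
    simp only [Finset.mul_sum, Finset.sum_mul]
    exact Finset.sum_congr rfl fun u _ => by ring
  -- they do not vanish
  obtain ⟨η₀, hη₀, hη₀u, -⟩ := Contribution.exists_height_zero hM hb
  have hτ := tfac_unit hM hb hη₀ hη₀u hη₀
  have hQ : Subgroup.zpowers y ≤ BrauerPairs.cz (Subgroup.zpowers y) := fun g hg =>
    BrauerPairs.mem_cz.2 fun a ha => by
      obtain ⟨i, rfl⟩ := Subgroup.mem_zpowers_iff.1 hg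
      obtain ⟨l, rfl⟩ := Subgroup.mem_zpowers_iff.1 ha
      rw [← zpow_add, ← zpow_add, add_comm]
  have hQp : IsPGroup p (Subgroup.zpowers y) := IsPGroup.of_card (by rw [Nat.card_zpowers, he])
  have hCQ : C = BrauerPairs.cz (Subgroup.zpowers y) := by
    rw [hC, BrauerPairs.cz, Subgroup.zpowers_eq_closure, Subgroup.centralizer_closure]
  set T : IrrCharacter G → ℕ := fun χ => ∑ ξ ∈ bF, m χ ξ * red p b ξ with hT
  have hTu : ∀ χ ∈ B, ¬ p ∣ T χ := fun χ hχ =>
    not_dvd_resDegree hM hQp hQ hCQ hind hd hχ (not_dvd_red hM hχ (hh χ hχ)) (m χ) (hm χ)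
  have hne : ∀ χ ∈ B, ∀ ψ ∈ B, ∑ t ∈ s, (w χ ψ t : ℂ) * ρ t ≠ 0 := by
    intro χ hχ ψ hψ hv
    have hρ1 : ∀ t, MemLocalIdeal M (ρ t - 1) := fun t =>
      CentralDefect.root_sub_one_mem hM (hρq t)
    have h1 : MemLocalIdeal M (∑ t ∈ s, (w χ ψ t : ℂ)) := by
      have h := MemLocalIdeal.sum hM s (f := fun t => (w χ ψ t : ℂ) * (ρ t - 1)) fun t _ =>
        MemLocalIdeal.mul_left hM (intCast_mem (lRing hM) _) (hρ1 t)
      simp only [mul_sub, mul_one, Finset.sum_sub_distrib, hv, zero_sub] at h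
      simpa using MemLocalIdeal.sub hM (memLocalIdeal_zero hM) h
    have h2 : MemLocalIdeal M ((red p b η₀ : ℂ) * (∑ t ∈ s, (w χ ψ t : ℂ)) -
        (T χ : ℂ) * (T ψ : ℂ) * tfac p η₀ η₀) := by
      have e : (red p b η₀ : ℂ) * (∑ t ∈ s, (w χ ψ t : ℂ)) -
          (T χ : ℂ) * (T ψ : ℂ) * tfac p η₀ η₀ =
          ∑ t ∈ s, (m χ t.1 : ℂ) * (m ψ t.2 : ℂ) *
            ((red p b η₀ : ℂ) * (contribInt p b t.1 t.2 : ℂ) -
              (red p b t.1 : ℂ) * (red p b t.2 : ℂ) * tfac p η₀ η₀) := by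
        simp only [hT, Nat.cast_sum, Nat.cast_mul, hw, Int.cast_mul, Int.cast_natCast]
        rw [Finset.sum_mul_sum, Finset.sum_mul, Finset.mul_sum]
        simp only [Finset.sum_mul, s, Finset.sum_product, ← Finset.sum_sub_distrib]
        exact Finset.sum_congr rfl fun ξ _ => Finset.sum_congr rfl fun η _ => by ring
      rw [e]
      refine MemLocalIdeal.sum hM _ fun t ht => ?_
      obtain ⟨ht1, ht2⟩ := Finset.mem_product.1 ht
      exact MemLocalIdeal.mul_left hM
        ((lRing hM).mul_mem (natCast_mem (lRing hM) _) (natCast_mem (lRing hM) _))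
        (red_mul_contribInt_congr hM hb hη₀ (Finset.mem_filter.1 ht1).2
          (Finset.mem_filter.1 ht2).2)
    have h3 : MemLocalIdeal M ((T χ : ℂ) * (T ψ : ℂ) * tfac p η₀ η₀) := by
      simpa using MemLocalIdeal.sub hM
        (MemLocalIdeal.mul_left hM (natCast_mem (lRing hM) (red p b η₀)) h1) h2
    have hTi : ∀ φ ∈ B, ¬ MemLocalIdeal M (T φ : ℂ) := fun φ hφ h =>
      hTu φ hφ ((memLocalIdeal_natCast_iff hM _).1 h)
    exact BlockCover.not_memLocalIdeal_mul hM
      ((lRing hM).mul_mem (natCast_mem (lRing hM) _) (natCast_mem (lRing hM) _))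
      (tfac_mem hM _ _)
      (BlockCover.not_memLocalIdeal_mul hM (natCast_mem (lRing hM) _) (natCast_mem (lRing hM) _)
        (hTi χ hχ) (hTi ψ hψ)) hτ h3
  -- the average over the conjugate subsections
  choose! N hN1 hN2 using fun χ hχ ψ hψ =>
    RootBound.sum_conjugates_ge hM.1 e s (w χ ψ) ρ (fun t _ => hρq t) (hne χ hχ ψ hψ)
  set J := (Finset.range q).filter (fun j => ¬ p ∣ j) with hJ
  have hcent : ∀ j ∈ J, C = Subgroup.centralizer ({y ^ j} : Set G) := by
    intro j hj
    have hcop : j.Coprime (orderOf y) := by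
      rw [he]
      exact Nat.Coprime.pow_right e ((hM.1.coprime_iff_not_dvd.2 (Finset.mem_filter.1 hj).2).symm)
    obtain ⟨i, hi⟩ := exists_pow_eq_self_of_coprime hcop
    rw [hC]
    ext g
    simp only [Subgroup.mem_centralizer_singleton_iff]
    constructor
    · intro h; exact (Commute.pow_right (show Commute g y from h) j).eq
    · intro h
      have h' := Commute.pow_right (show Commute g (y ^ j) from h) i
      rw [hi] at h'
      exact h'.eq
  have hord : ∀ j : ℕ, ∃ k : ℕ, orderOf (y ^ j) = p ^ k := fun j => by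
    obtain ⟨k, -, hk⟩ := (Nat.dvd_prime_pow hM.1).1 (he ▸ orderOf_pow_dvd (x := y) j)
    exact ⟨k, hk⟩
  have hJc : J.card = p ^ e * (p - 1) := by
    rw [← Nat.totient_prime_pow_succ hM.1 e, Nat.totient_eq_card_coprime, hJ, hq]
    congr 1
    refine Finset.filter_congr fun j _ => ?_
    rw [Nat.coprime_pow_left_iff (Nat.succ_pos e), hM.1.coprime_iff_not_dvd]
  have htot : ((∑ χ ∈ BF, ∑ ψ ∈ BF, N χ ψ : ℤ) : ℂ) =
      (((p ^ e * (p - 1) * (p ^ (2 * blockDefect p b) * blockRank p b) : ℕ) : ℤ) : ℂ) := by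
    have h1 : ∀ j ∈ J, ∑ χ ∈ BF, ∑ ψ ∈ BF,
        (∑ t ∈ s, (w χ ψ t : ℂ) * ρ t ^ j) * conj (∑ t ∈ s, (w χ ψ t : ℂ) * ρ t ^ j) =
        (p : ℂ) ^ (2 * blockDefect p b) * (blockRank p b : ℂ) := fun j hj => by
      simp only [← hsub]
      exact sum_sq hM _ (hord j) (hcent j hj) hind
    rw [Int.cast_sum, Finset.sum_congr rfl fun χ hχ => by
      rw [Int.cast_sum, Finset.sum_congr rfl fun ψ hψ =>
        (hN2 χ (Finset.mem_filter.1 hχ).2 ψ (Finset.mem_filter.1 hψ).2).symm]]
    rw [Finset.sum_congr rfl fun χ _ => Finset.sum_comm, Finset.sum_comm,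
      Finset.sum_congr rfl h1, Finset.sum_const, hJc, nsmul_eq_mul]
    push_cast
    ring
  have htot' := Int.cast_injective (α := ℂ) htot
  have hlow : ((p : ℤ) ^ e * ((p : ℤ) - 1)) * ((BF.card : ℤ) * BF.card) ≤
      ∑ χ ∈ BF, ∑ ψ ∈ BF, N χ ψ := by
    have h := Finset.sum_le_sum fun χ (hχ : χ ∈ BF) => Finset.sum_le_sum fun ψ (hψ : ψ ∈ BF) =>
      hN1 χ (Finset.mem_filter.1 hχ).2 ψ (Finset.mem_filter.1 hψ).2
    simp only [Finset.sum_const, nsmul_eq_mul] at h
    linarith [h]
  rw [htot', Nat.cast_mul, Nat.cast_mul, Nat.cast_pow, Nat.cast_pred hM.1.pos] at hlow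
  have hpos : 0 < (p : ℤ) ^ e * ((p : ℤ) - 1) := by
    have : (2 : ℤ) ≤ p := by exact_mod_cast hM.1.two_le
    exact mul_pos (pow_pos (by linarith) e) (by linarith)
  have h := le_of_mul_le_mul_left hlow hpos
  rw [show Nat.card B = BF.card by
    rw [hBF, ← Fintype.card_subtype, ← Nat.card_eq_fintype_card], sq]
  exact_mod_cast h

end CfsgLib.SubsectionSq
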