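import Cfsg.Prelude.Def_BlockRank
import Cfsg.Agent.Lib.Blocks.BlockParts

/-!
Brauer's count `k(B) = ∑ l(b)` over the subsections.
-/

set_option autoImplicit false
set_option linter.unusedSectionVars false

noncomputable section

namespace CfsgLib.Blk7

open Cfsg CfsgLib.Characters CfsgLib.Blocks
open scoped ComplexConjugate

universe u

variable {G : Type u} [Group G] [Fintype G] {p : ℕ} {M : Ideal AlgInt}

/-- The span of the `p`-regular parts of a set of irreducible characters. -/
def regSpan (p : ℕ) (A : Set (IrrCharacter G)) : Submodule ℂ (G → ℂ) :=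
  Submodule.span ℂ ((fun χ : IrrCharacter G => pRegularPart p (χ : G → ℂ)) '' A)

/-- The set is a union of blocks. -/
def BlockClosed (M : Ideal AlgInt) (A : Set (IrrCharacter G)) : Prop :=
  ∀ χ ψ : IrrCharacter G, χ ∈ A → SameBlock M (χ : G → ℂ) (ψ : G → ℂ) → ψ ∈ A

omit [Fintype G] in
theorem blockRank_eq (A : Set (IrrCharacter G)) : blockRank p A = Module.finrank ℂ (regSpan p A) :=
  rfl

omit [Fintype G] in
theorem pRegularPart_apply (f : G → ℂ) (g : G) [Decidable (IsPRegular p g)] :
    pRegularPart p f g = if IsPRegular p g then f g else 0 := by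
  unfold pRegularPart
  split_ifs <;> rfl

omit [Fintype G] in
/-- The `p`-regular part as a linear map. -/
def regPart (p : ℕ) : (G → ℂ) →ₗ[ℂ] (G → ℂ) where
  toFun f := pRegularPart p f
  map_add' f f' := by
    classical
    funext g
    simp only [pRegularPart_apply, Pi.add_apply]
    split_ifs <;> simp
  map_smul' c f := by
    classical
    funext g
    simp only [pRegularPart_apply, Pi.smul_apply, RingHom.id_apply, smul_eq_mul]
    split_ifs <;> simp

omit [Fintype G] in
theorem regPart_apply_of_regular {f : G → ℂ} {g : G} (hg : ¬ p ∣ orderOf g) :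
    regPart p f g = f g := by
  classical
  show pRegularPart p f g = f g
  rw [pRegularPart_apply, if_pos (show IsPRegular p g from hg)]

omit [Fintype G] in
theorem regSpan_singular {A : Set (IrrCharacter G)} {f : G → ℂ} (hf : f ∈ regSpan p A) {g : G}
    (hg : p ∣ orderOf g) : f g = 0 := by
  classical
  induction hf using Submodule.span_induction with
  | mem f hf =>
    obtain ⟨χ, -, rfl⟩ := hf
    show pRegularPart p (χ : G → ℂ) g = 0
    rw [pRegularPart_apply, if_neg (fun h => h hg)]
  | zero => rfl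
  | add _ _ _ _ h h' => simp [h, h']
  | smul c _ _ h => simp [h]

omit [Fintype G] in
theorem regSpan_classFunction {A : Set (IrrCharacter G)} {f : G → ℂ} (hf : f ∈ regSpan p A) :
    IsClassFunction G f := by
  classical
  induction hf using Submodule.span_induction with
  | mem f hf =>
    obtain ⟨χ, -, rfl⟩ := hf
    intro g h
    show pRegularPart p (χ : G → ℂ) (h * g * h⁻¹) = pRegularPart p (χ : G → ℂ) g
    rw [pRegularPart_apply, pRegularPart_apply]
    have hiff : IsPRegular p (h * g * h⁻¹) ↔ IsPRegular p g := by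
      rw [IsPRegular, IsPRegular, ← MulAut.conj_apply, MulEquiv.orderOf_eq]
    simp only [hiff, irr_isClassFunction χ g h]
  | zero => intro g h; rfl
  | add _ _ _ _ h h' => exact isClassFunction_add h h'
  | smul c _ _ h => exact isClassFunction_smul h c

/-- Different blocks are independent on the `p`-regular elements. -/
theorem regSpan_disjoint (hM : IsPModular p M) {A A' : Set (IrrCharacter G)}
    (h : ∀ χ ∈ A, ∀ ψ ∈ A', ¬ SameBlock M (χ : G → ℂ) (ψ : G → ℂ)) :
    regSpan p A ⊓ regSpan p A' = ⊥ := by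
  classical
  let form : (G → ℂ) → (G → ℂ) → ℂ := fun f f' => ∑ g, f g * conj (f' g)
  have h1 : ∀ f ∈ regSpan p A, ∀ ψ ∈ A', form f (pRegularPart p (ψ : G → ℂ)) = 0 := by
    intro f hf ψ hψ
    induction hf using Submodule.span_induction with
    | mem f hf =>
      obtain ⟨χ, hχ, rfl⟩ := hf
      show ∑ g, pRegularPart p (χ : G → ℂ) g * conj (pRegularPart p (ψ : G → ℂ) g) = 0
      rw [← sum_regular_eq_zero_of_not_sameBlock hM (h χ hχ ψ hψ), Finset.sum_filter]
      refine Finset.sum_congr rfl fun g _ => ?_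
      rw [pRegularPart_apply, pRegularPart_apply]
      by_cases hg : IsPRegular p g
      · rw [if_pos hg, if_pos hg, if_pos (show ¬ p ∣ orderOf g from hg)]
      · rw [if_neg hg, if_neg (show ¬¬ p ∣ orderOf g from hg), zero_mul]
    | zero => simp [form]
    | add a b _ _ ha hb =>
      simp only [form, Pi.add_apply, add_mul, Finset.sum_add_distrib] at ha hb ⊢
      rw [ha, hb, add_zero]
    | smul c a _ ha =>
      simp only [form, Pi.smul_apply, smul_eq_mul, mul_assoc, ← Finset.mul_sum] at ha ⊢
      rw [ha, mul_zero]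
  rw [Submodule.eq_bot_iff]
  rintro f ⟨hf, hf'⟩
  have h2 : ∀ f' ∈ regSpan p A', form f f' = 0 := by
    intro f' hf''
    induction hf'' using Submodule.span_induction with
    | mem f' hf' =>
      obtain ⟨ψ, hψ, rfl⟩ := hf'
      exact h1 f hf ψ hψ
    | zero => simp [form]
    | add a b _ _ ha hb =>
      simp only [form, Pi.add_apply, map_add, mul_add, Finset.sum_add_distrib] at ha hb ⊢
      rw [ha, hb, add_zero]
    | smul c a _ ha =>
      simp only [form, Pi.smul_apply, smul_eq_mul, map_mul, mul_left_comm _ (conj c),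
        ← Finset.mul_sum] at ha ⊢
      rw [ha, mul_zero]
  funext g
  have h3 := congrArg Complex.re (h2 f hf')
  simp only [form, Complex.re_sum, Complex.mul_conj, Complex.ofReal_re, Complex.zero_re] at h3
  exact Complex.normSq_eq_zero.1
    ((Finset.sum_eq_zero_iff_of_nonneg fun g _ => Complex.normSq_nonneg (f g)).1 h3 g (Finset.mem_univ g))

/-- The dimension of a union of blocks is the sum of the ranks. -/
theorem finrank_regSpan_sUnion (hM : IsPModular p M) (S : Finset (Set (IrrCharacter G)))
    (hS : ∀ b ∈ S, IsPBlock M b) :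
    Module.finrank ℂ (regSpan p (⋃ b ∈ S, b)) = ∑ b ∈ S, blockRank p b := by
  classical
  induction S using Finset.induction_on with
  | empty =>
    rw [show (⋃ b ∈ (∅ : Finset (Set (IrrCharacter G))), b) = (∅ : Set (IrrCharacter G)) by simp,
      Finset.sum_empty, regSpan, Set.image_empty, Submodule.span_empty, finrank_bot]
  | insert a s ha ih =>
    have hs : ∀ b ∈ s, IsPBlock M b := fun b hb => hS b (Finset.mem_insert_of_mem hb)
    rw [Finset.sum_insert ha, Finset.set_biUnion_insert, ← ih hs, blockRank_eq]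
    have hsup : regSpan p (a ∪ ⋃ b ∈ s, b) = regSpan p a ⊔ regSpan p (⋃ b ∈ s, b) := by
      rw [regSpan, Set.image_union, Submodule.span_union]
      rfl
    have hinf : regSpan p a ⊓ regSpan p (⋃ b ∈ s, b) = ⊥ := by
      refine regSpan_disjoint hM fun χ hχ ψ hψ hsame => ha ?_
      obtain ⟨b, hb, hψb⟩ := Set.mem_iUnion₂.1 hψ
      have h1 := (IsPBlock.mem_iff hM (hS a (Finset.mem_insert_self _ _)) hχ ψ).2 hsame
      rw [IsPBlock.eq_blockOf hM (hS a (Finset.mem_insert_self _ _)) h1,
        ← IsPBlock.eq_blockOf hM (hs b hb) hψb]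
      exact hb
    have h2 := Submodule.finrank_sup_add_finrank_inf_eq (regSpan p a) (regSpan p (⋃ b ∈ s, b))
    rw [hinf, finrank_bot, add_zero, ← hsup] at h2
    exact h2

/-- The characters of the centralizer lying in blocks inducing `B`. -/
def inducing (M : Ideal AlgInt) (x : G) (B : Set (IrrCharacter G)) :
    Set (IrrCharacter ↥(Subgroup.centralizer ({x} : Set G))) :=
  {ξ | IsInducedBlock M (Subgroup.centralizer ({x} : Set G))
    (blockOf M (ξ : Subgroup.centralizer ({x} : Set G) → ℂ)) B}

variable [Fact p.Prime]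

theorem inducing_closed (hM : IsPModular p M) (x : G) (B : Set (IrrCharacter G))
    {ξ η : IrrCharacter ↥(Subgroup.centralizer ({x} : Set G))} (hξ : ξ ∈ inducing M x B)
    (h : SameBlock M (ξ : Subgroup.centralizer ({x} : Set G) → ℂ)
      (η : Subgroup.centralizer ({x} : Set G) → ℂ)) : η ∈ inducing M x B := by
  have h1 := blockOf_eq_of_sameBlock hM h
  show IsInducedBlock M _ (blockOf M _) B
  rw [← h1]
  exact hξ

theorem inducing_not_sameBlock (hM : IsPModular p M) (x : G) (B : Set (IrrCharacter G)) :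
    ∀ ξ ∈ inducing M x B, ∀ η ∈ (inducing M x B)ᶜ,
      ¬ SameBlock M (ξ : Subgroup.centralizer ({x} : Set G) → ℂ)
        (η : Subgroup.centralizer ({x} : Set G) → ℂ) :=
  fun _ hξ _ hη h => hη (inducing_closed hM x B hξ h)

open scoped Classical in
theorem regSpan_inducing (hM : IsPModular p M) (x : G) (B : Set (IrrCharacter G)) :
    Module.finrank ℂ (regSpan p (inducing M x B)) =
      ∑ᶠ b ∈ {b : Set (IrrCharacter ↥(Subgroup.centralizer ({x} : Set G))) |
        IsInducedBlock M (Subgroup.centralizer ({x} : Set G)) b B}, blockRank p b := by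
  have : Fintype ↥(Subgroup.centralizer ({x} : Set G)) := Fintype.ofFinite _
  set S := {b : Set (IrrCharacter ↥(Subgroup.centralizer ({x} : Set G))) |
    IsInducedBlock M (Subgroup.centralizer ({x} : Set G)) b B}
  have hfin : S.Finite := S.toFinite
  rw [finsum_mem_eq_finite_toFinset_sum _ hfin,
    ← finrank_regSpan_sUnion hM _ fun b hb => ((Set.Finite.mem_toFinset hfin).1 hb).1]
  have : inducing M x B = ⋃ b ∈ hfin.toFinset, b := by
    ext ξ
    simp only [Set.mem_iUnion₂, Set.Finite.mem_toFinset, exists_prop]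
    constructor
    · exact fun h => ⟨_, h, mem_blockOf_self hM ξ⟩
    · rintro ⟨b, hb, hξ⟩
      show IsInducedBlock M _ (blockOf M _) B
      rwa [← IsPBlock.eq_blockOf hM hb.1 hξ]
  rw [this]

/-- Second main theorem: which blocks of the centralizer see a character. -/
theorem section_mem (hM : IsPModular p M) {x : G} (hx : ∃ k : ℕ, orderOf x = p ^ k)
    {B : Set (IrrCharacter G)} (hB : IsPBlock M B) (χ : IrrCharacter G) :
    (χ ∈ B → regPart p (sectionFun x (χ : G → ℂ)) ∈ regSpan p (inducing M x B)) ∧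
      (χ ∉ B → regPart p (sectionFun x (χ : G → ℂ)) ∈ regSpan p (inducing M x B)ᶜ) := by
  classical
  have : Fintype ↥(Subgroup.centralizer ({x} : Set G)) := Fintype.ofFinite _
  set C := Subgroup.centralizer ({x} : Set G)
  set s := sectionFun x (χ : G → ℂ) with hs
  have key : ∀ A : Set (IrrCharacter C),
      (∀ ξ η : IrrCharacter C, ξ ∈ A → SameBlock M (ξ : C → ℂ) (η : C → ℂ) → η ∈ A) →
      (∀ ξ ∈ A, ¬ IsInducedBlock M C (blockOf M (ξ : C → ℂ)) (blockOf M (χ : G → ℂ))) →
      regPart p s ∈ regSpan p Aᶜ := by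
    intro A hA hnot
    have hz : ∀ y : C, ¬ p ∣ orderOf y → blockPart A s y = 0 := fun y hy =>
      blockPart_union_eq_zero hM hA fun ξ hξ =>
        blockPart_sectionFun_eq_zero hM hx (isPBlock_blockOf ξ) (hnot ξ hξ) hy
    have heq : regPart p s = ∑ ξ ∈ Finset.univ.filter (fun ξ => ξ ∈ Aᶜ),
        classInner s (ξ : C → ℂ) • regPart p (ξ : C → ℂ) := by
      funext y
      by_cases hy : p ∣ orderOf y
      · have h0 : ∀ f : C → ℂ, regPart p f y = 0 := fun f => by
          show pRegularPart p f y = 0
          rw [pRegularPart_apply, if_neg (fun h => h hy)]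
        simp [Finset.sum_apply, h0]
      · have h1 := hz y hy
        rw [blockPart_eq_sum] at h1
        simp only [Finset.sum_apply, Pi.smul_apply, regPart_apply_of_regular hy, smul_eq_mul,
          Set.mem_compl_iff]
        conv_lhs => rw [hs, classFunction_eq_sum (isClassFunction_sectionFun (x := x) (irr_isClassFunction χ))]
        simp only [Finset.sum_apply, Pi.smul_apply, smul_eq_mul]
        rw [← Finset.sum_filter_add_sum_filter_not _ (fun ξ : IrrCharacter C => ξ ∈ A), ← hs, h1,
          zero_add]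
    rw [heq]
    exact Submodule.sum_mem _ fun ξ hξ =>
      Submodule.smul_mem _ _ (Submodule.subset_span ⟨ξ, (Finset.mem_filter.1 hξ).2, rfl⟩)
  refine ⟨fun hχ => ?_, fun hχ => key (inducing M x B) (fun ξ η h h' => inducing_closed hM x B h h')
    fun ξ hξ h => hχ ?_⟩
  · have h := key (inducing M x B)ᶜ (fun ξ η h h' hη => h (inducing_closed hM x B hη (SameBlock.symm hM h')))
      fun ξ hξ h => hξ (show IsInducedBlock M _ _ B from IsPBlock.eq_blockOf hM hB hχ ▸ h)
    rwa [compl_compl] at h
  · rw [IsInducedBlock.unique hM hξ h]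
    exact mem_blockOf_self hM χ

/-- Brauer's count of the characters of a block by subsections. -/
theorem card_block_eq (hM : IsPModular p M) {B : Set (IrrCharacter G)} (hB : IsPBlock M B)
    (X : Finset G) (hX : ∀ x ∈ X, ∃ k : ℕ, orderOf x = p ^ k)
    (hXrep : ∀ g : G, (∃ k : ℕ, orderOf g = p ^ k) → ∃! x, x ∈ X ∧ IsConj g x) :
    Nat.card B = ∑ x ∈ X, Module.finrank ℂ (regSpan p (inducing M x B)) := by
  classical
  -- coordinates of an element: its section and its image in the centralizer
  have hco : ∀ g : G, ∃ (x : ↥X) (c : ↥(Subgroup.centralizer ({(x : G)} : Set G))),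
      ¬ p ∣ orderOf c ∧ IsConj g ((x : G) * c) := by
    intro g
    obtain ⟨u, hu⟩ := exists_isPPart hM.1 g
    have hu0 := hu
    obtain ⟨w, hw, hc, hord, hwp⟩ := hu0
    obtain ⟨x, ⟨hxX, hux⟩, -⟩ := hXrep u hord
    obtain ⟨a, ha⟩ := isConj_iff.1 hux
    have hcw : a * w * a⁻¹ ∈ Subgroup.centralizer ({x} : Set G) := by
      rw [Subgroup.mem_centralizer_singleton_iff, ← ha]
      exact (hc.map (MulAut.conj a).toMonoidHom).symm
    refine ⟨⟨x, hxX⟩, ⟨_, hcw⟩, ?_, ?_⟩
    · rw [← Subgroup.orderOf_coe]
      show ¬ p ∣ orderOf (MulAut.conj a w)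
      rwa [MulEquiv.orderOf_eq]
    · refine isConj_iff.2 ⟨a, ?_⟩
      show a * g * a⁻¹ = x * (a * w * a⁻¹)
      rw [← ha, ← hw]
      group
  choose xg cg hcg using hco
  -- the coordinates of `x * c` are conjugate to `c`
  have hwd : ∀ (x : ↥X) (c : ↥(Subgroup.centralizer ({(x : G)} : Set G))), ¬ p ∣ orderOf c →
      ∀ (g : G), IsConj g ((x : G) * c) → ∀ f : (y : ↥X) → ↥(Subgroup.centralizer ({(y : G)} : Set G)) → ℂ,
      (∀ y, IsClassFunction _ (f y)) → f (xg g) (cg g) = f x c := by
    intro x c hc g hg f hf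
    have hcomm : ∀ (y : ↥X) (d : ↥(Subgroup.centralizer ({(y : G)} : Set G))), Commute (y : G) (d : G) :=
      fun y d => commute_centralizer d
    have h1 : IsConj ((xg g : G) * cg g) ((x : G) * c) := (hcg g).2.symm.trans hg
    obtain ⟨a, ha⟩ := isConj_iff.1 h1
    have hp1 : IsPPart p ((xg g : G) * cg g) (xg g : G) :=
      isPPart_mul (hcomm _ _) (hX _ (xg g).2) (by rw [Subgroup.orderOf_coe]; exact (hcg g).1)
    have hp2 : IsPPart p ((x : G) * c) (x : G) :=
      isPPart_mul (hcomm _ _) (hX _ x.2) (by rw [Subgroup.orderOf_coe]; exact hc)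
    have hp3 := IsPPart.conj hp1 a
    rw [ha] at hp3
    have hax : a * (xg g : G) * a⁻¹ = x := IsPPart.unique hM.1 hp3 hp2
    have hxx : xg g = x := by
      obtain ⟨z, -, huniq⟩ := hXrep (x : G) (hX _ x.2)
      refine Subtype.ext ?_
      rw [huniq (xg g : G) ⟨(xg g).2, (isConj_iff.2 ⟨a, hax⟩).symm⟩,
        huniq (x : G) ⟨x.2, IsConj.refl _⟩]
    revert ha hax
    obtain ⟨c', hc'⟩ : ∃ c', c' = cg g := ⟨_, rfl⟩
    rw [← hc']
    clear hp1 hp3 h1 hc'
    revert c'
    rw [hxx]
    intro c' ha hax
    have haC : a ∈ Subgroup.centralizer ({(x : G)} : Set G) := by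
      rw [Subgroup.mem_centralizer_singleton_iff]
      nth_rewrite 2 [← hax]
      group
    have hcc : (⟨a, haC⟩ : ↥(Subgroup.centralizer ({(x : G)} : Set G))) * c' * ⟨a, haC⟩⁻¹ = c := by
      apply Subtype.ext
      refine mul_left_cancel (a := (x : G)) ?_
      rw [← ha]
      nth_rewrite 1 [← hax]
      simp only [Subgroup.coe_mul, InvMemClass.coe_inv]
      group
    rw [← hcc, hf x c' ⟨a, haC⟩]
  have hval : ∀ (χ : IrrCharacter G) (g : G),
      (χ : G → ℂ) g = regPart p (sectionFun (xg g : G) (χ : G → ℂ)) (cg g) := fun χ g => by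
    rw [regPart_apply_of_regular (hcg g).1]
    exact classFunction_eq_of_isConj (irr_isClassFunction χ) (hcg g).2
  let W : (x : ↥X) → Submodule ℂ (↥(Subgroup.centralizer ({(x : G)} : Set G)) → ℂ) :=
    fun x => regSpan p (inducing M (x : G) B)
  let Ψ : ((x : ↥X) → W x) →ₗ[ℂ] (G → ℂ) :=
    { toFun := fun t g => (t (xg g) : ↥(Subgroup.centralizer ({(xg g : G)} : Set G)) → ℂ) (cg g)
      map_add' := fun t t' => by funext g; rfl
      map_smul' := fun r t => by funext g; rfl }
  have hΨat : ∀ (t : (x : ↥X) → W x) (x : ↥X) (c : ↥(Subgroup.centralizer ({(x : G)} : Set G))),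
      ¬ p ∣ orderOf c → Ψ t ((x : G) * c) = (t x : ↥(Subgroup.centralizer ({(x : G)} : Set G)) → ℂ) c :=
    fun t x c hc => hwd x c hc _ (IsConj.refl _) (fun y => (t y : _ → ℂ))
      (fun y => regSpan_classFunction (t y).2)
  have hinj : Function.Injective Ψ := by
    rw [injective_iff_map_eq_zero]
    intro t ht
    funext x
    refine Subtype.ext (funext fun c => ?_)
    by_cases hc : p ∣ orderOf c
    · exact regSpan_singular (t x).2 hc
    · rw [← hΨat t x c hc, ht]
      rfl
  let VB : Submodule ℂ (G → ℂ) := Submodule.span ℂ ((fun χ : IrrCharacter G => (χ : G → ℂ)) '' B)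
  have hrange : LinearMap.range Ψ = VB := by
    apply le_antisymm
    · rintro _ ⟨t, rfl⟩
      have hcf : IsClassFunction G (Ψ t) := by
        intro g h
        exact hwd (xg g) (cg g) (hcg g).1 _ ((isConj_iff.2 ⟨h, rfl⟩).symm.trans (hcg g).2)
          (fun y => (t y : _ → ℂ)) (fun y => regSpan_classFunction (t y).2)
      set φ1 : G → ℂ := ∑ χ ∈ Finset.univ.filter (· ∈ B), classInner (Ψ t) (χ : G → ℂ) • (χ : G → ℂ)
      set φ2 : G → ℂ := ∑ χ ∈ Finset.univ.filter (· ∉ B), classInner (Ψ t) (χ : G → ℂ) • (χ : G → ℂ)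
      have hsum : Ψ t = φ1 + φ2 := by
        conv_lhs => rw [classFunction_eq_sum hcf]
        exact (Finset.sum_filter_add_sum_filter_not _ _ _).symm
      have hsec : ∀ (x : ↥X) (s : Finset (IrrCharacter G)) (A : Set (IrrCharacter ↥(Subgroup.centralizer ({(x : G)} : Set G))))
          (w : IrrCharacter G → ℂ),
          (∀ χ ∈ s, regPart p (sectionFun (x : G) (χ : G → ℂ)) ∈ regSpan p A) →
          regPart p (sectionFun (x : G) (∑ χ ∈ s, w χ • (χ : G → ℂ))) ∈ regSpan p A := by
        intro x s A w hs
        have e : sectionFun (x : G) (∑ χ ∈ s, w χ • (χ : G → ℂ)) =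
            ∑ χ ∈ s, w χ • sectionFun (x : G) (χ : G → ℂ) := by
          funext c
          simp [sectionFun, Finset.sum_apply]
        rw [e, map_sum]
        exact Submodule.sum_mem _ fun χ hχ => by
          rw [map_smul]; exact Submodule.smul_mem _ _ (hs χ hχ)
      have hφ2 : φ2 = 0 := by
        funext g
        set x := xg g
        have hA : regPart p (sectionFun (x : G) φ2) ∈ regSpan p (inducing M (x : G) B)ᶜ :=
          hsec x _ _ _ fun χ hχ => (section_mem hM (hX _ x.2) hB χ).2 (Finset.mem_filter.1 hχ).2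
        have hA' : regPart p (sectionFun (x : G) φ1) ∈ regSpan p (inducing M (x : G) B) :=
          hsec x _ _ _ fun χ hχ => (section_mem hM (hX _ x.2) hB χ).1 (Finset.mem_filter.1 hχ).2
        have hd : regPart p (sectionFun (x : G) φ2) =
            (t x : ↥(Subgroup.centralizer ({(x : G)} : Set G)) → ℂ) - regPart p (sectionFun (x : G) φ1) := by
          funext c
          by_cases hc : p ∣ orderOf c
          · simp [regSpan_singular hA hc, regSpan_singular (t x).2 hc, regSpan_singular hA' hc]
          · simp only [Pi.sub_apply, regPart_apply_of_regular hc, sectionFun]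
            rw [← hΨat t x c hc, hsum, Pi.add_apply]
            ring
        have h0 : regPart p (sectionFun (x : G) φ2) = 0 := by
          rw [← Submodule.mem_bot ℂ, ← regSpan_disjoint hM (inducing_not_sameBlock hM (x : G) B)]
          exact ⟨hd ▸ Submodule.sub_mem _ (t x).2 hA', hA⟩
        have hcf2 : IsClassFunction G φ2 :=
          isClassFunction_sum _ fun χ _ => isClassFunction_smul (irr_isClassFunction χ) _
        have h1 := congrFun h0 (cg g)
        rw [regPart_apply_of_regular (hcg g).1] at h1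
        rw [classFunction_eq_of_isConj hcf2 (hcg g).2]
        exact h1
      rw [hsum, hφ2, add_zero]
      exact Submodule.sum_mem _ fun χ hχ =>
        Submodule.smul_mem _ _ (Submodule.subset_span ⟨χ, (Finset.mem_filter.1 hχ).2, rfl⟩)
    · refine Submodule.span_le.2 ?_
      rintro _ ⟨χ, hχ, rfl⟩
      refine ⟨fun x => ⟨_, (section_mem hM (hX _ x.2) hB χ).1 hχ⟩, ?_⟩
      funext g
      exact (hval χ g).symm
  have hli : LinearIndependent ℂ (fun χ : B => ((χ : IrrCharacter G) : G → ℂ)) :=
    (irr_linearIndependent (G := G)).comp _ Subtype.val_injective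
  have hcard : Module.finrank ℂ VB = Nat.card B := by
    have : Fintype B := Fintype.ofFinite B
    show Module.finrank ℂ ↥(Submodule.span ℂ _) = _
    rw [Set.image_eq_range, finrank_span_eq_card hli, Nat.card_eq_fintype_card]
  rw [← hcard, ← hrange, LinearMap.finrank_range_of_inj hinj, Module.finrank_pi_fintype]
  exact Finset.sum_coe_sort X fun x => Module.finrank ℂ (regSpan p (inducing M x B))

end CfsgLib.Blk7
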