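import Cfsg.Agent.Lib.Blocks.WeakOrth
import Cfsg.Agent.Lib.Characters.Decomp
import Cfsg.Prelude.Def_BlockRank
import Mathlib.LinearAlgebra.Trace

/-!
# The rank of a block as the trace of its projection onto the `p`-regular part
-/

set_option autoImplicit false
set_option linter.style.haveILetI false
set_option linter.unusedSectionVars false

namespace CfsgLib.Blk7

open Cfsg CfsgLib.Characters
open scoped ComplexConjugate

variable {G : Type*} [Group G] [Fintype G] {p : ℕ} {M : Ideal AlgInt}

open scoped Classical in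
/-- `|G| l(B)` is the sum over `x` of `χ°(x) χ(x⁻¹)`. -/
theorem card_mul_blockRank [Fact p.Prime] (hM : IsPModular p M) {B : Set (IrrCharacter G)}
    (hB : IsPBlock M B) :
    (Nat.card G : ℂ) * (blockRank p B : ℂ) =
      ∑ x : G, ∑ χ ∈ Finset.univ.filter (fun χ => χ ∈ B),
        pRegularPart p (χ : G → ℂ) x * conj ((χ : G → ℂ) x) := by
  classical
  have hpR : ∀ (f : G → ℂ) (g : G), pRegularPart p f g = if p ∣ orderOf g then 0 else f g := by
    intro f g
    by_cases h : p ∣ orderOf g <;> simp [pRegularPart, IsPRegular, h]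
  set s := Finset.univ.filter (fun χ : IrrCharacter G => χ ∈ B) with hs
  let K : Matrix G G ℂ := fun x y =>
    (Nat.card G : ℂ)⁻¹ * ∑ χ ∈ s, pRegularPart p (χ : G → ℂ) x * conj ((χ : G → ℂ) y)
  let f : (G → ℂ) →ₗ[ℂ] (G → ℂ) := Matrix.toLin' K
  set V := Submodule.span ℂ ((fun χ : IrrCharacter G => pRegularPart p (χ : G → ℂ)) '' B) with hV
  -- the regular part of a member is spanned by the members
  have hfix : ∀ ψ ∈ B, f (pRegularPart p (ψ : G → ℂ)) = pRegularPart p (ψ : G → ℂ) := by
    intro ψ hψ
    have hcl : IsClassFunction G (pRegularPart p (ψ : G → ℂ)) := fun a c => by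
      rw [hpR, hpR, show orderOf (c * a * c⁻¹) = orderOf a from (MulAut.conj c).orderOf_eq a,
        irr_isClassFunction ψ a c]
    have h0 : ∀ χ : IrrCharacter G, χ ∉ B →
        classInner (pRegularPart p (ψ : G → ℂ)) (χ : G → ℂ) = 0 := by
      intro χ hχ
      have h := Blocks.sum_regular_eq_zero_of_not_sameBlock hM (χ := ψ) (ψ := χ) fun hs' =>
        hχ ((Blocks.IsPBlock.mem_iff hM hB hψ χ).2 hs')
      rw [Finset.sum_filter] at h
      rw [classInner]
      simp only [hpR, ite_mul, zero_mul]
      rw [show ∑ x : G, (if p ∣ orderOf x then 0 else (ψ : G → ℂ) x * conj ((χ : G → ℂ) x)) = 0 by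
        refine Eq.trans (Finset.sum_congr rfl fun x _ => ?_) h
        by_cases hx : p ∣ orderOf x <;> simp [hx], mul_zero]
    have hexp : pRegularPart p (ψ : G → ℂ) =
        ∑ χ ∈ s, classInner (pRegularPart p (ψ : G → ℂ)) (χ : G → ℂ) • (χ : G → ℂ) := by
      conv_lhs => rw [classFunction_eq_sum hcl]
      exact (Finset.sum_subset (Finset.subset_univ s) fun χ _ hχ => by
        rw [h0 χ (by simpa [hs] using hχ), zero_smul]).symm
    funext x
    have h1 : f (pRegularPart p (ψ : G → ℂ)) x =
        ∑ χ ∈ s, classInner (pRegularPart p (ψ : G → ℂ)) (χ : G → ℂ) * pRegularPart p (χ : G → ℂ) x := by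
      show Matrix.toLin' K _ x = _
      rw [Matrix.toLin'_apply, Matrix.mulVec, dotProduct]
      simp only [K, classInner, Finset.mul_sum, Finset.sum_mul]
      rw [Finset.sum_comm]
      refine Finset.sum_congr rfl fun χ _ => Finset.sum_congr rfl fun y _ => ?_
      ring
    rw [h1]
    by_cases hx : p ∣ orderOf x
    · simp only [hpR, if_pos hx, mul_zero, Finset.sum_const_zero]
    · conv_rhs => rw [hexp]
      simp only [Finset.sum_apply, Pi.smul_apply, smul_eq_mul]
      exact Finset.sum_congr rfl fun χ _ => by rw [hpR (χ : G → ℂ) x, if_neg hx]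
  have hproj : LinearMap.IsProj V f := by
    refine ⟨fun v => ?_, fun v hv => ?_⟩
    · have h1 : f v = ∑ χ ∈ s, ((Nat.card G : ℂ)⁻¹ * ∑ y : G, conj ((χ : G → ℂ) y) * v y) •
          pRegularPart p (χ : G → ℂ) := by
        funext x
        show Matrix.toLin' K v x = _
        rw [Matrix.toLin'_apply, Matrix.mulVec, dotProduct]
        simp only [K, Finset.sum_apply, Pi.smul_apply, smul_eq_mul, Finset.mul_sum, Finset.sum_mul]
        rw [Finset.sum_comm]
        refine Finset.sum_congr rfl fun χ _ => Finset.sum_congr rfl fun y _ => ?_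
        ring
      rw [h1]
      exact Submodule.sum_mem _ fun χ hχ => Submodule.smul_mem _ _
        (Submodule.subset_span ⟨χ, (Finset.mem_filter.1 hχ).2, rfl⟩)
    · refine Submodule.span_induction (p := fun v _ => f v = v) ?_ (map_zero f)
        (fun a b _ _ ha hb => by rw [map_add, ha, hb]) (fun a v _ hv => by rw [map_smul, hv]) hv
      rintro _ ⟨ψ, hψ, rfl⟩
      exact hfix ψ hψ
  have htr : LinearMap.trace ℂ (G → ℂ) f = (blockRank p B : ℂ) := hproj.trace
  rw [← htr, Matrix.trace_toLin'_eq, Matrix.trace, Finset.mul_sum]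
  refine Finset.sum_congr rfl fun x _ => ?_
  simp only [Matrix.diag, K]
  rw [← mul_assoc, mul_inv_cancel₀ (Nat.cast_ne_zero.2 Nat.card_pos.ne'), one_mul]

end CfsgLib.Blk7
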