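import Cfsg.Agent.Lib.Blk7.SubsectionTrace
import Cfsg.Agent.Lib.Blocks12.PositiveHeight

/-!
# The number of characters in a block is bounded by a power of the defect group's order
-/

set_option autoImplicit false
set_option linter.unusedSectionVars false

namespace CfsgLib.CardPowDefect

open Cfsg MonoidAlgebra CfsgLib.Characters CfsgLib.Blocks CfsgLib.Contribution CfsgLib.BrauerPairs
open scoped Classical

universe u

variable {p : ℕ} [hp : Fact p.Prime] {M : Ideal AlgInt}

/-- A central element of order `p` of a defect group carries a major subsection. -/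
theorem exists_major (hM : IsPModular p M) {G : Type u} [Group G] [Fintype G]
    {B : Set (IrrCharacter G)} (hB : IsPBlock M B) (hd : 1 ≤ blockDefect p B) :
    ∃ (y : G) (C : Subgroup G) (b : Set (IrrCharacter C)),
      C = Subgroup.centralizer ({y} : Set G) ∧ orderOf y = p ∧ IsInducedBlock M C b B ∧
      blockDefect p b = blockDefect p B := by
  have := hM.2.1
  have := charP_res hM
  obtain ⟨D, hD⟩ := Blocks.exists_isDefectGroup hM hB
  have hDc := BlockCover.natCard_defect hM hB hD
  have hDd := (isDefectGroup_iff hM hB D).1 hD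
  have hfix : eG hM B ∈ fixAlg (ResK M) D := fixAlg_anti le_top (isBlockIdem_eG hM hB).fixed
  obtain ⟨e, he, hcov⟩ := exists_block_le (hasBlocks hM) (brMap_mem_suppAlg D (eG hM B))
    (brMap_mem_fixAlg (cz_le_normalizer D)
      (fixAlg_anti le_top (isBlockIdem_eG hM hB).fixed))
    (by rw [← brMap_mul hDd.pgroup hfix hfix, (isBlockIdem_eG hM hB).idem]) hDd.br_ne
  -- a central element of order `p`
  haveI : Nontrivial D := Finite.one_lt_card_iff_nontrivial.1 (by
    rw [hDc]; exact Nat.one_lt_pow (by omega) hp.out.one_lt)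
  haveI := hDd.pgroup.center_nontrivial
  have hZp : IsPGroup p (Subgroup.center D) := hDd.pgroup.to_subgroup _
  obtain ⟨z, hz⟩ : ∃ z : Subgroup.center D, orderOf z = p := by
    refine exists_prime_orderOf_dvd_card' p ?_
    obtain ⟨n, hn, hn0⟩ := hZp.nontrivial_iff_card.1 inferInstance
    exact hn0 ▸ dvd_pow_self p hn.ne'
  set y : G := ((z : D) : G) with hy
  have hyo : orderOf y = p := by rw [hy, Subgroup.orderOf_coe, Subgroup.orderOf_coe, hz]
  set Q := Subgroup.zpowers y
  set K := Subgroup.centralizer ({y} : Set G)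
  have hQD : Q ≤ D := Subgroup.zpowers_le.2 (z : D).2
  have hK : K = cz Q := CyclicDefectBound.centralizer_singleton_eq y
  have hPH : D ≤ cz Q := hK ▸ fun w hw => Subgroup.mem_centralizer_singleton_iff.2
    (congrArg Subtype.val (Subgroup.mem_center_iff.1 z.2 ⟨w, hw⟩))
  have hQp : IsPGroup p Q := hDd.pgroup.to_le hQD
  have hQc : Q ≤ cz Q := hQD.trans hPH
  obtain ⟨a, ha, hale⟩ := exists_pairLE (p := p) (hasBlocks hM) hQD hDd.pgroup he
  rw [← hK] at ha
  obtain ⟨f, hf, rfl⟩ := exists_eA_eq hM ha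
  have hQB : brMap (ResK M) Q (eG hM B) * eA hM K f = eA hM K f :=
    (brMap_cover_iff hale (isBlockIdem_eG hM hB).fixed (isBlockIdem_eG hM hB).idem).2 hcov
  have hS : BrSetup p Q (eA hM K f) K :=
    ⟨hQp, hK ▸ isBlockIdem_eA hM hf, hK ▸ cz_le_normalizer Q, hK.ge, hK ▸ hQc,
      (isBlockIdem_eA hM hf).fixed⟩
  have hstep : brMap (ResK M) D (eA hM K f) * e = e := by
    obtain ⟨g, hg⟩ := exists_normalSub (p := p) (hasBlocks hM) hQD
      (hPH.trans (cz_le_normalizer Q)) hDd.pgroup he
    have : g = eA hM K f := pairLE_unique (hasBlocks hM) (b := (D, e)) he hDd.pgroup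
      (Relation.ReflTransGen.single hg) hale
    exact this ▸ hg.cover
  have hO : OverPair p Q (eA hM K f) K D e := ⟨hDd.pgroup, hQD, hK ▸ hPH, he, hstep⟩
  have hDQ : IsDefect p Q (eA hM K f) K D :=
    isDefect_local hM hB hS hQB hDd (hK ▸ hPH) (hS.brMap_ne_zero hO)
  refine ⟨y, K, f, rfl, hyo, CyclicDefectBound.induced_of_cover hM hQp hQc hK hB hf hQB, ?_⟩
  have hg : IsDefectGroup p M f (D.subgroupOf K) := by
    rw [isDefectGroup_stabilizer_iff hM hS hf rfl,
      Subgroup.map_subgroupOf_eq_of_le (hK ▸ hPH)]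
    exact hDQ
  refine Nat.pow_right_injective hp.out.two_le ?_
  show p ^ blockDefect p f = p ^ blockDefect p B
  rw [← BlockCover.natCard_defect hM hf hg, ← hDc]
  exact Nat.card_congr (Subgroup.subgroupOfEquivOfLe (hK ▸ hPH)).toEquiv

theorem card_le_aux (hM : IsPModular p M) : ∀ (d : ℕ) (G : Type u) [Group G] [Finite G]
    (B : Set (IrrCharacter G)), IsPBlock M B → blockDefect p B = d →
      (d ≤ 2 → Nat.card B ≤ p ^ d) ∧ (3 ≤ d → Nat.card B ≤ p ^ (2 * d - 2)) := by
  intro d
  induction d using Nat.strong_induction_on with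
  | _ d ih =>
  intro G _ _ B hB hd
  letI : Fintype G := Fintype.ofFinite G
  letI : Fintype (ConjClasses G) := Fintype.ofFinite _
  rcases Nat.eq_zero_or_pos d with rfl | hd0
  · have h := card_bound hM hB
    rw [hd] at h
    exact ⟨fun _ => by rw [pow_zero] at *; omega, fun h3 => absurd h3 (by omega)⟩
  by_cases hpos : ∃ χ ∈ B, p ∣ red p B χ
  · obtain ⟨χ, hχ, hdvd⟩ := hpos
    have h := height_bound hM hB hχ 1 one_pos (by rwa [pow_one])
    have h2 := two_mul_card_le hM hB hχ hdvd
    rw [hd] at h h2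
    exact ⟨fun h' => by omega, fun _ => by omega⟩
  push Not at hpos
  obtain ⟨y, C, b, hC, hy, hind, hdb⟩ := exists_major hM hB (hd ▸ hd0)
  letI : Fintype C := Fintype.ofFinite _
  letI : Fintype (ConjClasses C) := Fintype.ofFinite _
  have hb := hind.1
  have hyC : y ∈ C := hC ▸ Subgroup.mem_centralizer_singleton_iff.2 rfl
  set N := Subgroup.zpowers (⟨y, hyC⟩ : C) with hN
  have hNc : N ≤ Subgroup.center C := Subgroup.zpowers_le.2 (Subgroup.mem_center_iff.2 fun c =>
    Subtype.ext (Subgroup.mem_centralizer_singleton_iff.1 (hC ▸ c.2 : (c : G) ∈ _)))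
  haveI : N.Normal := ⟨fun a ha g => by
    rwa [Subgroup.mem_center_iff.1 (hNc ha) g, mul_inv_cancel_right]⟩
  have hNcard : Nat.card N = p := by rw [hN, Nat.card_zpowers, Subgroup.orderOf_mk, hy]
  have hNp : IsPGroup p N := IsPGroup.of_card (n := 1) (by rw [hNcard, pow_one])
  have hβ := CentralQuot.isPBlock_quotBlock N hNp hNc hM hb
  have hdβ := CentralQuot.blockDefect_quotBlock_add_le N hNp hNc hM hb
  rw [hNcard, hp.out.factorization_self, hdb, hd] at hdβ
  have hkβ := ih _ (by omega) (C ⧸ N) (CentralQuot.quotBlock N b) hβ rfl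
  have hlb : blockRank p b ≤ Nat.card (CentralQuot.quotBlock N b) := by
    letI : Fintype (C ⧸ N) := Fintype.ofFinite _
    exact (CentralQuot.blockRank_le_quot N hNp hNc hM hb).trans (RankOrth.blockRank_le _)
  have hh : ∀ χ ∈ B, blockHeight p B (χ : G → ℂ) = 0 := fun χ hχ => by
    by_contra h0
    change ¬ (charDegree (χ : G → ℂ)).factorization p - minExp p B = 0 at h0
    exact hpos χ hχ (by simpa only [pow_one] using (pow_dvd_red hM.1 hχ (k := 1)).2 (by omega))
  have hsq := SubsectionSq.card_sq_le hM hh ⟨1, by rw [hy, pow_one]⟩ hC hind hdb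
  rw [hdb, hd] at hsq
  have hp1 : 0 < p := hp.out.pos
  refine ⟨fun hd2 => ?_, fun hd3 => ?_⟩
  · rcases (show d = 1 ∨ d = 2 by omega) with rfl | rfl
    · have h1 := hkβ.1 (by omega)
      rw [show blockDefect p (CentralQuot.quotBlock N b) = 0 by omega, pow_zero] at h1
      have h2 : Nat.card B ^ 2 ≤ (p ^ 1) ^ 2 := by
        calc Nat.card B ^ 2 ≤ _ := hsq
          _ ≤ p ^ (2 * 1) * 1 := Nat.mul_le_mul_left _ (hlb.trans h1)
          _ = (p ^ 1) ^ 2 := by rw [mul_one, ← pow_mul]
      exact Nat.pow_le_pow_iff_left two_ne_zero |>.1 h2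
    · exact SubsectionTrace.card_le_sq hM hpos hy hC hind hd (hdb.trans hd)
  · set d' := blockDefect p (CentralQuot.quotBlock N b)
    have h1 : Nat.card (CentralQuot.quotBlock N b) ≤ p ^ (2 * d - 4) := by
      rcases le_or_gt d' 2 with h | h
      · exact (hkβ.1 h).trans (Nat.pow_le_pow_right hp1 (by omega))
      · exact (hkβ.2 h).trans (Nat.pow_le_pow_right hp1 (by omega))
    have h2 : Nat.card B ^ 2 ≤ (p ^ (2 * d - 2)) ^ 2 := by
      calc Nat.card B ^ 2 ≤ _ := hsq
        _ ≤ p ^ (2 * d) * p ^ (2 * d - 4) := Nat.mul_le_mul_left _ (hlb.trans h1)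
        _ = (p ^ (2 * d - 2)) ^ 2 := by rw [← pow_mul, ← pow_add]; congr 1; omega
    exact Nat.pow_le_pow_iff_left two_ne_zero |>.1 h2

end CfsgLib.CardPowDefect
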