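import Cfsg.Agent.Lib.Blk7.MajorNonvanish
import Cfsg.Agent.Lib.Blk7.CardPowDefect
import Cfsg.Agent.Lib.BlockCover.Quotient
import Cfsg.Agent.Lib.CyclicBlock.Gram
import Mathlib.GroupTheory.SpecificGroups.Cyclic

/-!
# Blocks with abelian defect groups on few generators

With two generators `k(B) ≤ p ^ d`; with three `k(B) ^ 3 ≤ p ^ (5 d)`.
-/

set_option autoImplicit false
set_option linter.unusedSectionVars false
set_option linter.style.haveILetI false
set_option maxHeartbeats 1000000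

namespace CfsgLib.AbelianFewGen

open Cfsg MonoidAlgebra CfsgLib.Characters CfsgLib.Blocks CfsgLib.Contribution CfsgLib.BrauerPairs
open CfsgLib.SubsectionSq (subContrib)
open scoped ComplexConjugate Classical

universe u

/-- Two elements of `H` generate it. -/
def TwoGen {G : Type u} [Group G] (H : Subgroup G) : Prop :=
  ∃ a ∈ H, ∃ b ∈ H, H ≤ Subgroup.closure {a, b}

/-- A subgroup of a commutative group on two generators has two generators. -/
theorem twoGen_of_comm {A : Type u} [CommGroup A] {a b : A}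
    (hA : Subgroup.closure ({a, b} : Set A) = ⊤) (H : Subgroup A) : TwoGen H := by
  set Z := Subgroup.zpowers a
  have hcyc : IsCyclic (A ⧸ Z) := isCyclic_iff_exists_zpowers_eq_top.2 ⟨(b : A ⧸ Z), by
    rw [← top_le_iff, ← Subgroup.map_top_of_surjective (QuotientGroup.mk' Z)
      (QuotientGroup.mk'_surjective Z), ← hA, MonoidHom.map_closure, Subgroup.closure_le]
    rintro _ ⟨x, rfl | rfl, rfl⟩
    · rw [QuotientGroup.mk'_apply, (QuotientGroup.eq_one_iff _).2 (Subgroup.mem_zpowers _)]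
      exact Subgroup.one_mem _
    · exact Subgroup.mem_zpowers _⟩
  have hcZ : IsCyclic Z := inferInstance
  haveI : IsCyclic (H.map (QuotientGroup.mk' Z)) := inferInstance
  haveI : IsCyclic (H.subgroupOf Z) := inferInstance
  obtain ⟨⟨_, w, hw, rfl⟩, hwg⟩ := IsCyclic.exists_generator (α := H.map (QuotientGroup.mk' Z))
  obtain ⟨⟨⟨u, huZ⟩, hu⟩, hug⟩ := IsCyclic.exists_generator (α := H.subgroupOf Z)
  refine ⟨u, hu, w, hw, fun h hh => ?_⟩
  obtain ⟨i, hi⟩ := Subgroup.mem_zpowers_iff.1 (hwg ⟨_, h, hh, rfl⟩)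
  have hi' : ((w ^ i : A) : A ⧸ Z) = (h : A ⧸ Z) := by
    simpa [Subtype.ext_iff] using hi
  have hmem : h * (w ^ i)⁻¹ ∈ Z := by
    rw [← QuotientGroup.eq_one_iff, QuotientGroup.mk_mul, QuotientGroup.mk_inv, hi', mul_inv_cancel]
  obtain ⟨j, hj⟩ := Subgroup.mem_zpowers_iff.1
    (hug ⟨⟨_, hmem⟩, Subgroup.mul_mem H hh (Subgroup.inv_mem H (Subgroup.zpow_mem H hw i))⟩)
  have hj' : u ^ j = h * (w ^ i)⁻¹ := by simpa [Subtype.ext_iff] using hj
  rw [show h = u ^ j * w ^ i by rw [hj', inv_mul_cancel_right]]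
  exact Subgroup.mul_mem _ (Subgroup.zpow_mem _ (Subgroup.subset_closure (by simp)) j)
    (Subgroup.zpow_mem _ (Subgroup.subset_closure (by simp)) i)

variable {p : ℕ} [hp : Fact p.Prime] {M : Ideal AlgInt} {G : Type u} [Group G] [Fintype G]
  {B : Set (IrrCharacter G)} {D : Subgroup G}

theorem isPPow_orderOf (hM : IsPModular p M) (hB : IsPBlock M B) (hD : IsDefectGroup p M B D)
    {y : G} (hy : y ∈ D) : ∃ k : ℕ, orderOf y = p ^ k := by
  haveI := hM.2.1
  simpa using IsPGroup.iff_orderOf.1 ((isDefectGroup_iff hM hB D).1 hD).pgroup ⟨y, hy⟩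

/-- An element of an abelian defect group carries a major subsection with that defect group. -/
theorem exists_major_at (hM : IsPModular p M) (hB : IsPBlock M B) (hD : IsDefectGroup p M B D)
    (hab : IsMulCommutative D) {y : G} (hy : y ∈ D) :
    ∃ (C : Subgroup G) (b : Set (IrrCharacter C)),
      C = Subgroup.centralizer ({y} : Set G) ∧ D ≤ C ∧ IsInducedBlock M C b B ∧
      IsDefectGroup p M b (D.subgroupOf C) ∧ blockDefect p b = blockDefect p B := by
  have := hM.2.1
  have := charP_res hM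
  have hDc := BlockCover.natCard_defect hM hB hD
  have hDd := (isDefectGroup_iff hM hB D).1 hD
  have hfix : eG hM B ∈ fixAlg (ResK M) D := fixAlg_anti le_top (isBlockIdem_eG hM hB).fixed
  obtain ⟨e, he, hcov⟩ := exists_block_le (hasBlocks hM) (brMap_mem_suppAlg D (eG hM B))
    (brMap_mem_fixAlg (cz_le_normalizer D)
      (fixAlg_anti le_top (isBlockIdem_eG hM hB).fixed))
    (by rw [← brMap_mul hDd.pgroup hfix hfix, (isBlockIdem_eG hM hB).idem]) hDd.br_ne
  set Q := Subgroup.zpowers y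
  set K := Subgroup.centralizer ({y} : Set G)
  have hQD : Q ≤ D := Subgroup.zpowers_le.2 hy
  have hK : K = cz Q := CyclicDefectBound.centralizer_singleton_eq y
  have hPH : D ≤ cz Q := hK ▸ fun w hw => Subgroup.mem_centralizer_singleton_iff.2
    (congrArg Subtype.val (hab.is_comm.comm (⟨w, hw⟩ : D) ⟨y, hy⟩))
  have hQp : IsPGroup p Q := hDd.pgroup.to_le hQD
  have hQc : Q ≤ cz Q := hQD.trans hPH
  obtain ⟨a, ha, hale⟩ := exists_pairLE (p := p) (hasBlocks hM) hQD hDd.pgroup he
  rw [← hK] at ha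
  obtain ⟨f, hf, rfl⟩ := exists_eA_eq hM ha
  have hQB : brMap (ResK M) Q (eG hM B) * eA hM K f = eA hM K f :=
    (brMap_cover_iff hale (isBlockIdem_eG hM hB).fixed (isBlockIdem_eG hM hB).idem).2 hcov
  have hS : BrSetup p Q (eA hM K f) K :=
    ⟨hQp, hK ▸ isBlockIdem_eA hM hf, hK ▸ cz_le_normalizer Q, hK.ge, hK ▸ hQc,
      (isBlockIdem_eA hM hf).fixed⟩
  have hstep : brMap (ResK M) D (eA hM K f) * e = e := by
    obtain ⟨g, hg⟩ := exists_normalSub (p := p) (hasBlocks hM) hQD
      (hPH.trans (cz_le_normalizer Q)) hDd.pgroup he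
    have : g = eA hM K f := pairLE_unique (hasBlocks hM) (b := (D, e)) he hDd.pgroup
      (Relation.ReflTransGen.single hg) hale
    exact this ▸ hg.cover
  have hO : OverPair p Q (eA hM K f) K D e := ⟨hDd.pgroup, hQD, hK ▸ hPH, he, hstep⟩
  have hDQ : IsDefect p Q (eA hM K f) K D :=
    isDefect_local hM hB hS hQB hDd (hK ▸ hPH) (hS.brMap_ne_zero hO)
  have hg : IsDefectGroup p M f (D.subgroupOf K) := by
    rw [isDefectGroup_stabilizer_iff hM hS hf rfl,
      Subgroup.map_subgroupOf_eq_of_le (hK ▸ hPH)]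
    exact hDQ
  refine ⟨K, f, rfl, hK ▸ hPH, CyclicDefectBound.induced_of_cover hM hQp hQc hK hB hf hQB, hg, ?_⟩
  refine Nat.pow_right_injective hp.out.two_le ?_
  show p ^ blockDefect p f = p ^ blockDefect p B
  rw [← BlockCover.natCard_defect hM hf hg, ← hDc]
  exact Nat.card_congr (Subgroup.subgroupOfEquivOfLe (hK ▸ hPH)).toEquiv

section Quot

variable {C : Subgroup G} [Fintype C] (N : Subgroup C) [N.Normal]

/-- The defect groups of the block below are images of subgroups of `D`. -/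
theorem exists_hom (hM : IsPModular p M) (hDC : D ≤ C) {b : Set (IrrCharacter C)}
    (hb : IsPBlock M b) (hbD : IsDefectGroup p M b (D.subgroupOf C))
    {β : Set (IrrCharacter (C ⧸ N))} (hβ : IsPBlock M β) (hsub : ∀ η ∈ β, Chars17.infl N η ∈ b)
    {Dbar : Subgroup (C ⧸ N)} (hDbar : IsDefectGroup p M β Dbar) :
    ∃ φ : D →* C ⧸ N, Dbar ≤ φ.range ∧
      ∀ (w : D) (hw : (⟨w, hDC w.2⟩ : C) ∈ N), φ w = 1 := by
  obtain ⟨P, hP, hle⟩ := BlockCover.defect_le_map N hM hβ hb hsub hDbar
  obtain ⟨t, rfl⟩ := BlockCover.defectGroup_conjugate hM hb hbD hP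
  refine ⟨(QuotientGroup.mk' N).comp ((MulAut.conj t).toMonoidHom.comp (Subgroup.inclusion hDC)),
    hle.trans (le_of_eq ?_), fun w hw => ?_⟩
  · rw [MonoidHom.range_comp, MonoidHom.range_comp, Subgroup.inclusion_range]
  · rw [MonoidHom.comp_apply, QuotientGroup.mk'_apply, QuotientGroup.eq_one_iff]
    exact Subgroup.Normal.conj_mem inferInstance _ hw t

end Quot

/-- `k(B) ≤ p ^ d` when the abelian defect group has two generators. -/
theorem card_le_of_twoGen (hM : IsPModular p M) (hB : IsPBlock M B) (hD : IsDefectGroup p M B D)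
    (hab : IsMulCommutative D) (h2 : TwoGen D) : Nat.card B ≤ p ^ blockDefect p B := by
  have := hM.2.1
  have := charP_res hM
  obtain ⟨y, hyD, v, hvD, hgen⟩ := h2
  obtain ⟨k, hk⟩ := isPPow_orderOf hM hB hD hyD
  obtain ⟨C, b, hC, hDC, hind, hbD, hdb⟩ := exists_major_at hM hB hD hab hyD
  letI : Fintype C := Fintype.ofFinite _
  letI : Fintype (ConjClasses C) := Fintype.ofFinite _
  have hb := hind.1
  set z : C := ⟨y, MajorNonvanish.mem_C hC⟩ with hz
  set N := Subgroup.zpowers z with hN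
  have hNc : N ≤ Subgroup.center C := Subgroup.zpowers_le.2 (MajorNonvanish.mem_center_C hC)
  haveI : N.Normal := ⟨fun a ha g => by
    rwa [Subgroup.mem_center_iff.1 (hNc ha) g, mul_inv_cancel_right]⟩
  have hNcard : Nat.card N = p ^ k := by rw [hN, Nat.card_zpowers, ← Subgroup.orderOf_coe, hz, hk]
  have hNp : IsPGroup p N := IsPGroup.of_card hNcard
  letI : Fintype (C ⧸ N) := Fintype.ofFinite _
  letI : Fintype (ConjClasses (C ⧸ N)) := Fintype.ofFinite _
  set β := CentralQuot.quotBlock N b with hβdef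
  have hβ : IsPBlock M β := CentralQuot.isPBlock_quotBlock N hNp hNc hM hb
  have hdβ := CentralQuot.blockDefect_quotBlock_add_le N hNp hNc hM hb
  rw [hNcard, hp.out.factorization_pow, Finsupp.single_eq_same] at hdβ
  change blockDefect p β + k ≤ blockDefect p b at hdβ
  have hlb : blockRank p b ≤ blockRank p β := CentralQuot.blockRank_le_quot N hNp hNc hM hb
  rw [← hdb]
  rcases Nat.eq_zero_or_pos (blockDefect p β) with h0 | hpos
  · have h := (CardPowDefect.card_le_aux hM 0 _ β hβ h0).1 (by omega)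
    rw [pow_zero] at h
    refine (MajorNonvanish.card_le_mul_rank hM ⟨k, hk⟩ hC hind hdb).trans ?_
    calc _ ≤ p ^ blockDefect p b * 1 :=
          Nat.mul_le_mul_left _ (hlb.trans ((RankOrth.blockRank_le β).trans h))
      _ = _ := mul_one _
  -- the block below has a cyclic defect group
  obtain ⟨Dbar, hDbar⟩ := Blocks.exists_isDefectGroup hM hβ
  obtain ⟨φ, hle, hker⟩ := exists_hom N hM hDC hb hbD hβ (fun η hη => hη) hDbar
  have hcyc : IsCyclic Dbar := by
    have hy1 : φ ⟨y, hyD⟩ = 1 := hker _ (Subgroup.mem_zpowers z)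
    have hr : φ.range ≤ Subgroup.zpowers (φ ⟨v, hvD⟩) := by
      have hcl : Subgroup.closure ({⟨y, hyD⟩, ⟨v, hvD⟩} : Set D) = ⊤ := by
        apply Subgroup.map_injective D.subtype_injective
        rw [MonoidHom.map_closure, ← MonoidHom.range_eq_map, Subgroup.range_subtype,
          Set.image_pair]
        exact le_antisymm ((Subgroup.closure_le D).2 (by
          rintro x (rfl | rfl)
          · exact hyD
          · exact hvD)) hgen
      rw [MonoidHom.range_eq_map, ← hcl, MonoidHom.map_closure, Subgroup.closure_le, Set.image_pair]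
      rintro x (rfl | rfl)
      · rw [hy1]; exact Subgroup.one_mem _
      · exact Subgroup.mem_zpowers _
    exact Subgroup.isCyclic_of_le (hle.trans hr)
  have hDb := (isDefectGroup_iff hM hβ Dbar).1 hDbar
  obtain ⟨eb, heb, hcov⟩ : ∃ eb, IsBlockIdem (cz Dbar) eb ∧
      brMap (ResK M) Dbar (eG hM β) * eb = eb := by
    have hfix : eG hM β ∈ fixAlg (ResK M) Dbar := fixAlg_anti le_top (isBlockIdem_eG hM hβ).fixed
    exact exists_block_le (hasBlocks hM) (brMap_mem_suppAlg Dbar (eG hM β))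
      (brMap_mem_fixAlg (cz_le_normalizer Dbar)
        (fixAlg_anti le_top (isBlockIdem_eG hM hβ).fixed))
      (by rw [← brMap_mul hDb.pgroup hfix hfix, (isBlockIdem_eG hM hβ).idem]) hDb.br_ne
  obtain ⟨L, -, -⟩ := CyclicBlock.exists_data hβ hDbar hcyc hpos
    (BlockCover.natCard_defect hM hβ hDbar) heb hcov
  letI : Fintype L.K := Fintype.ofFinite _
  obtain ⟨X, f, mm, hmm, hXc, hspan, hform⟩ := L.exists_gram
  choose! cf hcf using hspan
  choose n hn using fun ξ : IrrCharacter C => show ∃ n : IrrCharacter (C ⧸ N) → ℤ, ξ ∈ b →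
      ∀ x : C, ¬ p ∣ orderOf x →
        (ξ : C → ℂ) x = ∑ η ∈ members β, (n η : ℂ) * (η : C ⧸ N → ℂ) (x : C ⧸ N) from by
    by_cases hξ : ξ ∈ b
    · obtain ⟨n, hn⟩ := CentralQuot.exists_int_coeff N hNp hNc hM hb hξ
      exact ⟨n, fun _ => hn⟩
    · exact ⟨0, fun h => absurd h hξ⟩
  choose m hm using fun (χ : IrrCharacter G) (ξ : IrrCharacter C) => SubsectionSq.exists_mult_res χ ξ
  set bF := Finset.univ.filter (· ∈ b)
  set BF := Finset.univ.filter (· ∈ B) with hBF
  set W : IrrCharacter G → IrrCharacter (C ⧸ N) → ℂ := fun χ θ => ∑ ξ ∈ bF,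
    ((∑ η ∈ members β, n ξ η * cf η θ) * (m χ ξ : ℤ) : ℤ) * MajorNonvanish.scal hC ξ with hW
  set gf : IrrCharacter G → C ⧸ N → ℂ := fun χ q => ∑ θ ∈ X, W χ θ * f θ q with hgf
  have hP : ∀ (χ : IrrCharacter G) (u : C), ¬ p ∣ orderOf u →
      blockPart b (fun c : C => (χ : G → ℂ) (y * c)) u = gf χ (u : C ⧸ N) := by
    intro χ u hu
    rw [MajorNonvanish.blockPart_shift hC χ (m χ) (hm χ)]
    simp only [hgf, hW, Finset.sum_mul]
    rw [Finset.sum_comm (s := X)]
    refine Finset.sum_congr rfl fun ξ hξ => ?_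
    rw [hn ξ (Finset.mem_filter.1 hξ).2 u hu, Finset.mul_sum,
      Finset.sum_congr rfl fun η hη => by
        rw [hcf η (mem_members.1 hη) _ (CentralQuot.regular_mk N hu), Finset.mul_sum,
          Finset.mul_sum], Finset.sum_comm]
    refine Finset.sum_congr rfl fun θ _ => ?_
    push_cast
    simp only [Finset.sum_mul]
    exact Finset.sum_congr rfl fun η _ => by ring
  set t := blockDefect p b - k - blockDefect p β
  have hbij : ∀ g : C ⧸ N → ℂ, ∑ u ∈ Finset.univ.filter (fun u : C => ¬ p ∣ orderOf u),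
      g (u : C ⧸ N) * conj (g (u : C ⧸ N)) =
      ∑ q ∈ Finset.univ.filter (fun q : C ⧸ N => ¬ p ∣ orderOf q), g q * conj (g q) := fun g => by
    refine Finset.sum_bij (fun x _ => (x : C ⧸ N)) (fun x hx => ?_) (fun x hx x' hx' h => ?_)
      (fun q hq => ?_) (fun x _ => rfl)
    · exact Finset.mem_filter.2
        ⟨Finset.mem_univ _, CentralQuot.regular_mk N (Finset.mem_filter.1 hx).2⟩
    · rw [← CentralQuot.lift_mk_regular N hNp hNc (Finset.mem_filter.1 hx).2, h,
        CentralQuot.lift_mk_regular N hNp hNc (Finset.mem_filter.1 hx').2]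
    · exact ⟨CentralQuot.lift N p q, Finset.mem_filter.2 ⟨Finset.mem_univ _,
        CentralQuot.regular_lift N q⟩, CentralQuot.mk_lift N (Finset.mem_filter.1 hq).2⟩
  set Q : IrrCharacter G → ℂ := fun χ => 2 * ∑ θ ∈ X, W χ θ * conj (W χ θ) +
      (mm : ℂ) * ∑ θ ∈ X, ∑ θ' ∈ X, (W χ θ - W χ θ') * conj (W χ θ - W χ θ') with hQ
  have hc : ∀ χ, 2 * subContrib p (blockDefect p b) C b y χ χ = (p : ℂ) ^ t * Q χ := by
    intro χ
    rw [hQ]
    dsimp only
    rw [← hform (W χ), subContrib, Finset.sum_congr rfl fun u hu => by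
      rw [hP χ u (Finset.mem_filter.1 hu).2], hbij (gf χ)]
    rw [Subgroup.card_eq_card_quotient_mul_card_subgroup N, hNcard,
      show blockDefect p b = t + k + blockDefect p β by omega]
    push_cast
    have hp0 : (p : ℂ) ≠ 0 := Nat.cast_ne_zero.2 hp.out.ne_zero
    have hq0 : (Nat.card (C ⧸ N) : ℂ) ≠ 0 := Nat.cast_ne_zero.2 Nat.card_pos.ne'
    simp only [hgf, pow_add]
    field_simp
  have hQsum : ∑ χ ∈ BF, Q χ =
      (((2 * p ^ (blockDefect p b - t) * blockRank p b : ℕ) : ℚ) : ℂ) := by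
    have h : (p : ℂ) ^ t * ∑ χ ∈ BF, Q χ =
        2 * ((p : ℂ) ^ blockDefect p b * (blockRank p b : ℂ)) := by
      rw [Finset.mul_sum, ← SubsectionTrace.sum_diag hM _ ⟨k, hk⟩ hC hind, Finset.mul_sum]
      exact Finset.sum_congr rfl fun χ _ => (hc χ).symm
    refine mul_left_cancel₀ (pow_ne_zero t (Nat.cast_ne_zero.2 hp.out.ne_zero : (p : ℂ) ≠ 0)) ?_
    rw [h, Rat.cast_natCast, show blockDefect p b = t + (blockDefect p b - t) by omega, pow_add,
      Nat.add_sub_cancel_left]
    push_cast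
    ring
  -- the nonzero terms
  set I := (X ×ˢ (Finset.univ : Finset (Fin 2))).disjSum
    ((X ×ˢ X) ×ˢ (Finset.univ : Finset (Fin mm)))
  set a : IrrCharacter G × ((IrrCharacter (C ⧸ N) × Fin 2) ⊕
      ((IrrCharacter (C ⧸ N) × IrrCharacter (C ⧸ N)) × Fin mm)) → ℂ := fun i => match i.2 with
    | Sum.inl j => W i.1 j.1
    | Sum.inr j => W i.1 j.1.1 - W i.1 j.1.2 with ha
  have hN0 : 0 < orderOf y := orderOf_pos y
  have hWmem : ∀ χ θ, W χ θ ∈ KGV.rootField (orderOf y) := fun χ θ =>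
    sum_mem fun ξ _ => mul_mem (intCast_mem _ _)
      (KGV.mem_rootField_of_pow_eq_one (MajorNonvanish.scal_pow hC ξ))
  have hWint : ∀ χ θ, IsIntegral ℤ (W χ θ) := fun χ θ =>
    IsIntegral.sum _ fun ξ _ => IsIntegral.mul (isIntegral_algebraMap (A := ℂ))
      (IsIntegral.of_pow hN0 (by rw [MajorNonvanish.scal_pow]; exact isIntegral_one))
  have hlow := KGV.card_ne_zero_le_sum_normSq (BF ×ˢ I) hN0 a
    (fun i _ => by rcases i with ⟨χ, j | j⟩ <;> [exact hWmem _ _; exact sub_mem (hWmem _ _) (hWmem _ _)])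
    (fun i _ => by rcases i with ⟨χ, j | j⟩ <;> [exact hWint _ _; exact (hWint _ _).sub (hWint _ _)])
    ((2 * p ^ (blockDefect p b - t) * blockRank p b : ℕ) : ℚ) (by
      rw [← hQsum, Finset.sum_product]
      refine Finset.sum_congr rfl fun χ _ => ?_
      simp only [I, ha, hQ, Finset.sum_disjSum, Finset.sum_product, Finset.sum_const,
        Finset.card_univ, Fintype.card_fin, nsmul_eq_mul, Finset.mul_sum, Nat.cast_ofNat])
  obtain ⟨θd, hθd⟩ : X.Nonempty := Finset.card_pos.1 (by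
    have := CyclicDefectBound.one_le_blockRank hM hβ; omega)
  have hex : ∀ χ, ∃ θ ∈ X, χ ∈ BF → W χ θ ≠ 0 := by
    intro χ
    by_cases hχ : χ ∈ BF
    swap
    · exact ⟨θd, hθd, fun h => absurd h hχ⟩
    suffices h : ∃ θ ∈ X, W χ θ ≠ 0 by obtain ⟨θ, h1, h2⟩ := h; exact ⟨θ, h1, fun _ => h2⟩
    by_contra hcon
    push Not at hcon
    apply MajorNonvanish.blockPart_one_ne_zero hM ⟨k, hk⟩ hC hind hdb (Finset.mem_filter.1 hχ).2
    rw [hP χ 1 (by simp [hp.out.not_dvd_one])]
    exact Finset.sum_eq_zero fun θ hθ => by rw [hcon θ hθ, zero_mul]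
  choose θ₀ hθ₀ hθ₀ne using hex
  have hinj : (BF ×ˢ (X ×ˢ (Finset.univ : Finset (Fin 2)))).card ≤
      ((BF ×ˢ I).filter fun i => a i ≠ 0).card := by
    refine Finset.card_le_card_of_injOn (fun i => (i.1, if W i.1 i.2.1 = 0 then
      Sum.inr ((if i.2.2 = 0 then (i.2.1, θ₀ i.1) else (θ₀ i.1, i.2.1)), ⟨0, hmm⟩)
      else Sum.inl i.2)) ?_ ?_
    · rintro ⟨χ, θ, j⟩ hi
      simp only [Finset.coe_product, Set.mem_prod, Finset.mem_coe, Finset.coe_univ,
        Set.mem_univ, and_true] at hi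
      obtain ⟨hχ, hθ⟩ := hi
      simp only [Finset.mem_coe, Finset.mem_filter, Finset.mem_product, I]
      by_cases hW0 : W χ θ = 0
      · rw [if_pos hW0]
        refine ⟨⟨hχ, ?_⟩, ?_⟩
        · split_ifs <;> simp [hθ, hθ₀ χ]
        · simp only [ha]
          split_ifs <;> simp [hW0, hθ₀ne χ hχ]
      · rw [if_neg hW0]
        exact ⟨⟨hχ, by simp [hθ]⟩, by simpa [ha] using hW0⟩
    · rintro ⟨χ, θ, j⟩ hi ⟨χ', θ', j'⟩ hi' h
      simp only [Finset.coe_product, Set.mem_prod, Finset.mem_coe, Finset.coe_univ,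
        Set.mem_univ, and_true] at hi hi'
      have hne := hθ₀ne χ hi.1
      simp only [Prod.mk.injEq] at h ⊢
      obtain ⟨rfl, h⟩ := h
      refine ⟨rfl, ?_⟩
      split_ifs at h with h1 h2 h3 h3 h4 h5 h6
      all_goals simp only [Sum.inr.injEq, Sum.inl.injEq, Prod.mk.injEq, and_true] at h
      all_goals first
        | exact h
        | (obtain ⟨rfl, -⟩ := h; exact ⟨rfl, by omega⟩)
        | (obtain ⟨-, rfl⟩ := h; exact ⟨rfl, by omega⟩)
        | (obtain ⟨rfl, -⟩ := h; exact absurd ‹W χ (θ₀ χ) = 0› hne)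
        | (obtain ⟨-, rfl⟩ := h; exact absurd ‹W χ (θ₀ χ) = 0› hne)
  have hmain : BF.card * (X.card * 2) ≤ 2 * p ^ (blockDefect p b - t) * blockRank p b := by
    have h' := (Nat.cast_le (α := ℝ)).2 hinj
    simp only [Finset.card_product, Finset.card_univ, Fintype.card_fin] at h'
    have h'' := h'.trans hlow
    rw [Rat.cast_natCast] at h''
    exact_mod_cast h''
  have he1 : 1 ≤ blockRank p β := CyclicDefectBound.one_le_blockRank hM hβ
  rw [show Nat.card B = BF.card by
    rw [hBF, ← Fintype.card_subtype, ← Nat.card_eq_fintype_card]]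
  refine Nat.le_of_mul_le_mul_right ?_ (show 0 < X.card * 2 by omega)
  calc BF.card * (X.card * 2) ≤ _ := hmain
    _ ≤ 2 * p ^ blockDefect p b * X.card :=
        Nat.mul_le_mul (Nat.mul_le_mul_left _ (Nat.pow_le_pow_right hp.out.pos (by omega)))
          (hXc ▸ hlb)
    _ = _ := by ring

/-- `k(B) ^ 3 ≤ p ^ (5 d)` when the abelian defect group has three generators. -/
theorem card_cube_le (hM : IsPModular p M) (hB : IsPBlock M B) (hD : IsDefectGroup p M B D)
    (hab : IsMulCommutative D) {a₁ a₂ a₃ : D}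
    (hgen : Subgroup.closure ({a₁, a₂, a₃} : Set D) = ⊤) :
    Nat.card B ^ 3 ≤ p ^ (5 * blockDefect p B) := by
  -- the generator of largest order
  obtain ⟨y, v, w, hgen, hvy, hwy⟩ : ∃ y v w : D, Subgroup.closure ({y, v, w} : Set D) = ⊤ ∧
      orderOf v ≤ orderOf y ∧ orderOf w ≤ orderOf y := by
    rcases le_total (orderOf a₂) (orderOf a₁) with h1 | h1 <;>
    rcases le_total (orderOf a₃) (orderOf a₁) with h2 | h2 <;>
    rcases le_total (orderOf a₃) (orderOf a₂) with h3 | h3
    all_goals first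
      | exact ⟨a₁, a₂, a₃, hgen, by omega, by omega⟩
      | exact ⟨a₂, a₁, a₃, (congrArg Subgroup.closure (Set.insert_comm a₂ a₁ {a₃})).trans hgen,
          by omega, by omega⟩
      | exact ⟨a₃, a₁, a₂, (congrArg Subgroup.closure (by
          ext x; simp only [Set.mem_insert_iff, Set.mem_singleton_iff]; tauto)).trans hgen,
          by omega, by omega⟩
  have := hM.2.1
  have := hab
  letI : CommGroup D := { (inferInstance : Group D) with mul_comm := hab.is_comm.comm }
  have hcard : Nat.card D ≤ orderOf y * (orderOf v * orderOf w) := by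
    set F : Subgroup.zpowers y × (Subgroup.zpowers v × Subgroup.zpowers w) →* D :=
      (Subgroup.zpowers y).subtype.coprod
        ((Subgroup.zpowers v).subtype.coprod (Subgroup.zpowers w).subtype)
    have hF : Function.Surjective F := by
      rw [← MonoidHom.range_eq_top, ← top_le_iff, ← hgen, Subgroup.closure_le]
      rintro x (rfl | rfl | rfl)
      · exact ⟨(⟨_, Subgroup.mem_zpowers _⟩, 1, 1), by simp [F]⟩
      · exact ⟨(1, ⟨_, Subgroup.mem_zpowers _⟩, 1), by simp [F]⟩
      · exact ⟨(1, 1, ⟨_, Subgroup.mem_zpowers _⟩), by simp [F]⟩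
    have h := Nat.card_le_card_of_surjective F hF
    rwa [Nat.card_prod, Nat.card_prod, Nat.card_zpowers, Nat.card_zpowers, Nat.card_zpowers] at h
  obtain ⟨k, hk⟩ := isPPow_orderOf hM hB hD y.2
  have hk' : orderOf y = p ^ k := by rw [← Subgroup.orderOf_coe, hk]
  have hdk : blockDefect p B ≤ 3 * k := by
    refine (Nat.pow_le_pow_iff_right hp.out.one_lt).1 ?_
    rw [← BlockCover.natCard_defect hM hB hD]
    refine hcard.trans ((Nat.mul_le_mul_left _ (Nat.mul_le_mul hvy hwy)).trans (le_of_eq ?_))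
    rw [hk']; ring
  obtain ⟨C, b, hC, hDC, hind, hbD, hdb⟩ := exists_major_at hM hB hD hab y.2
  letI : Fintype C := Fintype.ofFinite _
  letI : Fintype (ConjClasses C) := Fintype.ofFinite _
  have hb := hind.1
  set z : C := ⟨y, MajorNonvanish.mem_C hC⟩ with hz
  set N := Subgroup.zpowers z with hN
  have hNc : N ≤ Subgroup.center C := Subgroup.zpowers_le.2 (MajorNonvanish.mem_center_C hC)
  haveI : N.Normal := ⟨fun a ha g => by
    rwa [Subgroup.mem_center_iff.1 (hNc ha) g, mul_inv_cancel_right]⟩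
  have hNcard : Nat.card N = p ^ k := by rw [hN, Nat.card_zpowers, ← Subgroup.orderOf_coe, hz, hk]
  have hNp : IsPGroup p N := IsPGroup.of_card hNcard
  letI : Fintype (C ⧸ N) := Fintype.ofFinite _
  set β := CentralQuot.quotBlock N b
  have hβ : IsPBlock M β := CentralQuot.isPBlock_quotBlock N hNp hNc hM hb
  have hdβ := CentralQuot.blockDefect_quotBlock_add_le N hNp hNc hM hb
  rw [hNcard, hp.out.factorization_pow, Finsupp.single_eq_same] at hdβ
  change blockDefect p β + k ≤ blockDefect p b at hdβ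
  obtain ⟨Dbar, hDbar⟩ := Blocks.exists_isDefectGroup hM hβ
  obtain ⟨φ, hle, hker⟩ := exists_hom N hM hDC hb hbD hβ (fun η hη => hη) hDbar
  have hy1 : φ y = 1 := hker _ (Subgroup.mem_zpowers z)
  have hcomm : ∀ s s' : φ.range, s * s' = s' * s := by
    rintro ⟨_, s, rfl⟩ ⟨_, s', rfl⟩
    exact Subtype.ext (by
      show φ s * φ s' = φ s' * φ s
      rw [← map_mul, mul_comm, map_mul])
  letI : CommGroup φ.range := { (inferInstance : Group φ.range) with mul_comm := hcomm }
  have hgen2 : Subgroup.closure ({φ.rangeRestrict v, φ.rangeRestrict w} : Set φ.range) = ⊤ := by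
    rw [← top_le_iff, ← Subgroup.map_top_of_surjective φ.rangeRestrict φ.rangeRestrict_surjective,
      ← hgen, MonoidHom.map_closure, Subgroup.closure_le]
    rintro _ ⟨x, rfl | rfl | rfl, rfl⟩
    · rw [show φ.rangeRestrict x = 1 from Subtype.ext hy1]
      exact Subgroup.one_mem _
    all_goals exact Subgroup.subset_closure (by simp)
  obtain ⟨u₁, hu₁, u₂, hu₂, hu⟩ := twoGen_of_comm hgen2 (Dbar.subgroupOf φ.range)
  have h2g : TwoGen Dbar := ⟨u₁, hu₁, u₂, hu₂, fun x hx => by
    have h := Subgroup.mem_map_of_mem φ.range.subtype (hu (show (⟨x, hle hx⟩ : φ.range) ∈ _ from hx))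
    rwa [MonoidHom.map_closure, Set.image_pair] at h⟩
  have habb : IsMulCommutative Dbar := ⟨⟨fun s s' => by
    have h := congrArg Subtype.val (mul_comm (⟨s.1, hle s.2⟩ : φ.range) ⟨s'.1, hle s'.2⟩)
    exact Subtype.ext h⟩⟩
  have hkβ := card_le_of_twoGen hM hβ hDbar habb h2g
  have hlb : blockRank p b ≤ p ^ (blockDefect p b - k) :=
    ((CentralQuot.blockRank_le_quot N hNp hNc hM hb).trans (RankOrth.blockRank_le β)).trans
      (hkβ.trans (Nat.pow_le_pow_right hp.out.pos (by omega)))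
  have h := (MajorNonvanish.card_le_mul_rank hM ⟨k, hk⟩ hC hind hdb).trans
    (Nat.mul_le_mul_left _ hlb)
  rw [← pow_add] at h
  refine (Nat.pow_le_pow_left h 3).trans ?_
  rw [← pow_mul, ← hdb]
  exact Nat.pow_le_pow_right hp.out.pos (by omega)

end CfsgLib.AbelianFewGen
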