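import Cfsg.Agent.Lib.Characters.LocalBrauer
import Cfsg.Agent.Lib.Characters.Galois
import Cfsg.Agent.Lib.Blocks.InflateBlocks
import Cfsg.Agent.Lib.Blocks.RankOrth
import Cfsg.Agent.Lib.Blocks12.Bounds
import Cfsg.Agent.Lib.BlockCover.Quotient

/-!
# Blocks modulo a central `p`-subgroup

A block `b` of `C` and the block `quotBlock N b` of `C ⧸ N` below it: the values of the members
of `b` at the `p`-regular elements are integral combinations of those of the members of the
block below, which has smaller defect.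
-/

set_option autoImplicit false
set_option linter.unusedSectionVars false
set_option linter.style.haveILetI false

namespace CfsgLib.CentralQuot

open Cfsg CfsgLib.Characters CfsgLib.Blocks CfsgLib.Contribution
open scoped ComplexConjugate

universe u

/-- A power map is multiplicative when the index of the centre divides the exponent or the
exponent less one. -/
theorem pow_mul_distrib {E : Type u} [Group E] [Finite E] {K : ℕ}
    (h : (Subgroup.center E).index ∣ K ∨ (Subgroup.center E).index ∣ K - 1) (g h' : E) :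
    (g * h') ^ K = g ^ K * h' ^ K := by
  have hom : ∀ L, (Subgroup.center E).index ∣ L →
      (∀ g h : E, (g * h) ^ L = g ^ L * h ^ L) ∧ ∀ g : E, g ^ L ∈ Subgroup.center E := by
    rintro L ⟨i, rfl⟩
    refine ⟨fun g h => ?_, fun g => ?_⟩
    · have e : (g * h) ^ (Subgroup.center E).index =
          g ^ (Subgroup.center E).index * h ^ (Subgroup.center E).index :=
        congrArg Subtype.val (map_mul (MonoidHom.transferCenterPow E) g h)
      rw [pow_mul, e, Commute.mul_pow, ← pow_mul, ← pow_mul]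
      exact (Subgroup.mem_center_iff.1 ((Subgroup.center E).pow_index_mem g) _).symm
    · rw [pow_mul]
      exact Subgroup.pow_mem _ ((Subgroup.center E).pow_index_mem g) i
  rcases h with h | h
  · exact (hom K h).1 g h'
  · obtain ⟨hm, hc⟩ := hom _ h
    rcases Nat.eq_zero_or_pos K with rfl | hK
    · simp
    · have hgc : Commute (g ^ (K - 1)) h' := (Subgroup.mem_center_iff.1 (hc g) h').symm
      rw [show K = 1 + (K - 1) by omega, pow_add, pow_add, pow_add, pow_one, pow_one, pow_one,
        hm, mul_assoc, ← mul_assoc h', ← hgc.eq]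
      simp only [mul_assoc]

variable {C : Type u} [Group C] [Fintype C] {p : ℕ} [hp : Fact p.Prime] {M : Ideal AlgInt}

/-- An exponent that takes every element to its `p`-regular part. -/
theorem exists_exponent :
    ∃ K : ℕ, p ^ (Nat.card C).factorization p ∣ K ∧
      Nat.card C / p ^ (Nat.card C).factorization p ∣ K - 1 ∧ 1 ≤ K := by
  set a := p ^ (Nat.card C).factorization p
  set m := Nat.card C / a
  have hco : a.Coprime m :=
    (Nat.coprime_ordCompl hp.out Nat.card_pos.ne').pow_left _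
  obtain ⟨k, hk0, hk1⟩ := Nat.chineseRemainder hco 0 1
  refine ⟨k + Nat.card C, ?_, ?_, by have := Nat.card_pos (α := C); omega⟩
  · exact dvd_add ((Nat.modEq_zero_iff_dvd).1 hk0) (Nat.ordProj_dvd _ _)
  · refine (Nat.modEq_iff_dvd' (by have := Nat.card_pos (α := C); omega)).1 ?_
    have hmC : Nat.card C ≡ 0 [MOD m] :=
      Nat.modEq_zero_iff_dvd.2 (Nat.ordCompl_dvd _ _)
    simpa using (hk1.add hmC).symm

/-- The exponent. -/
noncomputable def regExp (C : Type u) [Group C] [Fintype C] (p : ℕ) [Fact p.Prime] : ℕ :=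
  (exists_exponent (C := C) (p := p)).choose

theorem pow_regExp_of_regular {x : C} (hx : ¬ p ∣ orderOf x) : x ^ regExp C p = x := by
  obtain ⟨-, h, h1⟩ := (exists_exponent (C := C) (p := p)).choose_spec
  conv_rhs => rw [← pow_one x]
  refine pow_eq_pow_iff_modEq.2 (Nat.ModEq.symm ((Nat.modEq_iff_dvd' h1).2 (dvd_trans ?_ h)))
  have hd : orderOf x ∣ p ^ (Nat.card C).factorization p *
      (Nat.card C / p ^ (Nat.card C).factorization p) := by
    rw [Nat.ordProj_mul_ordCompl_eq_self]
    exact orderOf_dvd_natCard x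
  exact ((hp.out.coprime_iff_not_dvd.2 hx).symm.pow_right _).dvd_of_dvd_mul_left hd

theorem regular_pow_regExp (g : C) : ¬ p ∣ orderOf (g ^ regExp C p) := by
  obtain ⟨⟨i, hi⟩, -, -⟩ := (exists_exponent (C := C) (p := p)).choose_spec
  intro h
  refine Nat.not_dvd_ordCompl hp.out (Nat.card_pos (α := C)).ne' (h.trans ?_)
  refine orderOf_dvd_of_pow_eq_one ?_
  rw [regExp, hi, mul_comm (p ^ _) i, ← pow_mul, mul_assoc, Nat.ordProj_mul_ordCompl_eq_self,
    pow_mul', pow_card_eq_one', one_pow]

variable (N : Subgroup C) [hN : N.Normal]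

/-- The regular part of any preimage. -/
noncomputable def lift (p : ℕ) [Fact p.Prime] (q : C ⧸ N) : C := q.out ^ regExp C p

theorem regular_lift (q : C ⧸ N) : ¬ p ∣ orderOf (lift N p q) := regular_pow_regExp _

theorem regular_mk {x : C} (hx : ¬ p ∣ orderOf x) : ¬ p ∣ orderOf (x : C ⧸ N) := fun h =>
  hx (h.trans (orderOf_map_dvd (QuotientGroup.mk' N) x))

theorem mk_lift {q : C ⧸ N} (hq : ¬ p ∣ orderOf q) : ((lift N p q : C) : C ⧸ N) = q := by
  obtain ⟨-, h, h1⟩ := (exists_exponent (C := C) (p := p)).choose_spec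
  rw [lift, QuotientGroup.mk_pow, QuotientGroup.out_eq']
  conv_rhs => rw [← pow_one q]
  refine pow_eq_pow_iff_modEq.2 (Nat.ModEq.symm ((Nat.modEq_iff_dvd' h1).2 (dvd_trans ?_ h)))
  have hd : orderOf q ∣ p ^ (Nat.card C).factorization p *
      (Nat.card C / p ^ (Nat.card C).factorization p) := by
    rw [Nat.ordProj_mul_ordCompl_eq_self]
    exact (orderOf_dvd_natCard q).trans (Subgroup.card_quotient_dvd_card N)
  exact ((hp.out.coprime_iff_not_dvd.2 hq).symm.pow_right _).dvd_of_dvd_mul_left hd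

variable (hNp : IsPGroup p N) (hNc : N ≤ Subgroup.center C)
include hNp hNc

theorem lift_mk (g : C) : lift N p (g : C ⧸ N) = g ^ regExp C p := by
  obtain ⟨n, hn⟩ := QuotientGroup.mk_out_eq_mul N g
  obtain ⟨⟨i, hi⟩, -, -⟩ := (exists_exponent (C := C) (p := p)).choose_spec
  have hc : Commute g (n : C) := Subgroup.mem_center_iff.1 (hNc n.2) g
  have h1 : (n : C) ^ regExp C p = 1 := by
    obtain ⟨j, hj⟩ := IsPGroup.iff_orderOf.1 hNp n
    rw [← orderOf_dvd_iff_pow_eq_one, Subgroup.orderOf_coe, regExp, hi, hj]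
    refine dvd_mul_of_dvd_left (Nat.pow_dvd_pow p ?_) _
    refine (hp.out.pow_dvd_iff_le_factorization Nat.card_pos.ne').1 ?_
    rw [← hj, ← Subgroup.orderOf_coe]
    exact orderOf_dvd_natCard _
  rw [lift, hn, hc.mul_pow, h1, mul_one]

theorem lift_mk_regular {x : C} (hx : ¬ p ∣ orderOf x) : lift N p (x : C ⧸ N) = x := by
  rw [lift_mk N hNp hNc, pow_regExp_of_regular hx]

/-- The lift is a class function of the quotient, up to conjugation. -/
theorem lift_conj (q : C ⧸ N) (w : C) :
    lift N p ((w : C ⧸ N) * q * (w : C ⧸ N)⁻¹) = w * lift N p q * w⁻¹ := by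
  obtain ⟨g, rfl⟩ := QuotientGroup.mk_surjective q
  rw [← QuotientGroup.mk_inv, ← QuotientGroup.mk_mul, ← QuotientGroup.mk_mul,
    lift_mk N hNp hNc, lift_mk N hNp hNc, conj_pow]

/-- A character of `C` at the lifts is a generalised character of the quotient. -/
theorem isGeneralizedCharacter_lift (ξ : IrrCharacter C) :
    IsGeneralizedCharacter (C ⧸ N) (fun q => (ξ : C → ℂ) (lift N p q)) := by
  have hcl : IsClassFunction (C ⧸ N) (fun q => (ξ : C → ℂ) (lift N p q)) := fun q h => by
    obtain ⟨w, rfl⟩ := QuotientGroup.mk_surjective h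
    simp only [lift_conj N hNp hNc]
    exact irr_isClassFunction ξ _ _
  letI : Fintype (C ⧸ N) := Fintype.ofFinite _
  refine BrauerInd.isGeneralizedCharacter_of_elementary hcl fun r Eb hr hEb => ?_
  obtain ⟨x, hx, hxr, c, hc⟩ := hEb
  set E := Eb.comap (QuotientGroup.mk' N) with hEdef
  obtain ⟨hi1, hi2, -⟩ := (exists_exponent (C := C) (p := p)).choose_spec
  -- a preimage of `x` commuting with `E`
  obtain ⟨xt, hxt, hxtc⟩ : ∃ xt : C, (xt : C ⧸ N) = x ∧ ∀ g ∈ E, g * xt = xt * g := by
    by_cases hrp : r = p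
    · subst hrp
      have hxreg : ¬ r ∣ orderOf (x : C ⧸ N) := by
        rw [Subgroup.orderOf_coe]
        exact hr.coprime_iff_not_dvd.1 hxr.symm
      refine ⟨lift N r (x : C ⧸ N), mk_lift N hxreg, fun g hg => ?_⟩
      have h := lift_conj N hNp hNc (x : C ⧸ N) g
      have he : (g : C ⧸ N) * (x : C ⧸ N) * (g : C ⧸ N)⁻¹ = (x : C ⧸ N) := by
        rw [show (g : C ⧸ N) * (x : C ⧸ N) = (x : C ⧸ N) * (g : C ⧸ N) from
          congrArg Subtype.val (Subgroup.mem_center_iff.1 hx ⟨(g : C ⧸ N), hg⟩),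
          mul_inv_cancel_right]
      rw [he] at h
      conv_rhs => rw [h]
      rw [inv_mul_cancel_right]
    · obtain ⟨xt, hxt⟩ := QuotientGroup.mk_surjective (x : C ⧸ N)
      refine ⟨xt, hxt, fun g hg => ?_⟩
      set n := g * xt * g⁻¹ * xt⁻¹ with hn
      have hnN : n ∈ N := by
        rw [← QuotientGroup.eq_one_iff, hn, QuotientGroup.mk_mul, QuotientGroup.mk_mul,
          QuotientGroup.mk_mul, QuotientGroup.mk_inv, QuotientGroup.mk_inv, hxt,
          show (g : C ⧸ N) * (x : C ⧸ N) = (x : C ⧸ N) * (g : C ⧸ N) from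
            congrArg Subtype.val (Subgroup.mem_center_iff.1 hx ⟨(g : C ⧸ N), hg⟩)]
        group
      have hnc : ∀ y : C, Commute n y := fun y => (Subgroup.mem_center_iff.1 (hNc hnN) y).symm
      have hstep : g * xt * g⁻¹ = n * xt := by rw [hn, inv_mul_cancel_right]
      have hpow : ∀ j : ℕ, g ^ j * xt * (g ^ j)⁻¹ = n ^ j * xt := by
        intro j
        induction j with
        | zero => simp
        | succ j ih =>
          calc g ^ (j + 1) * xt * (g ^ (j + 1))⁻¹ = g * (g ^ j * xt * (g ^ j)⁻¹) * g⁻¹ := by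
                rw [pow_succ']; group
            _ = n ^ j * (g * xt * g⁻¹) := by
                rw [ih, ← mul_assoc g, ← ((hnc g).pow_left j).eq]
                group
            _ = n ^ (j + 1) * xt := by rw [hstep, ← mul_assoc, ← pow_succ]
      -- a power of `g` lands over the cyclic group of `x`
      haveI : (Subgroup.zpowers x).Normal := ⟨fun z hz w => by
        obtain ⟨i, rfl⟩ := Subgroup.mem_zpowers_iff.1 hz
        rw [Subgroup.mem_center_iff.1 ((Subgroup.center Eb).zpow_mem hx i) w, mul_inv_cancel_right]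
        exact Subgroup.zpow_mem_zpowers x i⟩
      obtain ⟨i, hi⟩ := Subgroup.mem_zpowers_iff.1
        ((Subgroup.zpowers x).pow_index_mem ⟨(g : C ⧸ N), hg⟩)
      have hi' : ((g ^ r ^ c : C) : C ⧸ N) = ((xt ^ i : C) : C ⧸ N) := by
        rw [QuotientGroup.mk_pow, QuotientGroup.mk_zpow, hxt, ← hc]
        simpa using (congrArg Subtype.val hi).symm
      obtain ⟨n', hn', he⟩ : ∃ n' ∈ N, g ^ r ^ c = xt ^ i * n' :=
        ⟨(xt ^ i)⁻¹ * g ^ r ^ c, QuotientGroup.eq.1 hi'.symm, by rw [mul_inv_cancel_left]⟩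
      have hcomm : Commute (g ^ r ^ c) xt := by
        rw [he]
        exact ((Commute.refl xt).zpow_left i).mul_left (Subgroup.mem_center_iff.1 (hNc hn') xt).symm
      have h1 : n ^ r ^ c = 1 := by
        have h := hpow (r ^ c)
        rw [hcomm.eq, mul_inv_cancel_right] at h
        exact mul_right_cancel (b := xt) (by rw [← h, one_mul])
      obtain ⟨j, hj⟩ := IsPGroup.iff_orderOf.1 hNp ⟨n, hnN⟩
      rw [Subgroup.orderOf_mk] at hj
      have h2 : n = 1 := orderOf_eq_one_iff.1 (Nat.eq_one_of_dvd_coprimes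
        (((Nat.coprime_primes hp.out hr).2 (fun h => hrp h.symm)).pow j c)
        (hj ▸ dvd_rfl) (orderOf_dvd_of_pow_eq_one h1))
      rw [h2, one_mul, mul_inv_eq_iff_eq_mul] at hstep
      exact hstep
  have hxtE : xt ∈ E := by rw [hEdef, Subgroup.mem_comap, QuotientGroup.mk'_apply, hxt]; exact x.2
  -- the index of the centre
  have hcen : (Subgroup.center E).index ∣ r ^ c := by
    set π : E →* Eb := (QuotientGroup.mk' N).subgroupComap Eb with hπ
    have hsurj : Function.Surjective π := fun y => by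
      obtain ⟨g, hg⟩ := QuotientGroup.mk_surjective (y : C ⧸ N)
      exact ⟨⟨g, show (g : C ⧸ N) ∈ Eb by rw [hg]; exact y.2⟩, Subtype.ext hg⟩
    rw [← hc, ← Subgroup.index_comap_of_surjective _ hsurj]
    refine Subgroup.index_dvd_of_le fun g hg => ?_
    obtain ⟨i, hi⟩ := Subgroup.mem_zpowers_iff.1 hg
    have hi' : ((g : C) : C ⧸ N) = ((xt ^ i : C) : C ⧸ N) := by
      rw [QuotientGroup.mk_zpow, hxt]
      exact (congrArg Subtype.val hi).symm
    have hn' : (xt ^ i)⁻¹ * (g : C) ∈ N := QuotientGroup.eq.1 hi'.symm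
    refine Subgroup.mem_center_iff.2 fun w => Subtype.ext ?_
    have h1 : Commute (w : C) (xt ^ i) := Commute.zpow_right (hxtc w w.2) i
    have h2 : Commute (w : C) ((xt ^ i)⁻¹ * g) := Subgroup.mem_center_iff.1 (hNc hn') w
    have h3 := h1.mul_right h2
    rw [mul_inv_cancel_left] at h3
    exact h3.eq
  have hcase : (Subgroup.center E).index ∣ regExp C p ∨
      (Subgroup.center E).index ∣ regExp C p - 1 := by
    have hdC : (Subgroup.center E).index ∣ p ^ (Nat.card C).factorization p *
        (Nat.card C / p ^ (Nat.card C).factorization p) := by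
      rw [Nat.ordProj_mul_ordCompl_eq_self]
      exact (Subgroup.index_dvd_card _).trans (Subgroup.card_subgroup_dvd_card E)
    obtain ⟨l, -, hl⟩ := (Nat.dvd_prime_pow hr).1 hcen
    rw [hl] at hdC ⊢
    by_cases hrp : r = p
    · left
      refine dvd_trans ?_ hi1
      refine Nat.Coprime.dvd_of_dvd_mul_right ?_ hdC
      rw [hrp]
      exact (Nat.coprime_ordCompl hp.out Nat.card_pos.ne').pow_left _
    · right
      refine dvd_trans ?_ hi2
      exact Nat.Coprime.dvd_of_dvd_mul_left
        (((Nat.coprime_primes hr hp.out).2 hrp).pow l _) hdC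
  -- the lift is a homomorphism there
  have hmul : ∀ a b : Eb, lift N p ((a : C ⧸ N) * b) = lift N p (a : C ⧸ N) * lift N p (b : C ⧸ N) := by
    intro a b
    obtain ⟨g, hg⟩ := QuotientGroup.mk_surjective (a : C ⧸ N)
    obtain ⟨h, hh⟩ := QuotientGroup.mk_surjective (b : C ⧸ N)
    rw [← hg, ← hh, ← QuotientGroup.mk_mul, lift_mk N hNp hNc, lift_mk N hNp hNc,
      lift_mk N hNp hNc]
    have hgE : g ∈ E := by rw [hEdef, Subgroup.mem_comap, QuotientGroup.mk'_apply, hg]; exact a.2
    have hhE : h ∈ E := by rw [hEdef, Subgroup.mem_comap, QuotientGroup.mk'_apply, hh]; exact b.2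
    simpa using congrArg Subtype.val (pow_mul_distrib hcase (⟨g, hgE⟩ : E) ⟨h, hhE⟩)
  exact isGeneralizedCharacter_of_isCharacter (CharGalois.isCharacter_comp (isCharacter_of_irr ξ.2)
    (MonoidHom.mk' (fun y : Eb => lift N p (y : C ⧸ N)) fun a b => by simpa using hmul a b))

omit hNp hNc in
/-- The characters of the quotient that inflate into `b`. -/
def quotBlock (b : Set (IrrCharacter C)) : Set (IrrCharacter (C ⧸ N)) :=
  {π | Chars17.infl N π ∈ b}

theorem mem_centralizer (x : C) : x ∈ Subgroup.centralizer (N : Set C) :=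
  Subgroup.mem_centralizer_iff.2 fun n hn => (Subgroup.mem_center_iff.1 (hNc hn) x).symm

theorem sameBlock_quot (hM : IsPModular p M) {π π' : IrrCharacter (C ⧸ N)}
    (h : SameBlock M (Chars17.infl N π : C → ℂ) (Chars17.infl N π' : C → ℂ)) :
    SameBlock M (π : C ⧸ N → ℂ) (π' : C ⧸ N → ℂ) := by
  letI : Fintype (C ⧸ N) := Fintype.ofFinite _
  refine sameBlock_of_regular hM fun q hq => ?_
  have hx := regular_lift (p := p) N q
  have h1 := h (lift N p q)
  rw [show (Chars17.infl N π : C → ℂ) = (π : C ⧸ N → ℂ) ∘ QuotientGroup.mk from rfl,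
    show (Chars17.infl N π' : C → ℂ) = (π' : C ⧸ N → ℂ) ∘ QuotientGroup.mk from rfl,
    Blocks.centralChar_infl N hNp hM hx (mem_centralizer N hNp hNc _),
    Blocks.centralChar_infl N hNp hM hx (mem_centralizer N hNp hNc _), mk_lift N hq] at h1
  exact h1

variable {b : Set (IrrCharacter C)}

theorem isPBlock_quotBlock (hM : IsPModular p M) (hb : IsPBlock M b) :
    IsPBlock M (quotBlock N b) := by
  obtain ⟨θ, hθ, hθN⟩ := exists_mem_trivial_on N hM hNp hb
  obtain ⟨π₀, hπ₀⟩ := Chars17.exists_infl_eq (N := N) (χ := θ)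
    (fun u hu => Chars17.mem_irrKer.2 (hθN u hu))
  refine ⟨π₀, Set.ext fun π => ?_⟩
  change Chars17.infl N π ∈ b ↔ SameBlock M (π₀ : C ⧸ N → ℂ) (π : C ⧸ N → ℂ)
  rw [IsPBlock.mem_iff hM hb (hπ₀.symm ▸ hθ : Chars17.infl N π₀ ∈ b)]
  exact ⟨sameBlock_quot N hNp hNc hM, BlockCover.sameBlock_infl N hM⟩

/-- The block below has defect smaller by at least the exponent of `|N|`. -/
theorem blockDefect_quotBlock_add_le (hM : IsPModular p M) (hb : IsPBlock M b) :
    blockDefect p (quotBlock N b) + (Nat.card N).factorization p ≤ blockDefect p b := by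
  letI : Fintype (C ⧸ N) := Fintype.ofFinite _
  have hβ := isPBlock_quotBlock N hNp hNc hM hb
  obtain ⟨π, hπ, -, hπe⟩ := Contribution.exists_height_zero hM hβ
  have h1 := minExp_add_defect hM hβ
  have h2 := minExp_add_defect hM hb
  have h3 := minExp_le (p := p) (show Chars17.infl N π ∈ b from hπ)
  have hdeg : charDegree (Chars17.infl N π : C → ℂ) = charDegree (π : C ⧸ N → ℂ) := by
    rw [charDegree, charDegree, Chars17.infl_apply, QuotientGroup.mk_one]
  rw [hdeg, hπe] at h3
  have h4 : (Nat.card C).factorization p =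
      (Nat.card (C ⧸ N)).factorization p + (Nat.card N).factorization p := by
    rw [Subgroup.card_eq_card_quotient_mul_card_subgroup N,
      Nat.factorization_mul Nat.card_pos.ne' Nat.card_pos.ne', Finsupp.add_apply]
  omega

open scoped Classical in
/-- The members of `b` are integral combinations of those of the block below at the regular
elements. -/
theorem exists_int_coeff [Fintype (C ⧸ N)] (hM : IsPModular p M) (hb : IsPBlock M b)
    {ξ : IrrCharacter C} (hξ : ξ ∈ b) :
    ∃ n : IrrCharacter (C ⧸ N) → ℤ, ∀ x : C, ¬ p ∣ orderOf x →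
      (ξ : C → ℂ) x = ∑ η ∈ members (quotBlock N b), (n η : ℂ) * (η : C ⧸ N → ℂ) (x : C ⧸ N) := by
  have hθ := isGeneralizedCharacter_lift N hNp hNc ξ
  choose z hz using fun η : IrrCharacter (C ⧸ N) => (isGeneralizedCharacter_iff.1 hθ).2 η
  refine ⟨z, ?_⟩
  set R := Finset.univ.filter (fun q : C ⧸ N => ¬ p ∣ orderOf q) with hR
  set θ : C ⧸ N → ℂ := fun q => (ξ : C → ℂ) (lift N p q) with hθdef
  set β := members (quotBlock N b) with hβ
  set w : C ⧸ N → ℂ := fun q => θ q - ∑ η ∈ β, (z η : ℂ) * (η : C ⧸ N → ℂ) q with hw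
  have hwsum : ∀ q, w q = ∑ η ∈ Finset.univ \ β, (z η : ℂ) * (η : C ⧸ N → ℂ) q := fun q => by
    have h := congrFun (classFunction_eq_sum (isGeneralizedCharacter_iff.1 hθ).1) q
    simp only [Finset.sum_apply, Pi.smul_apply, smul_eq_mul, hz] at h
    rw [hw]
    dsimp only
    rw [show θ q = _ from h, ← Finset.sum_sdiff (Finset.subset_univ β), add_sub_cancel_right]
  have horth : ∀ η ∈ Finset.univ \ β, ∑ q ∈ R, w q * conj ((η : C ⧸ N → ℂ) q) = 0 := by
    intro η hη
    have hηb : η ∉ quotBlock N b := fun h => (Finset.mem_sdiff.1 hη).2 (mem_members.2 h)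
    have hns : ¬ SameBlock M (ξ : C → ℂ) (Chars17.infl N η : C → ℂ) := fun h =>
      hηb ((IsPBlock.mem_iff hM hb hξ _).2 h)
    have h0 : ∑ q ∈ R, θ q * conj ((η : C ⧸ N → ℂ) q) = 0 := by
      rw [← sum_regular_eq_zero_of_not_sameBlock hM hns]
      symm
      refine Finset.sum_bij (fun x _ => (x : C ⧸ N)) (fun x hx => ?_) (fun x hx y hy h => ?_)
        (fun q hq => ?_) (fun x hx => ?_)
      · exact Finset.mem_filter.2 ⟨Finset.mem_univ _, regular_mk N (Finset.mem_filter.1 hx).2⟩
      · rw [← lift_mk_regular N hNp hNc (Finset.mem_filter.1 hx).2, h,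
          lift_mk_regular N hNp hNc (Finset.mem_filter.1 hy).2]
      · exact ⟨lift N p q, Finset.mem_filter.2 ⟨Finset.mem_univ _, regular_lift N q⟩,
          mk_lift N (Finset.mem_filter.1 hq).2⟩
      · rw [hθdef, Chars17.infl_apply]
        dsimp only
        rw [lift_mk_regular N hNp hNc (Finset.mem_filter.1 hx).2]
    have h1 : ∀ η' ∈ β, ∑ q ∈ R, (η' : C ⧸ N → ℂ) q * conj ((η : C ⧸ N → ℂ) q) = 0 :=
      fun η' hη' => sum_regular_eq_zero_of_not_sameBlock hM fun h => hηb
        ((IsPBlock.mem_iff hM (isPBlock_quotBlock N hNp hNc hM hb) (mem_members.1 hη') η).2 h)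
    simp only [hw, sub_mul, Finset.sum_sub_distrib, h0, Finset.sum_mul]
    rw [Finset.sum_comm, Finset.sum_eq_zero fun η' hη' => ?_, sub_zero]
    simp only [mul_assoc, ← Finset.mul_sum, h1 η' hη', mul_zero]
  have hnorm : ∑ q ∈ R, w q * conj (w q) = 0 := by
    rw [Finset.sum_congr rfl fun q _ => by
      rw [show conj (w q) = _ from congrArg conj (hwsum q), map_sum, Finset.mul_sum],
      Finset.sum_comm]
    refine Finset.sum_eq_zero fun η hη => ?_
    simp only [map_mul, mul_left_comm (w _), ← Finset.mul_sum, horth η hη, mul_zero]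
  intro x hx
  have h3 := congrArg Complex.re hnorm
  simp only [Complex.re_sum, Complex.mul_conj, Complex.ofReal_re, Complex.zero_re] at h3
  have h4 := Complex.normSq_eq_zero.1
    ((Finset.sum_eq_zero_iff_of_nonneg fun q _ => Complex.normSq_nonneg (w q)).1 h3 (x : C ⧸ N)
      (Finset.mem_filter.2 ⟨Finset.mem_univ _, regular_mk N hx⟩))
  simp only [hw, hθdef, sub_eq_zero, lift_mk_regular N hNp hNc hx] at h4
  exact h4

/-- The rank does not grow. -/
theorem blockRank_le_quot (hM : IsPModular p M) (hb : IsPBlock M b) :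
    blockRank p b ≤ blockRank p (quotBlock N b) := by
  classical
  letI : Fintype (C ⧸ N) := Fintype.ofFinite _
  let Φ : (C ⧸ N → ℂ) →ₗ[ℂ] (C → ℂ) :=
    { toFun := fun F g => if IsPRegular p g then F g else 0
      map_add' := fun a b => funext fun g => by simp only [Pi.add_apply]; split_ifs <;> simp
      map_smul' := fun c a => funext fun g => by simp }
  refine (Submodule.finrank_mono (t := (Submodule.span ℂ ((fun η : IrrCharacter (C ⧸ N) =>
    pRegularPart p (η : C ⧸ N → ℂ)) '' quotBlock N b)).map Φ) ?_).trans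
      (Submodule.finrank_map_le _ _)
  rw [Submodule.span_le]
  rintro _ ⟨ξ, hξ, rfl⟩
  obtain ⟨n, hn⟩ := exists_int_coeff N hNp hNc hM hb hξ
  refine ⟨∑ η ∈ members (quotBlock N b), (n η : ℂ) • pRegularPart p (η : C ⧸ N → ℂ),
    Submodule.sum_mem _ fun η hη => Submodule.smul_mem _ _
      (Submodule.subset_span ⟨η, mem_members.1 hη, rfl⟩), funext fun g => ?_⟩
  show (if IsPRegular p g then _ else _) = _
  by_cases hg : IsPRegular p g
  · simp only [if_pos hg, Finset.sum_apply, Pi.smul_apply, pRegularPart,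
      if_pos (show IsPRegular p (g : C ⧸ N) from regular_mk N hg), smul_eq_mul]
    exact (hn g hg).symm
  · simp only [pRegularPart, if_neg hg]

end CfsgLib.CentralQuot
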