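import Cfsg.Agent.Lib.Characters.Galois
import Mathlib.Data.Nat.ChineseRemainder
import Mathlib.FieldTheory.Finite.Basic

/-!
The exponents `k ≡ 1 (mod g')` prime to `p` below `g = p ^ a * g'`, and sums of powers of a root
of unity over them.
-/

set_option autoImplicit false

namespace CfsgLib.PConj

open Finset

/-- The exponents giving the `p`-conjugates. -/
def expSet (p q n : ℕ) : Finset ℕ := (range n).filter fun k => k % q = 1 % q ∧ ¬ p ∣ k

theorem mem_expSet {p q n k : ℕ} : k ∈ expSet p q n ↔ k < n ∧ k % q = 1 % q ∧ ¬ p ∣ k := by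
  simp [expSet]

theorem coprime_of_mem {p q a k : ℕ} (hp : p.Prime) (hk : k % q = 1 % q) (hpk : ¬ p ∣ k) :
    k.Coprime (p ^ a * q) := by
  refine Nat.Coprime.mul_right (((hp.coprime_iff_not_dvd).2 hpk).symm.pow_right a) ?_
  rw [Nat.Coprime, ← Nat.gcd_comm, Nat.gcd_rec, hk, ← Nat.gcd_rec, Nat.gcd_one_right]

theorem card_residues {p q : ℕ} (hp : p.Prime) (hpq : ¬ p ∣ q) (hq : 0 < q) :
    (expSet p q (p * q)).card = p - 1 := by
  have hcop : p.Coprime q := (hp.coprime_iff_not_dvd).2 hpq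
  rw [show p - 1 = ((range p).erase 0).card by
    rw [card_erase_of_mem (mem_range.2 hp.pos), card_range]]
  refine card_bij (fun k _ => k % p) ?_ ?_ ?_
  · intro k hk
    rw [mem_expSet] at hk
    exact mem_erase.2 ⟨fun h => hk.2.2 (Nat.dvd_of_mod_eq_zero h),
      mem_range.2 (Nat.mod_lt _ hp.pos)⟩
  · intro k hk l hl h
    rw [mem_expSet] at hk hl
    exact Nat.ModEq.eq_of_lt_of_lt
      ((Nat.modEq_and_modEq_iff_modEq_mul hcop).1 ⟨h, hk.2.1.trans hl.2.1.symm⟩) hk.1 hl.1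
  · intro j hj
    rw [mem_erase, mem_range] at hj
    obtain ⟨k, h1, h2⟩ := Nat.chineseRemainder hcop j 1
    have hkp : k % (p * q) % p = j := by
      rw [Nat.mod_mul_right_mod]
      exact Eq.trans h1 (Nat.mod_eq_of_lt hj.2)
    refine ⟨k % (p * q), mem_expSet.2 ⟨Nat.mod_lt _ (Nat.mul_pos hp.pos hq), ?_, fun hd => ?_⟩, hkp⟩
    · rw [Nat.mod_mul_left_mod]
      exact h2
    · rw [Nat.dvd_iff_mod_eq_zero, hkp] at hd
      exact hj.1 hd

/-- Sums of powers of a root of unity over the exponents are divisible by `p ^ b`. -/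
theorem sum_pow {p q b : ℕ} (hp : p.Prime) (hq : 0 < q) (z : ℂ) :
    ∑ k ∈ expSet p q (p ^ (b + 1) * q), z ^ k =
      (∑ i ∈ range (p ^ b), (z ^ (p * q)) ^ i) * ∑ r ∈ expSet p q (p * q), z ^ r := by
  have hm : 0 < p * q := Nat.mul_pos hp.pos hq
  rw [sum_mul_sum, ← sum_product']
  refine sum_nbij' (fun k => (k / (p * q), k % (p * q))) (fun x => x.1 * (p * q) + x.2)
    ?_ ?_ ?_ ?_ ?_
  · intro k hk
    rw [mem_expSet] at hk
    simp only [mem_product, mem_range, mem_expSet]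
    refine ⟨?_, Nat.mod_lt _ hm, ?_, ?_⟩
    · rw [Nat.div_lt_iff_lt_mul hm]
      calc k < p ^ (b + 1) * q := hk.1
        _ = p ^ b * (p * q) := by rw [pow_succ]; ring
    · rw [Nat.mod_mul_left_mod]; exact hk.2.1
    · rw [Nat.dvd_iff_mod_eq_zero, Nat.mod_mul_right_mod, ← Nat.dvd_iff_mod_eq_zero]
      exact hk.2.2
  · intro x hx
    simp only [mem_product, mem_range, mem_expSet] at hx
    obtain ⟨hi, hr, hr1, hr2⟩ := hx
    rw [mem_expSet]
    refine ⟨?_, ?_, ?_⟩
    · calc x.1 * (p * q) + x.2 < x.1 * (p * q) + p * q := by omega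
        _ = (x.1 + 1) * (p * q) := by ring
        _ ≤ p ^ b * (p * q) := Nat.mul_le_mul_right _ hi
        _ = _ := by rw [pow_succ]; ring
    · rw [Nat.add_mod, show x.1 * (p * q) % q = 0 from
        Nat.mod_eq_zero_of_dvd ⟨x.1 * p, by ring⟩, zero_add, Nat.mod_mod]
      exact hr1
    · rw [Nat.dvd_add_right ⟨x.1 * q, by ring⟩]
      exact hr2
  · intro k _
    exact Nat.div_add_mod' k (p * q)
  · intro x hx
    simp only [mem_product, mem_range, mem_expSet] at hx
    refine Prod.ext ?_ ?_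
    · show (x.1 * (p * q) + x.2) / (p * q) = x.1
      rw [add_comm, Nat.add_mul_div_right _ _ hm, Nat.div_eq_of_lt hx.2.1, zero_add]
    · show (x.1 * (p * q) + x.2) % (p * q) = x.2
      rw [add_comm, Nat.add_mul_mod_self_right, Nat.mod_eq_of_lt hx.2.1]
  · intro k _
    rw [← pow_mul, ← pow_add, mul_comm (p * q), Nat.div_add_mod']

theorem card_expSet {p q b : ℕ} (hp : p.Prime) (hpq : ¬ p ∣ q) (hq : 0 < q) :
    (expSet p q (p ^ (b + 1) * q)).card = p ^ b * (p - 1) := by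
  have h := sum_pow (b := b) hp hq 1
  simp only [one_pow, sum_const, card_range, nsmul_eq_mul, mul_one] at h
  rw [card_residues hp hpq hq] at h
  exact_mod_cast h

/-- The divisibility of the power sums. -/
theorem exists_sum_pow_eq {p q b : ℕ} (hp : p.Prime) (hq : 0 < q) {z : ℂ}
    (hz : z ^ (p ^ (b + 1) * q) = 1) :
    ∃ w : ℂ, IsIntegral ℤ w ∧ ∑ k ∈ expSet p q (p ^ (b + 1) * q), z ^ k = (p : ℂ) ^ b * w := by
  have hzi : IsIntegral ℤ z :=
    IsIntegral.of_pow (Nat.mul_pos (pow_pos hp.pos _) hq) (by rw [hz]; exact isIntegral_one)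
  rw [sum_pow hp hq z]
  by_cases h1 : z ^ (p * q) = 1
  · exact ⟨∑ r ∈ expSet p q (p * q), z ^ r, IsIntegral.sum _ fun r _ => hzi.pow r, by simp [h1]⟩
  · refine ⟨0, isIntegral_zero, ?_⟩
    rw [geom_sum_eq h1, ← pow_mul, show p * q * p ^ b = p ^ (b + 1) * q by rw [pow_succ]; ring, hz,
      sub_self, zero_div, zero_mul, mul_zero]

end CfsgLib.PConj
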