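import Cfsg.Agent.Lib.Blk7.DefectOneRelation
import Cfsg.Agent.Lib.Blk7.RootBound
import Cfsg.Agent.Lib.Blk7.RankTrace
import Cfsg.Agent.Lib.Blocks12.Bounds

/-!
# Blocks of defect one: a nonzero combination costs at least the rank

The quadratic form of the contributions of a block of defect one, on integral combinations of
roots of unity, is at least the rank of the block on average over the conjugates.
-/

set_option autoImplicit false
set_option linter.unusedSectionVars false
set_option maxHeartbeats 1000000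

namespace CfsgLib.DefectOne

open Cfsg CfsgLib.Characters CfsgLib.Blocks CfsgLib.Contribution
open scoped ComplexConjugate Classical

universe u

theorem sum_normSq_ge {p : ℕ} (hp : p.Prime) (e : ℕ) {ι : Type*} (s : Finset ι) (w : ι → ℤ)
    (r : ι → ℂ) (hr : ∀ a ∈ s, r a ^ p ^ (e + 1) = 1) (hv : ∑ a ∈ s, (w a : ℂ) * r a ≠ 0) :
    (p : ℝ) ^ e * ((p : ℝ) - 1) ≤
      ∑ j ∈ (Finset.range (p ^ (e + 1))).filter (fun j => ¬ p ∣ j),
        Complex.normSq (∑ a ∈ s, (w a : ℂ) * r a ^ j) := by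
  obtain ⟨N, hN, hsum⟩ := RootBound.sum_conjugates_ge hp e s w r hr hv
  have h : ((∑ j ∈ (Finset.range (p ^ (e + 1))).filter (fun j => ¬ p ∣ j),
        Complex.normSq (∑ a ∈ s, (w a : ℂ) * r a ^ j) : ℝ) : ℂ) = (N : ℂ) := by
    rw [← hsum]
    push_cast
    simp only [Complex.mul_conj]
  have h' : ∑ j ∈ (Finset.range (p ^ (e + 1))).filter (fun j => ¬ p ∣ j),
        Complex.normSq (∑ a ∈ s, (w a : ℂ) * r a ^ j) = (N : ℝ) := by exact_mod_cast h
  rw [h']
  exact_mod_cast hN

theorem dvd_gcd_sq {a c z : ℤ} (h : a * c = z ^ 2) : a ∣ ((Int.gcd a z : ℤ)) ^ 2 := by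
  have h1 : a ∣ (Int.gcd (a ^ 2) (z ^ 2) : ℤ) :=
    Int.dvd_coe_gcd (dvd_pow_self a two_ne_zero) ⟨c, h.symm⟩
  rwa [Int.pow_gcd_pow, Nat.cast_pow] at h1

variable {G : Type u} [Group G] [Fintype G] [Fintype (ConjClasses G)] {p : ℕ} [hp : Fact p.Prime]
  {M : Ideal AlgInt} {B : Set (IrrCharacter G)}

/-- The value of the form of the contributions of `B`. -/
noncomputable def form (p : ℕ) (B : Set (IrrCharacter G)) (v : IrrCharacter G → ℂ) : ℂ :=
  ∑ ξ ∈ members B, ∑ η ∈ members B, (contribInt p B ξ η : ℂ) * (v ξ * conj (v η))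

theorem sum_contrib_mul_apply (hM : IsPModular p M) (hB : IsPBlock M B) {χ : IrrCharacter G}
    (hχ : χ ∈ B) {g : G} (hg : ¬ p ∣ orderOf g) :
    ∑ φ ∈ members B, (contribInt p B χ φ : ℂ) * (φ : G → ℂ) g =
      (p : ℂ) ^ blockDefect p B * (χ : G → ℂ) g := by
  have h := expand hM hB hχ g
  rw [if_pos hg] at h
  rw [h, members]
  exact Finset.sum_congr rfl fun φ hφ => by rw [contribInt_cast hM hB χ (Finset.mem_filter.1 hφ).2]

theorem sum_contrib_mul_contrib (hM : IsPModular p M) (hB : IsPBlock M B) {χ ψ : IrrCharacter G}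
    (hχ : χ ∈ B) (hψ : ψ ∈ B) :
    ∑ φ ∈ members B, contribInt p B χ φ * contribInt p B φ ψ =
      (p : ℤ) ^ blockDefect p B * contribInt p B χ ψ := by
  refine Int.cast_injective (α := ℂ) ?_
  push_cast
  rw [contribInt_cast hM hB χ hψ, contrib, Contribution.regSum]
  simp only [Finset.mul_sum]
  rw [Finset.sum_congr rfl fun φ (_ : φ ∈ members B) => by
    rw [contribInt_cast hM hB φ hψ, contrib, Contribution.regSum, Finset.mul_sum, Finset.mul_sum],
    Finset.sum_comm]
  refine Finset.sum_congr rfl fun x hx => ?_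
  have h := sum_contrib_mul_apply hM hB hχ (Finset.mem_filter.1 hx).2
  rw [Finset.sum_congr rfl fun φ _ => show (contribInt p B χ φ : ℂ) *
      ((p : ℂ) ^ blockDefect p B * (Nat.card G : ℂ)⁻¹ * ((φ : G → ℂ) x * conj ((ψ : G → ℂ) x))) =
      ((p : ℂ) ^ blockDefect p B * (Nat.card G : ℂ)⁻¹ * conj ((ψ : G → ℂ) x)) *
        ((contribInt p B χ φ : ℂ) * (φ : G → ℂ) x) by ring,
    ← Finset.mul_sum, h]
  ring

theorem sum_contrib_diag (hM : IsPModular p M) (hB : IsPBlock M B) :
    ∑ φ ∈ members B, contribInt p B φ φ = (p : ℤ) ^ blockDefect p B * blockRank p B := by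
  refine Int.cast_injective (α := ℂ) ?_
  push_cast
  have hn : (Nat.card G : ℂ) ≠ 0 := Nat.cast_ne_zero.2 Nat.card_pos.ne'
  have h := Blk7.card_mul_blockRank hM hB
  rw [Finset.sum_congr rfl fun φ hφ => by
    rw [contribInt_cast hM hB φ (mem_members.1 hφ), contrib], ← Finset.mul_sum]
  rw [show (blockRank p B : ℂ) = (Nat.card G : ℂ)⁻¹ * ((Nat.card G : ℂ) * blockRank p B) by
    field_simp, h, mul_assoc]
  congr 2
  rw [Finset.sum_comm]
  refine Finset.sum_congr rfl fun φ _ => ?_
  rw [Contribution.regSum, Finset.sum_filter]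
  refine Finset.sum_congr rfl fun x _ => ?_
  by_cases hx : p ∣ orderOf x <;> simp [pRegularPart, IsPRegular, hx]

theorem contribInt_regEq (hM : IsPModular p M) (hB : IsPBlock M B) {ξ ξ' η η' : IrrCharacter G}
    (hη : η ∈ B) (hη' : η' ∈ B)
    (h1 : pRegularPart p (ξ : G → ℂ) = pRegularPart p (ξ' : G → ℂ))
    (h2 : pRegularPart p (η : G → ℂ) = pRegularPart p (η' : G → ℂ)) :
    contribInt p B ξ η = contribInt p B ξ' η' := by
  refine Int.cast_injective (α := ℂ) ?_
  rw [contribInt_cast hM hB ξ hη, contribInt_cast hM hB ξ' hη', contrib, contrib, Contribution.regSum, Contribution.regSum]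
  congr 1
  refine Finset.sum_congr rfl fun x hx => ?_
  have hx' : ¬ p ∣ orderOf x := (Finset.mem_filter.1 hx).2
  have e1 := congrFun h1 x
  have e2 := congrFun h2 x
  simp only [pRegularPart, IsPRegular, hx', not_false_eq_true, if_true] at e1 e2
  rw [e1, e2]

/-- The bound. -/
theorem rank_mul_le_form (hM : IsPModular p M) (hB : IsPBlock M B) (hd : blockDefect p B = 1)
    (e : ℕ) {ι : Type*} (s : Finset ι) (r : ι → ℂ) (hr : ∀ t ∈ s, r t ^ p ^ (e + 1) = 1)
    (w : IrrCharacter G → ι → ℤ)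
    (hne : form p B (fun ξ => ∑ t ∈ s, (w ξ t : ℂ) * r t) ≠ 0) :
    (blockRank p B : ℝ) * ((p : ℝ) ^ e * ((p : ℝ) - 1)) ≤
      ∑ j ∈ (Finset.range (p ^ (e + 1))).filter (fun j => ¬ p ∣ j),
        (form p B (fun ξ => ∑ t ∈ s, (w ξ t : ℂ) * r t ^ j)).re := by
  set restr := fun ξ : IrrCharacter G => pRegularPart p (ξ : G → ℂ) with hrestr
  set I := (members B).image restr
  have hrep : ∀ i : I, ∃ ξ ∈ B, restr ξ = (i : G → ℂ) := fun i => by
    obtain ⟨ξ, hξ, he⟩ := Finset.mem_image.1 i.2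
    exact ⟨ξ, mem_members.1 hξ, he⟩
  choose ρ hρ hρe using hrep
  set o : I → ℕ := fun i => ((members B).filter (fun η => restr η = (i : G → ℂ))).card with ho
  set Z : I → I → ℤ := fun i k => contribInt p B (ρ i) (ρ k) with hZ
  set W : I → I → ℤ := fun i k => (if i = k then (p : ℤ) else 0) - (o k : ℤ) * Z i k with hW
  -- sums over the block are sums over the classes
  have hclass : ∀ {A : Type} [AddCommMonoid A] (f : IrrCharacter G → A),
      ∑ η ∈ members B, f η = ∑ i : I, ∑ η ∈ (members B).filter (fun η => restr η = (i : G → ℂ)), f η := by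
    intro A _ f
    rw [← Finset.sum_fiberwise_of_maps_to (t := I) (g := restr)
      fun η hη => Finset.mem_image_of_mem _ hη, Finset.sum_coe_sort I
        fun i => ∑ η ∈ (members B).filter (fun η => restr η = i), f η]
  have hcls : ∀ (i : I) (η : IrrCharacter G), η ∈ (members B).filter (fun η => restr η = (i : G → ℂ)) →
      η ∈ B ∧ restr η = restr (ρ i) := fun i η hη => by
    obtain ⟨h1, h2⟩ := Finset.mem_filter.1 hη
    exact ⟨mem_members.1 h1, by rw [h2, hρe]⟩
  have hZη : ∀ (i k : I) (ξ η : IrrCharacter G),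
      ξ ∈ (members B).filter (fun η => restr η = (i : G → ℂ)) →
      η ∈ (members B).filter (fun η => restr η = (k : G → ℂ)) → contribInt p B ξ η = Z i k :=
    fun i k ξ η hξ hη => contribInt_regEq hM hB (hcls k η hη).1 (hρ k) (hcls i ξ hξ).2 (hcls k η hη).2
  have ho1 : ∀ i, 1 ≤ o i := fun i => Finset.card_pos.2
    ⟨ρ i, Finset.mem_filter.2 ⟨mem_members.2 (hρ i), hρe i⟩⟩
  have hsymm : ∀ i k, Z i k = Z k i := fun i k => by
    refine Int.cast_injective (α := ℂ) ?_
    rw [hZ]
    simp only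
    rw [contribInt_cast hM hB _ (hρ k), contrib_symm hM hB _ (hρ k), contribInt_cast hM hB _ (hρ i)]
  have hrow : ∀ i k, ∑ l : I, (o l : ℤ) * (Z i l * Z l k) = (p : ℤ) * Z i k := by
    intro i k
    have h := sum_contrib_mul_contrib hM hB (hρ i) (hρ k)
    rw [hd, pow_one, hclass] at h
    rw [← h]
    refine Finset.sum_congr rfl fun l _ => ?_
    rw [Finset.sum_congr rfl fun η hη => by
      rw [contribInt_regEq hM hB (hcls l η hη).1 (hρ l) rfl (hcls l η hη).2,
        contribInt_regEq hM hB (hρ k) (hρ k) (hcls l η hη).2 rfl]]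
    simp [ho, hZ]
  have hdiag : ∑ i : I, (o i : ℤ) * Z i i = (p : ℤ) * blockRank p B := by
    have h := sum_contrib_diag hM hB
    rw [hd, pow_one, hclass] at h
    rw [← h]
    refine Finset.sum_congr rfl fun i _ => ?_
    rw [Finset.sum_congr rfl fun η hη => hZη i i η η hη hη]
    simp [ho]
  have hd2 : blockDefect p B ≤ 2 := by omega
  have hZne : ∀ i k, Z i k ≠ 0 := fun i k => by
    refine contribInt_zero_ne hM hB (hρ i) (fun hdiv => ?_) (hρ k)
    have h1 := exp_eq_of_defect_le_two hM hB hd2 (hρ i)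
    have h2 := (pow_dvd_red (k := 1) hM.1 (hρ i)).1 (by rwa [pow_one])
    omega
  have hppos : (0 : ℤ) < p := by exact_mod_cast hM.1.pos
  have hdiag1 : ∀ i, 1 ≤ Z i i := fun i => by
    have h := hrow i i
    have h2 : 0 ≤ ∑ l : I, (o l : ℤ) * (Z i l * Z l i) := Finset.sum_nonneg fun l _ => by
      rw [hsymm l i]; exact mul_nonneg (Nat.cast_nonneg _) (mul_self_nonneg _)
    rw [h] at h2
    have := nonneg_of_mul_nonneg_right (by linarith : 0 ≤ (p : ℤ) * Z i i) hppos
    have := hZne i i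
    omega
  -- the combinations on the classes
  set X : I → ℕ → ℂ := fun i j =>
    ∑ t ∈ s, ((∑ η ∈ (members B).filter (fun η => restr η = (i : G → ℂ)), w η t : ℤ) : ℂ) * r t ^ j
    with hX
  have hform : ∀ j, form p B (fun ξ => ∑ t ∈ s, (w ξ t : ℂ) * r t ^ j) =
      ∑ i : I, ∑ k : I, (Z i k : ℂ) * (X i j * conj (X k j)) := by
    intro j
    have hXe : ∀ i, X i j = ∑ η ∈ (members B).filter (fun η => restr η = (i : G → ℂ)),
        ∑ t ∈ s, (w η t : ℂ) * r t ^ j := fun i => by
      simp only [hX, Int.cast_sum, Finset.sum_mul]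
      exact Finset.sum_comm
    rw [form, hclass]
    refine Finset.sum_congr rfl fun i _ => ?_
    rw [Finset.sum_congr rfl fun ξ _ => hclass _, Finset.sum_comm]
    refine Finset.sum_congr rfl fun k _ => ?_
    rw [hXe, hXe, map_sum, Finset.sum_mul_sum, Finset.mul_sum]
    refine Finset.sum_congr rfl fun ξ hξ => ?_
    rw [Finset.mul_sum]
    exact Finset.sum_congr rfl fun η hη => by rw [hZη i k ξ η hξ hη]
  have hne1 : ∑ i : I, ∑ k : I, (Z i k : ℂ) * (X i 1 * conj (X k 1)) ≠ 0 := by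
    rw [← hform 1]; simpa using hne
  have hr' : ∀ t ∈ s, r t ^ p ^ (e + 1) = 1 := hr
  simp only [hform]
  set J := (Finset.range (p ^ (e + 1))).filter (fun j => ¬ p ∣ j)
  set φ : ℝ := (p : ℝ) ^ e * ((p : ℝ) - 1)
  have hφ : 0 ≤ φ := mul_nonneg (by positivity) (by
    have : (1 : ℝ) ≤ p := by exact_mod_cast hM.1.one_le
    linarith)
  rcases subsingleton_or_nontrivial I with hsub | hnt
  · -- a single class
    obtain ⟨ξ, hξ⟩ := IsPBlock.nonempty hM hB
    set i₀ : I := ⟨restr ξ, Finset.mem_image_of_mem _ (mem_members.2 hξ)⟩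
    have hu : (Finset.univ : Finset I) = {i₀} := by ext i; simp [Subsingleton.elim i i₀]
    have hl : blockRank p B = 1 := by
      have h1 := hrow i₀ i₀
      have h2 := hdiag
      rw [hu, Finset.sum_singleton] at h1 h2
      have h4 : (p : ℤ) * (blockRank p B : ℤ) * Z i₀ i₀ = (p : ℤ) * 1 * Z i₀ i₀ := by
        rw [← h2]; linarith
      have h5 := mul_right_cancel₀ (hZne i₀ i₀) h4
      exact_mod_cast mul_left_cancel₀ hppos.ne' h5
    simp only [hu, Finset.sum_singleton] at hne1 ⊢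
    rw [hl, Nat.cast_one, one_mul]
    have hre : ∀ j, ((Z i₀ i₀ : ℂ) * (X i₀ j * conj (X i₀ j))).re =
        (Z i₀ i₀ : ℝ) * Complex.normSq (X i₀ j) := fun j => by
      rw [Complex.mul_conj]; simp [Complex.mul_re]
    simp only [hre, ← Finset.mul_sum]
    have hb := sum_normSq_ge hM.1 e s
      (fun t => ∑ η ∈ (members B).filter (fun η => restr η = (i₀ : G → ℂ)), w η t) r hr'
      (fun h0 => hne1 (by
        rw [show X i₀ 1 = 0 by simpa [hX] using h0, zero_mul, mul_zero]))
    have hz : (1 : ℝ) ≤ (Z i₀ i₀ : ℝ) := by exact_mod_cast hdiag1 i₀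
    calc φ ≤ 1 * ∑ j ∈ J, Complex.normSq (X i₀ j) := by rw [one_mul]; exact hb
      _ ≤ _ := mul_le_mul_of_nonneg_right hz (Finset.sum_nonneg fun j _ => Complex.normSq_nonneg _)
  -- several classes: the relation matrix has rank one
  have hWsum : ∀ k, ∀ g : G, ¬ p ∣ orderOf g →
      comb B (fun η => if hη : restr η ∈ I then (W ⟨restr η, hη⟩ k : ℂ) else 0) g = 0 := by
    intro k g hg
    rw [comb_apply, show Finset.univ.filter (· ∈ B) = members B from rfl, hclass]
    have hval : ∀ i : I, ∀ η ∈ (members B).filter (fun η => restr η = (i : G → ℂ)),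
        (η : G → ℂ) g = (ρ i : G → ℂ) g := fun i η hη => by
      have := congrFun (hcls i η hη).2 g
      simpa [hrestr, pRegularPart, IsPRegular, hg] using this
    have hWη : ∀ i : I, ∀ η ∈ (members B).filter (fun η => restr η = (i : G → ℂ)),
        (if hη : restr η ∈ I then (W ⟨restr η, hη⟩ k : ℂ) else 0) = (W i k : ℂ) := fun i η hη => by
      have he : restr η = (i : G → ℂ) := (Finset.mem_filter.1 hη).2
      rw [dif_pos (he ▸ i.2), show (⟨restr η, he ▸ i.2⟩ : I) = i from Subtype.ext he]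
    rw [Finset.sum_congr rfl fun i _ => Finset.sum_congr rfl fun η hη => by
      rw [hWη i η hη, hval i η hη]]
    simp only [Finset.sum_const, nsmul_eq_mul, hW]
    have hexp := sum_contrib_mul_apply hM hB (hρ k) hg
    rw [hd, pow_one, hclass] at hexp
    have hexp' : ∑ i : I, (o i : ℂ) * ((Z i k : ℂ) * (ρ i : G → ℂ) g) =
        (p : ℂ) * (ρ k : G → ℂ) g := by
      rw [← hexp]
      refine Finset.sum_congr rfl fun i _ => ?_
      rw [Finset.sum_congr rfl fun η hη => by
        rw [hval i η hη, contribInt_regEq hM hB (hcls i η hη).1 (hρ i) rfl (hcls i η hη).2,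
          show contribInt p B (ρ k) (ρ i) = Z i k from hsymm k i]]
      simp [ho]
    push_cast
    simp only [ite_mul, zero_mul, sub_mul, mul_sub, Finset.sum_sub_distrib, mul_ite, mul_zero,
      Finset.sum_ite_eq', Finset.mem_univ, if_true, apply_ite (fun z : ℤ => (z : ℂ)), Int.cast_natCast,
      Int.cast_zero]
    rw [sub_eq_zero]
    rw [show (o k : ℂ) * ((p : ℂ) * (ρ k : G → ℂ) g) = (o k : ℂ) * ∑ i : I,
      (o i : ℂ) * ((Z i k : ℂ) * (ρ i : G → ℂ) g) by rw [hexp'], Finset.mul_sum]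
    exact Finset.sum_congr rfl fun i _ => by ring
  have hconst : ∀ k, ∀ ξ ∈ B, ∀ η ∈ B, RegEq p ξ η →
      (if hη : restr ξ ∈ I then (W ⟨restr ξ, hη⟩ k : ℂ) else 0) =
        (if hη : restr η ∈ I then (W ⟨restr η, hη⟩ k : ℂ) else 0) := by
    intro k ξ _ η _ h
    have he : restr ξ = restr η := funext fun g => by
      by_cases hg : p ∣ orderOf g
      · simp [hrestr, pRegularPart, IsPRegular, hg]
      · simp [hrestr, pRegularPart, IsPRegular, hg, h g hg]
    simp only [he]
  have hminor : ∀ i j k l : I, W i j * W k l = W k j * W i l := by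
    intro i j k l
    have h := proportional hM hB hd (hconst j) (hconst l) (hWsum j) (hWsum l) (ρ i) (hρ i) (ρ k) (hρ k)
    have hm : ∀ i : I, restr (ρ i) ∈ I := fun i => hρe i ▸ i.2
    simp only [dif_pos (hm _)] at h
    have hs : ∀ i : I, (⟨restr (ρ i), hm i⟩ : I) = i := fun i => Subtype.ext (hρe i)
    simp only [hs] at h
    exact_mod_cast h
  set E : I → ℤ := fun i => W i i with hE
  have hEdef : ∀ i, E i = (p : ℤ) - (o i : ℤ) * Z i i := fun i => by simp [hE, hW]
  have hWne : ∀ i k, i ≠ k → W i k = -((o k : ℤ) * Z i k) := fun i k h => by simp [hW, h]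
  have hEpos : ∀ i, 0 < E i := by
    intro i
    obtain ⟨k, hk⟩ := exists_ne i
    have h := hrow i i
    rw [← Finset.add_sum_erase _ _ (Finset.mem_univ i)] at h
    have h2 : 0 < ∑ l ∈ Finset.univ.erase i, (o l : ℤ) * (Z i l * Z l i) := by
      refine Finset.sum_pos' (fun l _ => by
        rw [hsymm l i]; exact mul_nonneg (Nat.cast_nonneg _) (mul_self_nonneg _))
        ⟨k, Finset.mem_erase.2 ⟨hk, Finset.mem_univ _⟩, ?_⟩
      rw [hsymm k i]
      exact mul_pos (by exact_mod_cast ho1 k) (mul_self_pos.2 (hZne i k))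
    rw [hEdef]
    have h1 := hdiag1 i
    nlinarith
  have hprod : ∀ i k, i ≠ k → E i * E k = (o i : ℤ) * (o k : ℤ) * Z i k ^ 2 := by
    intro i k h
    rw [hE]
    simp only
    rw [hminor i i k k, hWne k i h.symm, hWne i k h, hsymm k i]
    ring
  have hdvd : ∀ i k, i ≠ k → (o k : ℤ) ∣ E i := by
    intro i k h
    have hlt : o k < p := by
      have h1 := hEpos k
      rw [hEdef] at h1
      have h2 : (o k : ℤ) ≤ (o k : ℤ) * Z k k := le_mul_of_one_le_right (Nat.cast_nonneg _) (hdiag1 k)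
      exact_mod_cast (by linarith : (o k : ℤ) < p)
    have hcop : IsCoprime (o k : ℤ) (E k) := by
      have h1 : IsCoprime (o k : ℤ) (p : ℤ) := Int.isCoprime_iff_nat_coprime.2 (by
        simpa using ((hM.1.coprime_iff_not_dvd.2
          (Nat.not_dvd_of_pos_of_lt (ho1 k) hlt)).symm))
      have h2 := h1.add_mul_left_right (-(Z k k))
      rwa [show (p : ℤ) + (o k : ℤ) * -(Z k k) = E k by rw [hEdef]; ring] at h2
    refine hcop.dvd_of_dvd_mul_right ⟨(o i : ℤ) * Z i k ^ 2, ?_⟩
    rw [hprod i k h]; ring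
  have hEsum : ∑ i : I, E i = (p : ℤ) := by
    obtain ⟨i⟩ : Nonempty I := inferInstance
    refine mul_left_cancel₀ (hEpos i).ne' ?_
    rw [Finset.mul_sum, Finset.sum_congr rfl fun k _ => show E i * E k = W k i * W i k from hminor i i k k]
    simp only [hW, sub_mul, mul_sub, ite_mul, mul_ite, zero_mul, mul_zero, Finset.sum_sub_distrib,
      Finset.sum_ite_eq, Finset.sum_ite_eq', Finset.mem_univ, if_true]
    rw [Finset.sum_congr rfl fun k _ => show (o i : ℤ) * Z k i * ((o k : ℤ) * Z i k) =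
      (o i : ℤ) * ((o k : ℤ) * (Z i k * Z k i)) by ring, ← Finset.mul_sum, hrow, hEdef]
    ring
  have hl : (blockRank p B : ℤ) = (Fintype.card I : ℤ) - 1 := by
    refine mul_left_cancel₀ hppos.ne' ?_
    rw [← hdiag, mul_sub, mul_one]
    conv_rhs => arg 2; rw [← hEsum]
    simp only [hEdef, Finset.sum_sub_distrib, Finset.sum_const, Finset.card_univ, nsmul_eq_mul]
    ring
  -- the pair terms
  choose! a ha using hdvd
  have ha' : ∀ i k, i ≠ k → a i k * a k i = Z i k ^ 2 := fun i k h => by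
    have h1 := hprod i k h
    rw [ha i k h, ha k i h.symm] at h1
    refine mul_left_cancel₀ (mul_ne_zero (show (o i : ℤ) ≠ 0 by exact_mod_cast (Nat.one_le_iff_ne_zero.1 (ho1 i)))
      (show (o k : ℤ) ≠ 0 by exact_mod_cast (Nat.one_le_iff_ne_zero.1 (ho1 k)))) ?_
    linarith
  have hapos : ∀ i k, i ≠ k → 0 < a i k := fun i k h => by
    have h1 := hEpos i
    rw [ha i k h] at h1
    exact (mul_pos_iff_of_pos_left (by exact_mod_cast ho1 k)).1 h1
  set T : I → I → ℕ → ℝ := fun i k j => (a i k : ℝ) * Complex.normSq (X k j) +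
    (a k i : ℝ) * Complex.normSq (X i j) + 2 * ((Z i k : ℂ) * (X i j * conj (X k j))).re with hT
  have hTmul : ∀ i k j, i ≠ k → (a i k : ℝ) * T i k j =
      Complex.normSq ((a i k : ℂ) * X k j + (Z i k : ℂ) * X i j) := by
    intro i k j h
    have h2 : (a i k : ℝ) * (a k i : ℝ) = (Z i k : ℝ) ^ 2 := by exact_mod_cast ha' i k h
    simp only [hT, Complex.normSq_apply, Complex.mul_re, Complex.mul_im, Complex.add_re,
      Complex.add_im, Complex.conj_re, Complex.conj_im, Complex.intCast_re, Complex.intCast_im]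
    linear_combination (X i j).re * (X i j).re * h2 + (X i j).im * (X i j).im * h2
  have hTnn : ∀ i k, i ≠ k → ∀ j, 0 ≤ T i k j := fun i k h j => by
    refine nonneg_of_mul_nonneg_right ?_ (by exact_mod_cast hapos i k h : (0 : ℝ) < a i k)
    rw [hTmul i k j h]
    exact Complex.normSq_nonneg _
  have hsplit : ∀ j, 2 * (∑ i : I, ∑ k : I, (Z i k : ℂ) * (X i j * conj (X k j))).re =
      ∑ i : I, ∑ k ∈ Finset.univ.erase i, T i k j := by
    intro j
    have hA : ∑ i : I, ∑ k ∈ Finset.univ.erase i, (a i k : ℝ) * Complex.normSq (X k j) =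
        ∑ k : I, (Z k k : ℝ) * Complex.normSq (X k j) := by
      rw [Finset.sum_comm' (t' := Finset.univ) (s' := fun k => Finset.univ.erase k)
        (fun i k => by simp [ne_comm])]
      refine Finset.sum_congr rfl fun k _ => ?_
      rw [← Finset.sum_mul]
      congr 1
      have h1 : ∑ i ∈ Finset.univ.erase k, a i k = Z k k := by
        refine mul_left_cancel₀ (show (o k : ℤ) ≠ 0 by exact_mod_cast (Nat.one_le_iff_ne_zero.1 (ho1 k))) ?_
        rw [Finset.mul_sum, Finset.sum_congr rfl fun i hi => (ha i k (Finset.mem_erase.1 hi).1).symm,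
          Finset.sum_erase_eq_sub (Finset.mem_univ k), hEsum]
        linear_combination -hEdef k
      rw [← h1]; push_cast; rfl
    have hA' : ∑ i : I, ∑ k ∈ Finset.univ.erase i, (a k i : ℝ) * Complex.normSq (X i j) =
        ∑ k : I, (Z k k : ℝ) * Complex.normSq (X k j) := by
      rw [← hA, Finset.sum_comm' (t' := Finset.univ) (s' := fun k => Finset.univ.erase k)
        (fun i k => by simp [ne_comm])]
    simp only [hT, Finset.sum_add_distrib, hA, hA', ← Finset.mul_sum, Complex.re_sum]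
    rw [Finset.sum_congr rfl fun i _ => (Finset.add_sum_erase _ _ (Finset.mem_univ i)).symm,
      Finset.sum_add_distrib, Finset.sum_congr rfl fun i _ => show
        ((Z i i : ℂ) * (X i j * conj (X i j))).re = (Z i i : ℝ) * Complex.normSq (X i j) by
          rw [Complex.mul_conj]; simp [Complex.mul_re]]
    ring
  -- the classes on which the combinations are proportional
  set R : I → I → Prop := fun i k => (W i i : ℂ) * X k 1 = (W i k : ℂ) * X i 1 with hR
  have hminorC : ∀ i j k l : I, (W i j : ℂ) * (W k l : ℂ) = (W k j : ℂ) * (W i l : ℂ) :=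
    fun i j k l => by exact_mod_cast hminor i j k l
  have hEne : ∀ i, (W i i : ℂ) ≠ 0 := fun i => by exact_mod_cast (hEpos i).ne'
  have hRsymm : ∀ i k, R i k → R k i := fun i k h => by
    refine mul_left_cancel₀ (hEne i) ?_
    simp only [hR] at h
    calc (W i i : ℂ) * ((W k k : ℂ) * X i 1) = (W i i : ℂ) * (W k k : ℂ) * X i 1 := by ring
      _ = (W k i : ℂ) * ((W i k : ℂ) * X i 1) := by rw [hminorC i i k k]; ring
      _ = _ := by rw [← h]; ring
  have hRtrans : ∀ i k l, R i k → R k l → R i l := fun i k l h h' => by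
    refine mul_left_cancel₀ (hEne k) ?_
    simp only [hR] at h h'
    calc (W k k : ℂ) * ((W i i : ℂ) * X l 1) = (W i i : ℂ) * ((W k k : ℂ) * X l 1) := by ring
      _ = (W k l : ℂ) * ((W i i : ℂ) * X k 1) := by rw [h']; ring
      _ = (W k l : ℂ) * (W i k : ℂ) * X i 1 := by rw [h]; ring
      _ = _ := by rw [mul_comm (W k l : ℂ), hminorC i k k l]; ring
  have hTlow : ∀ i k, ¬ R i k → φ ≤ ∑ j ∈ J, T i k j := by
    intro i k hnR
    have h : i ≠ k := fun h => hnR (by subst h; rfl)
    set d : ℤ := (Int.gcd (a i k) (Z i k) : ℤ) with hdd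
    obtain ⟨A', hA'⟩ := Int.gcd_dvd_left (a i k) (Z i k)
    obtain ⟨B', hB'⟩ := Int.gcd_dvd_right (a i k) (Z i k)
    rw [← hdd] at hA' hB'
    have hd0 : d ≠ 0 := fun h0 => (hapos i k h).ne' (by rw [hA', h0, zero_mul])
    have hle : (a i k : ℝ) ≤ (d : ℝ) ^ 2 := by
      exact_mod_cast Int.le_of_dvd (by positivity) (dvd_gcd_sq (ha' i k h))
    set v : ι → ℤ := fun t => A' * (∑ η ∈ (members B).filter (fun η => restr η = (k : G → ℂ)), w η t)
      + B' * (∑ η ∈ (members B).filter (fun η => restr η = (i : G → ℂ)), w η t) with hv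
    have hcomb : ∀ j, (a i k : ℂ) * X k j + (Z i k : ℂ) * X i j =
        (d : ℂ) * ∑ t ∈ s, (v t : ℂ) * r t ^ j := fun j => by
      rw [show (a i k : ℂ) = (d : ℂ) * (A' : ℂ) by exact_mod_cast hA',
        show (Z i k : ℂ) = (d : ℂ) * (B' : ℂ) by exact_mod_cast hB']
      simp only [hX]
      rw [Finset.mul_sum, Finset.mul_sum, Finset.mul_sum, ← Finset.sum_add_distrib]
      exact Finset.sum_congr rfl fun t _ => by simp only [hv, Int.cast_add, Int.cast_mul]; ring
    have hvne : ∑ t ∈ s, (v t : ℂ) * r t ≠ 0 := fun h0 => hnR (by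
      have h1 := hcomb 1
      simp only [pow_one, h0, mul_zero] at h1
      have h2 : (W i i : ℂ) = (o k : ℂ) * (a i k : ℂ) := by exact_mod_cast ha i k h
      show (W i i : ℂ) * X k 1 = (W i k : ℂ) * X i 1
      rw [h2, hWne i k h]
      push_cast
      linear_combination (o k : ℂ) * h1)
    have hb := sum_normSq_ge hM.1 e s v r hr' hvne
    have hsum : (a i k : ℝ) * ∑ j ∈ J, T i k j =
        (d : ℝ) ^ 2 * ∑ j ∈ J, Complex.normSq (∑ t ∈ s, (v t : ℂ) * r t ^ j) := by
      rw [Finset.mul_sum, Finset.mul_sum]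
      refine Finset.sum_congr rfl fun j _ => ?_
      rw [hTmul i k j h, hcomb j, Complex.normSq_mul, Complex.normSq_intCast]
      ring
    refine le_of_mul_le_mul_left ?_ (by exact_mod_cast hapos i k h : (0 : ℝ) < a i k)
    rw [hsum]
    calc (a i k : ℝ) * φ ≤ (d : ℝ) ^ 2 * φ := mul_le_mul_of_nonneg_right hle hφ
      _ ≤ _ := mul_le_mul_of_nonneg_left hb (sq_nonneg _)
  obtain ⟨i₁, k₁, hik⟩ : ∃ i k, ¬ R i k := by
    by_contra hall
    push Not at hall
    apply hne1
    rw [Finset.sum_comm]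
    refine Finset.sum_eq_zero fun k _ => ?_
    obtain ⟨i₀⟩ : Nonempty I := inferInstance
    refine (mul_eq_zero.1 (?_ : (W i₀ i₀ : ℂ) * ∑ i : I, (Z i k : ℂ) * (X i 1 * conj (X k 1)) = 0)).resolve_left (hEne i₀)
    rw [Finset.mul_sum, Finset.sum_congr rfl fun i _ => show
        (W i₀ i₀ : ℂ) * ((Z i k : ℂ) * (X i 1 * conj (X k 1))) =
          ((Z i k : ℂ) * (W i₀ i : ℂ)) * (X i₀ 1 * conj (X k 1)) by
      linear_combination (Z i k : ℂ) * conj (X k 1) * hall i₀ i,
      ← Finset.sum_mul]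
    have h0 : ∑ i : I, Z i k * W i₀ i = 0 := by
      simp only [hW, mul_sub, mul_ite, mul_zero, Finset.sum_sub_distrib, Finset.sum_ite_eq,
        Finset.mem_univ, if_true]
      rw [Finset.sum_congr rfl fun i _ => show Z i k * ((o i : ℤ) * Z i₀ i) =
        (o i : ℤ) * (Z i₀ i * Z i k) by ring, hrow]
      ring
    rw [show ∑ i : I, (Z i k : ℂ) * (W i₀ i : ℂ) = 0 by exact_mod_cast h0, zero_mul]
  -- counting
  set P := Finset.univ.filter (fun q : I × I => ¬ R q.1 q.2) with hP
  have hcount : 2 * (Fintype.card I - 1) ≤ P.card := by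
    set S := Finset.univ.filter (fun l => R i₁ l) with hS
    set S' := Finset.univ.filter (fun l => ¬ R i₁ l) with hS'
    have h1 : S ×ˢ S' ∪ S' ×ˢ S ⊆ P := by
      intro q hq
      simp only [hS, hS', Finset.mem_union, Finset.mem_product, Finset.mem_filter,
        Finset.mem_univ, true_and] at hq
      refine Finset.mem_filter.2 ⟨Finset.mem_univ _, fun h => ?_⟩
      rcases hq with ⟨ha, hb⟩ | ⟨ha, hb⟩
      · exact hb (hRtrans _ _ _ ha h)
      · exact ha (hRtrans _ _ _ hb (hRsymm _ _ h))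
    have h2 : Disjoint (S ×ˢ S') (S' ×ˢ S) := by
      rw [Finset.disjoint_left]
      intro q hq hq'
      exact (Finset.mem_filter.1 (Finset.mem_product.1 hq').1).2
        (Finset.mem_filter.1 (Finset.mem_product.1 hq).1).2
    have h3 := Finset.card_le_card h1
    rw [Finset.card_union_of_disjoint h2, Finset.card_product, Finset.card_product] at h3
    have h4 : S.card + S'.card = Fintype.card I := by
      rw [hS, hS', Finset.card_filter_add_card_filter_not]; rfl
    have h5 : 1 ≤ S.card := Finset.card_pos.2 ⟨i₁, Finset.mem_filter.2 ⟨Finset.mem_univ _, rfl⟩⟩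
    have h6 : 1 ≤ S'.card := Finset.card_pos.2 ⟨k₁, Finset.mem_filter.2 ⟨Finset.mem_univ _, hik⟩⟩
    obtain ⟨x, hx⟩ := Nat.exists_eq_add_of_le h5
    obtain ⟨y, hy⟩ := Nat.exists_eq_add_of_le h6
    rw [hx, hy] at h3 h4
    rw [← h4, show 1 + x + (1 + y) - 1 = 1 + x + y by omega]
    refine le_trans ?_ h3
    nlinarith [Nat.zero_le (x * y)]
  have hlow : (P.card : ℝ) * φ ≤ ∑ j ∈ J, ∑ i : I, ∑ k ∈ Finset.univ.erase i, T i k j := by
    have h1 : (P.card : ℝ) * φ ≤ ∑ q ∈ P, ∑ j ∈ J, T q.1 q.2 j := by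
      rw [← nsmul_eq_mul, ← Finset.sum_const]
      exact Finset.sum_le_sum fun q hq => hTlow q.1 q.2 (Finset.mem_filter.1 hq).2
    have h2 : ∑ q ∈ P, ∑ j ∈ J, T q.1 q.2 j ≤
        ∑ q ∈ (Finset.univ : Finset I).offDiag, ∑ j ∈ J, T q.1 q.2 j := by
      refine Finset.sum_le_sum_of_subset_of_nonneg (fun q hq => ?_) fun q hq _ =>
        Finset.sum_nonneg fun j _ => hTnn _ _ (Finset.mem_offDiag.1 hq).2.2 j
      refine Finset.mem_offDiag.2 ⟨Finset.mem_univ _, Finset.mem_univ _, fun h => ?_⟩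
      exact (Finset.mem_filter.1 hq).2 (by rw [h])
    refine (h1.trans h2).trans_eq ?_
    rw [Finset.sum_comm]
    refine Finset.sum_congr rfl fun j _ => ?_
    exact Finset.sum_finset_product' _ _ _ (fun q => by simp [ne_comm]) (f := fun i k => T i k j)
  have hlR : (blockRank p B : ℝ) = ((Fintype.card I - 1 : ℕ) : ℝ) := by
    have : blockRank p B = Fintype.card I - 1 := by omega
    rw [this]
  refine le_of_mul_le_mul_left ?_ (two_pos : (0 : ℝ) < 2)
  rw [Finset.mul_sum, Finset.sum_congr rfl fun j _ => hsplit j, hlR]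
  refine le_trans ?_ hlow
  rw [← mul_assoc]
  exact mul_le_mul_of_nonneg_right (by exact_mod_cast hcount) hφ

end CfsgLib.DefectOne
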