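import Cfsg.Agent.Lib.BrauerPairs.Local
import Cfsg.Agent.Lib.BrauerPairs.Induced
import Cfsg.Agent.Lib.Blocks.DefectInduced
import Cfsg.Agent.Lib.Blocks.SectionNorm
import Cfsg.Agent.Lib.BlockCover.CentralDefectMembers
import Cfsg.Agent.Lib.Blk7.PConjugate

/-!
# Blocks of defect one: the relations among the `p`-regular restrictions form a line

A linear relation among the restrictions of the members of a block of defect one to the
`p`-regular elements, with coefficients depending only on the restriction, is a combination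
vanishing on the regular elements and invariant under the Galois action on the singular ones;
it is determined by one number, its part in a block of the centraliser of a defect group.
-/

set_option autoImplicit false
set_option linter.unusedSectionVars false

namespace CfsgLib.DefectOne

open Cfsg CfsgLib.Characters CfsgLib.Blocks CfsgLib.BrauerPairs
open scoped ComplexConjugate Classical

universe u

variable {G : Type u} [Group G] [Fintype G] {p : ℕ} [hp : Fact p.Prime] {M : Ideal AlgInt}

/-- The two characters agree on the `p`-regular elements. -/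
def RegEq (p : ℕ) (ξ η : IrrCharacter G) : Prop :=
  ∀ g : G, ¬ p ∣ orderOf g → (ξ : G → ℂ) g = (η : G → ℂ) g

/-- A combination of the members of `B` with coefficients `x`. -/
noncomputable def comb (B : Set (IrrCharacter G)) (x : IrrCharacter G → ℂ) : G → ℂ :=
  ∑ ξ ∈ Finset.univ.filter (· ∈ B), x ξ • (ξ : G → ℂ)

theorem comb_apply (B : Set (IrrCharacter G)) (x : IrrCharacter G → ℂ) (g : G) :
    comb B x g = ∑ ξ ∈ Finset.univ.filter (· ∈ B), x ξ * (ξ : G → ℂ) g := by
  simp [comb, Finset.sum_apply]

theorem isClassFunction_comb (B : Set (IrrCharacter G)) (x : IrrCharacter G → ℂ) :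
    IsClassFunction G (comb B x) :=
  isClassFunction_sum _ fun ξ _ => isClassFunction_smul (irr_isClassFunction ξ) _

theorem mem_of_regEq (hM : IsPModular p M) {B : Set (IrrCharacter G)} (hB : IsPBlock M B)
    {ξ η : IrrCharacter G} (hξ : ξ ∈ B) (h : RegEq p ξ η) : η ∈ B := by
  by_contra hη
  have h1 := sum_regular_eq_zero_of_not_sameBlock hM (χ := ξ) (ψ := η) fun hs =>
    hη ((IsPBlock.mem_iff hM hB hξ η).2 hs)
  have h2 : ∀ g : G, ¬ p ∣ orderOf g → (η : G → ℂ) g = 0 := by
    intro g hg
    have h3 : ∑ y ∈ Finset.univ.filter (fun y : G => ¬ p ∣ orderOf y),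
        Complex.normSq ((η : G → ℂ) y) = 0 := by
      refine Complex.ofReal_injective ?_
      push_cast
      rw [← h1]
      refine Finset.sum_congr rfl fun y hy => ?_
      rw [h y (Finset.mem_filter.1 hy).2, Complex.mul_conj]
    exact Complex.normSq_eq_zero.1 ((Finset.sum_eq_zero_iff_of_nonneg fun y _ =>
      Complex.normSq_nonneg _).1 h3 g (Finset.mem_filter.2 ⟨Finset.mem_univ _, hg⟩))
  exact irr_one_ne_zero η (h2 1 (by rw [orderOf_one]; exact hM.1.not_dvd_one))

/-- The values on a section are unchanged by powers of the `p`-part. -/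
theorem comb_pow_eq (hM : IsPModular p M) {B : Set (IrrCharacter G)} (hB : IsPBlock M B)
    {x : IrrCharacter G → ℂ} (hx : ∀ ξ ∈ B, ∀ η ∈ B, RegEq p ξ η → x ξ = x η) {u : G}
    (hu : ∃ k, orderOf u = p ^ k) {j : ℕ} (hj : ¬ p ∣ j) {s : G} (hs : Commute u s)
    (hsp : ¬ p ∣ orderOf s) : comb B x (u ^ j * s) = comb B x (u * s) := by
  set a := (Nat.card G).factorization p
  set q := Nat.card G / p ^ a
  have hpq : ¬ p ∣ q := Nat.not_dvd_ordCompl hM.1 Nat.card_pos.ne'
  have hcard : Nat.card G = p ^ a * q := (Nat.ordProj_mul_ordCompl_eq_self _ p).symm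
  have hco : (p ^ a).Coprime q := Nat.Coprime.pow_left _ (hM.1.coprime_iff_not_dvd.2 hpq)
  obtain ⟨k, hk1, hk2⟩ := Nat.chineseRemainder hco j 1
  have hcop : k.Coprime (Nat.card G) := by
    rw [hcard]
    refine Nat.Coprime.mul_right ?_ ?_
    · rcases Nat.eq_zero_or_pos a with ha | ha
      · simp [ha]
      · refine Nat.Coprime.pow_right _ (hM.1.coprime_iff_not_dvd.2 fun h => hj ?_).symm
        exact (Nat.ModEq.dvd_iff (hk1.of_dvd (dvd_pow_self p ha.ne')) dvd_rfl).1 h
    · exact (Nat.ModEq.gcd_eq hk2).trans (Nat.gcd_one_left q)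
  choose ψ hψc hψ using fun ξ : IrrCharacter G => PConj.conj_twist (p := p) ξ hcop hk2
  have hreg : ∀ ξ, RegEq p ξ (ψ ξ) := by
    intro ξ g hg
    rw [hψ, PConj.twist]
    have hd : orderOf g ∣ q := (Nat.Coprime.pow_right a
      (hM.1.coprime_iff_not_dvd.2 hg).symm).dvd_of_dvd_mul_left (hcard ▸ orderOf_dvd_natCard g)
    conv_lhs => rw [← pow_one g]
    exact congrArg _ (pow_eq_pow_iff_modEq.2 (hk2.of_dvd hd).symm)
  have hinj : Function.Injective ψ := by
    intro ξ η h
    refine Subtype.ext (funext fun g => ?_)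
    obtain ⟨m, hm⟩ := exists_pow_eq_self_of_coprime (x := g)
      (hcop.coprime_dvd_right (orderOf_dvd_natCard g))
    have h1 := congrFun (congrArg Subtype.val h) (g ^ m)
    rw [hψ, hψ, PConj.twist, PConj.twist, ← pow_mul, mul_comm, pow_mul, hm] at h1
    exact h1
  set S := Finset.univ.filter (fun ξ : IrrCharacter G => ξ ∈ B)
  have hmaps : ∀ ξ ∈ S, ψ ξ ∈ S := fun ξ hξ => Finset.mem_filter.2
    ⟨Finset.mem_univ _, mem_of_regEq hM hB (Finset.mem_filter.1 hξ).2 (hreg ξ)⟩
  have himg : S.image ψ = S := Finset.eq_of_subset_of_card_le (Finset.image_subset_iff.2 hmaps)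
    (Finset.card_image_of_injective _ hinj).ge
  have hus : (u * s) ^ k = u ^ j * s := by
    rw [hs.mul_pow]
    congr 1
    · obtain ⟨e, he⟩ := hu
      refine pow_eq_pow_iff_modEq.2 (hk1.of_dvd ?_)
      rw [he]
      refine pow_dvd_pow p ?_
      have := orderOf_dvd_natCard u
      rw [he] at this
      exact (hM.1.pow_dvd_iff_le_factorization Nat.card_pos.ne').1 this
    · have hd : orderOf s ∣ q := (Nat.Coprime.pow_right a
        (hM.1.coprime_iff_not_dvd.2 hsp).symm).dvd_of_dvd_mul_left (hcard ▸ orderOf_dvd_natCard s)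
      conv_rhs => rw [← pow_one s]
      exact pow_eq_pow_iff_modEq.2 (hk2.of_dvd hd)
  rw [comb_apply, comb_apply]
  change _ = ∑ ξ ∈ S, _
  conv_rhs => rw [← himg, Finset.sum_image fun _ _ _ _ h => hinj h]
  refine Finset.sum_congr rfl fun ξ hξ => ?_
  rw [hψ, PConj.twist, hus,
    hx ξ (Finset.mem_filter.1 hξ).2 _ (Finset.mem_filter.1 (hmaps ξ hξ)).2 (hreg ξ)]

/-- A defect group of order `p` with a block of its centraliser of rank one, to which all the
blocks inducing `B` are conjugate. -/
theorem exists_local (hM : IsPModular p M) {B : Set (IrrCharacter G)} (hB : IsPBlock M B)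
    (hd : blockDefect p B = 1) :
    ∃ (u : G) (C : Subgroup G) (_ : Fintype C) (b : Set (IrrCharacter C)),
      orderOf u = p ∧ C = Subgroup.centralizer ({u} : Set G) ∧
      (∀ E : Subgroup G, IsDefectGroup p M B E → ∀ z ∈ E, z ≠ 1 →
        ∃ (g : G) (i : ℕ), ¬ p ∣ i ∧ g * z * g⁻¹ = u ^ i) ∧
      IsPBlock M b ∧ blockRank p b = 1 ∧
      ∀ c : Set (IrrCharacter C), IsInducedBlock M C c B →
        ∃ (x : G) (i : ℕ), ¬ p ∣ i ∧ x * u * x⁻¹ = u ^ i ∧
          (∀ g, g ∈ C ↔ x⁻¹ * g * x ∈ C) ∧
          ∀ g : G, subgroupBlockCoeff C b g = subgroupBlockCoeff C c (x⁻¹ * g * x) := by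
  have := hM.2.1
  have := charP_res hM
  obtain ⟨D, hD⟩ := Blocks.exists_isDefectGroup hM hB
  have hDc : Nat.card D = p := by rw [BlockCover.natCard_defect hM hB hD, hd, pow_one]
  have hcyc : IsCyclic D := isCyclic_of_prime_card hDc
  obtain ⟨u₀, hu₀⟩ := hcyc.exists_generator
  set u : G := (u₀ : G) with hu
  have hDu : D = Subgroup.zpowers u := by
    refine le_antisymm (fun z hz => ?_) (Subgroup.zpowers_le.2 u₀.2)
    obtain ⟨i, hi⟩ := Subgroup.mem_zpowers_iff.1 (hu₀ ⟨z, hz⟩)
    exact Subgroup.mem_zpowers_iff.2 ⟨i, by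
      have := congrArg Subtype.val hi
      simpa using this⟩
  have huo : orderOf u = p := by rw [← Nat.card_zpowers, ← hDu, hDc]
  have hpow : ∀ z ∈ D, z ≠ 1 → ∃ i : ℕ, ¬ p ∣ i ∧ z = u ^ i := by
    intro z hz hne
    rw [hDu] at hz
    have hfin : IsOfFinOrder u := isOfFinOrder_of_finite u
    obtain ⟨i, rfl⟩ := hfin.mem_powers_iff_mem_zpowers.2 hz
    exact ⟨i, fun h => hne (orderOf_dvd_iff_pow_eq_one.1 (huo ▸ h)), rfl⟩
  have hDd := (isDefectGroup_iff hM hB D).1 hD
  have hfix : eG hM B ∈ fixAlg (ResK M) D := fixAlg_anti le_top (isBlockIdem_eG hM hB).fixed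
  obtain ⟨h, hh, hcov⟩ := exists_block_le (hasBlocks hM) (brMap_mem_suppAlg D (eG hM B))
    (brMap_mem_fixAlg (cz_le_normalizer D)
      (fixAlg_anti le_top (isBlockIdem_eG hM hB).fixed))
    (by rw [← brMap_mul hDd.pgroup hfix hfix, (isBlockIdem_eG hM hB).idem]) hDd.br_ne
  obtain ⟨b, hb, rfl⟩ := exists_eA_eq hM hh
  have hOD : OverPair p (⊥ : Subgroup G) (eG hM B) ⊤ D (eA hM (cz D) b) :=
    ⟨hDd.pgroup, bot_le, le_top, hh, hcov⟩
  have hDz : D ≤ cz D := fun z hz => mem_cz.2 fun w hw => by
    rw [hDu] at hz hw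
    obtain ⟨i, rfl⟩ := Subgroup.mem_zpowers_iff.1 hz
    obtain ⟨l, rfl⟩ := Subgroup.mem_zpowers_iff.1 hw
    rw [← zpow_add, ← zpow_add, add_comm]
  have hC : cz D = Subgroup.centralizer ({u} : Set G) := by
    rw [cz, hDu, Subgroup.zpowers_eq_closure, Subgroup.centralizer_closure]
  refine ⟨u, cz D, Fintype.ofFinite _, b, huo, hC, ?_, hb, ?_, ?_⟩
  · intro E hE z hz hne
    obtain ⟨t, -, ht⟩ := (brSetup_block hM hB).isDefect_conj ((isDefectGroup_iff hM hB E).1 hE) hDd
    obtain ⟨i, hi, he⟩ := hpow (t * z * t⁻¹) (by rw [ht]; exact ⟨z, hz, rfl⟩)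
      (fun h1 => hne (by simpa using conj_eq_one_iff.1 h1))
    exact ⟨t, i, hi, he⟩
  · -- the block of the centraliser has the central defect group `D`
    obtain ⟨D₁, hD₁, hle⟩ := centralizer_le_defect hM hDd.pgroup hb hb
      (Relation.ReflTransGen.refl : SubpairLE p M D b D b)
    have hind : IsInducedBlock M (cz D) b B := by
      have hP : IsBrauerPairOf p M B D b := (isBrauerPairOf_iff hM B D b).2 ⟨hb, hB, hOD⟩
      obtain ⟨B', hB'⟩ := inducedBlockDefined (H := cz D) hM hDd.pgroup hDz le_rfl
        (cz_le_normalizer D) hb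
      obtain ⟨-, -, hO'⟩ := (isBrauerPairOf_iff hM B' D b).1
        (isBrauerPairOf_of_isInducedBlock hM hDd.pgroup hB')
      have : B = B' := by
        refine eG_inj hM hB hB'.2.1 ?_
        by_contra hne
        have h0 : eG hM B * eG hM B' = 0 := (isBlockIdem_eG hM hB).mul_eq_zero
          (isBlockIdem_eG hM hB'.2.1) hne
        have hfix' : eG hM B' ∈ fixAlg (ResK M) D :=
          fixAlg_anti le_top (isBlockIdem_eG hM hB'.2.1).fixed
        have h2 := congrArg (fun z => brMap (ResK M) D z * eA hM (cz D) b) h0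
        simp only [brMap_mul hDd.pgroup hfix hfix', mul_assoc, hO'.cover, hcov, map_zero,
          zero_mul] at h2
        exact hh.ne_zero h2
      exact this ▸ hB'
    obtain ⟨E, hE, hmap⟩ := Blocks.exists_defectGroup_map_le hM hind hD₁
    have hcard : Nat.card D₁ ≤ p := by
      rw [← Subgroup.card_map_of_injective (cz D).subtype_injective (K := D₁), ← hDc]
      exact (Subgroup.card_le_of_le hmap).trans_eq (by
        rw [BlockCover.natCard_defect hM hB hE, BlockCover.natCard_defect hM hB hD])
    have hsub : (D ⊓ cz D).subgroupOf (cz D) = D₁ := Subgroup.eq_of_le_of_card_ge hle (by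
      rw [Nat.card_congr (Subgroup.subgroupOfEquivOfLe inf_le_right).toEquiv,
        inf_eq_left.2 hDz, hDc]
      exact hcard)
    have hcen : D₁ ≤ Subgroup.center (cz D) := by
      intro z hz
      rw [← hsub] at hz
      exact Subgroup.mem_center_iff.2 fun w => Subtype.ext
        ((mem_cz.1 w.2 z hz.1).symm)
    obtain ⟨χ, hχ, hdeg⟩ := CentralDefect.exists_degree_eq_index hM hb hD₁
    exact CentralDefect.blockRank_eq_one hM
      (CentralDefect.setup_central (IsPGroup.of_card (BlockCover.natCard_defect hM hb hD₁))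
        hcen χ hdeg).choose_spec
      (fun ζ g v hv => congrArg _ (Subtype.ext (by
        show g * (v : cz D) * g⁻¹ = v
        rw [Subgroup.mem_center_iff.1 (hcen v.2) g, mul_inv_cancel_right]))) hb hχ
  · intro c hc
    obtain ⟨-, -, hOc⟩ := (isBrauerPairOf_iff hM B D c).1
      (isBrauerPairOf_of_isInducedBlock hM hDd.pgroup hc)
    obtain ⟨x, -, hx⟩ := (brSetup_block hM hB).exists_conj_le (hasBlocks hM) hOc hDd hOD
    have hmapD : D.map (MulAut.conj x).toMonoidHom = D :=
      Subgroup.eq_of_le_of_card_ge hx.le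
        (Subgroup.card_map_of_injective (MulAut.conj x).injective).ge
    obtain ⟨i, hi, hxi⟩ := hpow (x * u * x⁻¹) (by
        rw [← hmapD]; exact ⟨u, hDu ▸ Subgroup.mem_zpowers u, rfl⟩)
      (fun h1 => hM.1.ne_one (by rw [← huo, conj_eq_one_iff.1 h1, orderOf_one]))
    have hmem : ∀ g, g ∈ cz D ↔ x⁻¹ * g * x ∈ cz D := fun g => by
      conv_lhs => rw [← hmapD]
      exact mem_cz_map_conj_iff D x g
    have hA : conjA x (eA hM (cz D) c) = eA hM (cz D) b := by
      have hx' : PairLE p (D, conjA x (eA hM (cz D) c)) (D, eA hM (cz D) b) := by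
        simpa only [conjPair, hmapD] using hx
      exact pairLE_unique (hasBlocks hM) hh hDd.pgroup hx' Relation.ReflTransGen.refl
    rw [conjA_eA hM x hmem c] at hA
    have heq := eA_inj hM (isPBlock_twist _ hc.1) hb hA
    refine ⟨x, i, hi, hxi, hmem, fun g => ?_⟩
    rw [← heq, subgroupBlockCoeff_twist]

/-- Two class-constant relations among the regular restrictions are proportional. -/
theorem proportional (hM : IsPModular p M) {B : Set (IrrCharacter G)} (hB : IsPBlock M B)
    (hd : blockDefect p B = 1) {x y : IrrCharacter G → ℂ}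
    (hx : ∀ ξ ∈ B, ∀ η ∈ B, RegEq p ξ η → x ξ = x η)
    (hy : ∀ ξ ∈ B, ∀ η ∈ B, RegEq p ξ η → y ξ = y η)
    (hx0 : ∀ g : G, ¬ p ∣ orderOf g → comb B x g = 0)
    (hy0 : ∀ g : G, ¬ p ∣ orderOf g → comb B y g = 0) :
    ∀ ξ ∈ B, ∀ η ∈ B, x ξ * y η = x η * y ξ := by
  obtain ⟨u, C, hfC, b, huo, hC, hdef, hb, hrank, hconj⟩ := exists_local hM hB hd
  subst hC
  have hu : ∃ k, orderOf u = p ^ k := ⟨1, by rw [huo, pow_one]⟩
  -- the number attached to a relation
  set φ : (IrrCharacter G → ℂ) → ℂ := fun z =>
    blockPart b (sectionFun u (comb B z)) 1 with hφ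
  -- its vanishing kills the relation
  have hzero : ∀ z : IrrCharacter G → ℂ, (∀ ξ ∈ B, ∀ η ∈ B, RegEq p ξ η → z ξ = z η) →
      (∀ g : G, ¬ p ∣ orderOf g → comb B z g = 0) → φ z = 0 → ∀ ξ ∈ B, z ξ = 0 := by
    intro z hz hz0 hφ0
    have hbpart : ∀ s : Subgroup.centralizer ({u} : Set G), ¬ p ∣ orderOf s →
        blockPart b (sectionFun u (comb B z)) s = 0 := by
      intro s hs
      set f := fun t => blockPart b (sectionFun u (comb B z)) t with hf
      have hb0 := IsPBlock.nonempty hM hb
      obtain ⟨ξ₀, hξ₀⟩ := hb0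
      -- all restrictions to regular elements are multiples of one
      have hmult : ∀ ξ ∈ b, ∃ r : ℂ, pRegularPart p (ξ : _ → ℂ) = r • pRegularPart p (ξ₀ : Subgroup.centralizer ({u} : Set G) → ℂ) := by
        intro ξ hξ
        set V := Submodule.span ℂ
            ((fun χ : IrrCharacter (Subgroup.centralizer ({u} : Set G)) =>
              pRegularPart p (χ : Subgroup.centralizer ({u} : Set G) → ℂ)) '' b) with hV
        have hone : ∀ v ∈ V,
            ∃ r : ℂ, v = r • pRegularPart p (ξ₀ : Subgroup.centralizer ({u} : Set G) → ℂ) := by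
          intro v hv
          obtain ⟨r, hr⟩ := (finrank_eq_one_iff_of_nonzero' (K := ℂ)
            (⟨pRegularPart p (ξ₀ : Subgroup.centralizer ({u} : Set G) → ℂ), Submodule.subset_span ⟨ξ₀, hξ₀, rfl⟩⟩ :
              ↥V) (fun h => by
              have h1 := congrFun (congrArg Subtype.val h) 1
              simp [pRegularPart, IsPRegular, hM.1.ne_one, irr_one_ne_zero ξ₀] at h1)).1 hrank ⟨v, hv⟩
          exact ⟨r, (congrArg Subtype.val hr).symm⟩
        exact hone _ (Submodule.subset_span ⟨ξ, hξ, rfl⟩)
      choose! r hr using hmult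
      have hval : ∀ t : Subgroup.centralizer ({u} : Set G), ¬ p ∣ orderOf t →
          f t = (∑ ξ ∈ Finset.univ.filter (· ∈ b),
            classInner (sectionFun u (comb B z)) (ξ : _ → ℂ) * r ξ) * (ξ₀ : _ → ℂ) t := by
        intro t ht
        simp only [hf, blockPart_eq_sum, Finset.sum_mul, mul_assoc]
        refine Finset.sum_congr rfl fun ξ hξ => ?_
        have := congrFun (hr ξ (Finset.mem_filter.1 hξ).2) t
        simp only [pRegularPart, IsPRegular, ht, not_false_eq_true, if_true, Pi.smul_apply,
          smul_eq_mul] at this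
        rw [this]
      have h1 := hval 1 (by rw [orderOf_one]; exact hM.1.not_dvd_one)
      rw [show f 1 = φ z from rfl, hφ0] at h1
      show f s = 0
      rw [hval s hs, (mul_eq_zero.1 h1.symm).resolve_right (irr_one_ne_zero ξ₀), zero_mul]
    have hcl := isClassFunction_sectionFun (x := u) (isClassFunction_comb B z)
    -- every block of the centraliser has zero part
    have hall : ∀ s : Subgroup.centralizer ({u} : Set G), ¬ p ∣ orderOf s →
        comb B z (u * s) = 0 := by
      intro s hs
      have huniv : blockPart Set.univ (sectionFun u (comb B z)) s = 0 := by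
        refine blockPart_union_eq_zero hM (fun _ _ _ _ => Set.mem_univ _) fun ξ _ => ?_
        set c := blockOf M (ξ : Subgroup.centralizer ({u} : Set G) → ℂ)
        have hc : IsPBlock M c := isPBlock_blockOf ξ
        by_cases hind : IsInducedBlock M (Subgroup.centralizer ({u} : Set G)) c B
        · obtain ⟨x, i, hi, hxu, hmem, hco⟩ := hconj c hind
          rw [← sum_blockCoeff_mul_eq_blockPart c hcl]
          set e : Subgroup.centralizer ({u} : Set G) ≃ Subgroup.centralizer ({u} : Set G) :=
            (conjEquiv x hmem).toEquiv.symm with he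
          have hes : ∀ k, ((e k : Subgroup.centralizer ({u} : Set G)) : G) = x * k * x⁻¹ := fun k => rfl
          have hes' : ¬ p ∣ orderOf (e s) := by
            rwa [← Subgroup.orderOf_coe, hes, ← MulAut.conj_apply, MulEquiv.orderOf_eq,
              Subgroup.orderOf_coe]
          have hgen : ∀ k, blockCoeff c k * sectionFun u (comb B z) (k * s) =
              blockCoeff b (e k) *
                (fun t : Subgroup.centralizer ({u} : Set G) => comb B z (u ^ i * t)) (e k * e s) := by
            intro k
            congr 1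
            · rw [← subgroupBlockCoeff_coe, ← subgroupBlockCoeff_coe, hco, hes]
              congr 1
              group
            · simp only [sectionFun, Subgroup.coe_mul, hes]
              rw [← hxu, show x * u * x⁻¹ * (x * k * x⁻¹ * (x * s * x⁻¹)) =
                x * (u * ((k : G) * s)) * x⁻¹ by group]
              exact (isClassFunction_comb B z _ x).symm
          set F' : Subgroup.centralizer ({u} : Set G) → ℂ := fun t => comb B z (u ^ i * t) with hF'
          have hcl' : IsClassFunction (Subgroup.centralizer ({u} : Set G)) F' := fun a h => by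
            simp only [hF', Subgroup.coe_mul, Subgroup.coe_inv]
            rw [show u ^ i * ((h : G) * a * (h : G)⁻¹) = (h : G) * (u ^ i * a) * (h : G)⁻¹ by
              rw [← mul_assoc, ← mul_assoc, ((commute_centralizer h).pow_left i).eq,
                mul_assoc (h : G)]]
            exact isClassFunction_comb B z _ _
          rw [Finset.sum_congr rfl fun k _ => hgen k,
            Equiv.sum_comp e (fun k => blockCoeff b k * F' (k * e s)),
            sum_blockCoeff_mul_eq_blockPart b hcl',
            blockPart_congr_regular hM hb (g := sectionFun u (comb B z)) (fun t ht =>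
              comb_pow_eq hM hB hz hu hi (commute_centralizer t)
                (by rwa [Subgroup.orderOf_coe])) hes']
          exact hbpart _ hes'
        · have hlin : blockPart c (sectionFun u (comb B z)) s =
              ∑ ξ' ∈ Finset.univ.filter (· ∈ B), z ξ' * blockPart c (sectionFun u (ξ' : G → ℂ)) s := by
            simp only [blockPart_eq_sum, classInner, sectionFun, comb_apply, Finset.sum_mul,
              Finset.mul_sum]
            symm
            rw [Finset.sum_comm]
            refine Finset.sum_congr rfl fun η _ => ?_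
            rw [Finset.sum_comm]
            exact Finset.sum_congr rfl fun k _ => Finset.sum_congr rfl fun ξ' _ => by ring
          rw [hlin]
          refine Finset.sum_eq_zero fun ξ' hξ' => ?_
          rw [blockPart_sectionFun_eq_zero hM hu hc (fun h => hind ?_) hs, mul_zero]
          rwa [← IsPBlock.eq_blockOf hM hB (Finset.mem_filter.1 hξ').2] at h
      rw [← huniv, blockPart_eq_sum]
      show sectionFun u (comb B z) s = _
      conv_lhs => rw [classFunction_eq_sum hcl]
      simp only [Finset.sum_apply, Pi.smul_apply, smul_eq_mul, Set.mem_univ, Finset.filter_true]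
    -- the relation vanishes identically
    have hF : comb B z = 0 := by
      funext g
      obtain ⟨v, hv⟩ := exists_isPPart hM.1 g
      obtain ⟨w, hw, hc, hvo, hwp⟩ := id hv
      by_cases hv1 : v = 1
      · rw [← hw, hv1, one_mul, Pi.zero_apply]; exact hz0 w hwp
      by_cases hmem : ∃ E, IsDefectGroup p M B E ∧ v ∈ E
      · obtain ⟨E, hE, hvE⟩ := hmem
        obtain ⟨t, i, hi, ht⟩ := hdef E hE v hvE hv1
        rw [← isClassFunction_comb B z g t, ← hw,
          show t * (v * w) * t⁻¹ = (t * v * t⁻¹) * (t * w * t⁻¹) by group, ht, Pi.zero_apply]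
        have hcom : Commute u (t * w * t⁻¹) := by
          have h1 : Commute (u ^ i) (t * w * t⁻¹) := ht ▸ hc.map (MulAut.conj t).toMonoidHom
          obtain ⟨m, hm⟩ := exists_pow_eq_self_of_coprime (x := u)
            (by rw [huo]; exact ((hM.1.coprime_iff_not_dvd.2 hi)).symm : i.Coprime (orderOf u))
          have h2 := h1.pow_left m
          rwa [hm] at h2
        have hwp' : ¬ p ∣ orderOf (t * w * t⁻¹) := by
          rwa [← MulAut.conj_apply, MulEquiv.orderOf_eq]
        rw [comb_pow_eq hM hB hz hu hi hcom hwp']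
        exact hall ⟨t * w * t⁻¹, Subgroup.mem_centralizer_singleton_iff.2 hcom.eq.symm⟩
          (by rwa [← Subgroup.orderOf_coe])
      · rw [comb_apply, Pi.zero_apply]
        refine Finset.sum_eq_zero fun ξ hξ => ?_
        rw [apply_eq_zero_of_notMem_defect hM hv (fun E hE hvE => hmem ⟨E, ?_, hvE⟩), mul_zero]
        rwa [IsPBlock.eq_blockOf hM hB (Finset.mem_filter.1 hξ).2]
    intro ξ hξ
    have h := classInner_irr_sum (Finset.univ.filter (· ∈ B)) z ξ
    rw [show (∑ χ ∈ Finset.univ.filter (· ∈ B), z χ • (χ : G → ℂ)) = comb B z from rfl, hF,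
      if_pos (Finset.mem_filter.2 ⟨Finset.mem_univ _, hξ⟩)] at h
    rw [← h]; simp [classInner]
  -- two relations
  have hlin₀ : ∀ a c : ℂ, φ (fun ξ => a * y ξ - c * x ξ) = a * φ y - c * φ x := by
    intro a c
    have : sectionFun u (comb B (fun ξ => a * y ξ - c * x ξ)) =
        fun t => a * sectionFun u (comb B y) t - c * sectionFun u (comb B x) t := by
      funext t
      simp only [sectionFun, comb_apply, sub_mul, Finset.sum_sub_distrib, Finset.mul_sum, mul_assoc]
    simp only [hφ, this]
    simp only [blockPart_eq_sum, classInner, Finset.mul_sum, Finset.sum_mul, ← Finset.sum_sub_distrib]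
    exact Finset.sum_congr rfl fun ξ _ => Finset.sum_congr rfl fun t _ => by ring
  have hlin : φ (fun ξ => φ x * y ξ - φ y * x ξ) = 0 := by rw [hlin₀]; ring
  have hkey : ∀ ξ ∈ B, φ x * y ξ = φ y * x ξ := fun ξ hξ => sub_eq_zero.1
    (hzero _ (fun ξ hξ η hη h => by rw [hx ξ hξ η hη h, hy ξ hξ η hη h])
      (fun g hg => by
        have hX := hx0 g hg
        have hY := hy0 g hg
        simp only [comb_apply] at hX hY ⊢
        simp only [sub_mul, Finset.sum_sub_distrib, mul_assoc, ← Finset.mul_sum, hX, hY,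
          mul_zero, sub_zero]) hlin ξ hξ)
  intro ξ hξ η hη
  by_cases h0 : φ x = 0
  · rw [hzero x hx hx0 h0 ξ hξ, hzero x hx hx0 h0 η hη, zero_mul, zero_mul]
  · refine mul_left_cancel₀ h0 ?_
    calc φ x * (x ξ * y η) = x ξ * (φ x * y η) := by ring
      _ = x ξ * (φ y * x η) := by rw [hkey η hη]
      _ = x η * (φ y * x ξ) := by ring
      _ = x η * (φ x * y ξ) := by rw [hkey ξ hξ]
      _ = φ x * (x η * y ξ) := by ring

end CfsgLib.DefectOne
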