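import Cfsg.Agent.Lib.Blk7.KleinFour
import Cfsg.Agent.Lib.Blocks12.Bounds
import Cfsg.Agent.Lib.Blocks.DefectZeroVanish
import Cfsg.Agent.S0908

/-!
2-blocks with defect group of order two.
-/

set_option autoImplicit false
set_option linter.unusedSectionVars false

noncomputable section

namespace CfsgLib.Blk7

open Cfsg CfsgLib.Characters CfsgLib.Blocks CfsgLib.Contribution
open scoped ComplexConjugate

universe u

variable {G : Type u} [Group G] [Fintype G] {M : Ideal AlgInt}

/-- A 2-block of defect one has two characters. -/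
theorem defect_one_block [Fact (Nat.Prime 2)] (hM : IsPModular 2 M) {B : Set (IrrCharacter G)}
    (hB : IsPBlock M B) (hd : blockDefect 2 B = 1) {χ : IrrCharacter G} (hχ : χ ∈ B) :
    ∃ ψ, ψ ∈ B ∧ ψ ≠ χ ∧ B = {χ, ψ} ∧
      (∀ g : G, ¬ 2 ∣ orderOf g → (ψ : G → ℂ) g = (χ : G → ℂ) g) ∧
      (∀ g : G, 2 ∣ orderOf g → (ψ : G → ℂ) g = -(χ : G → ℂ) g) ∧
      2 * regSum 2 (χ : G → ℂ) (χ : G → ℂ) = (Nat.card G : ℂ) := by
  classical
  have : Fintype (ConjClasses G) := Fintype.ofFinite _
  have h2 : Nat.Prime 2 := Nat.prime_two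
  have h0 : ∀ φ ∈ B, ¬ 2 ∣ red 2 B φ := fun φ hφ hdiv => by
    have h1 := exp_eq_of_defect_le_two hM hB (by omega) hφ
    have h2' := (pow_dvd_red (k := 1) h2 hφ).1 (by rwa [pow_one])
    omega
  set z := contribInt 2 B χ
  have hrow := contribInt_row hM hB hχ
  rw [hd, pow_one] at hrow
  have hne : ∀ φ ∈ B, z φ ≠ 0 := fun φ hφ => contribInt_zero_ne hM hB hχ (h0 χ hχ) hφ
  have hnot : ∀ φ : IrrCharacter G, φ ∈ B → B ≠ {φ} := by
    intro φ hφ heq
    have hb := (Cfsg.Agent.S0914.result 2 M hM φ).2 (by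
      rw [← IsPBlock.eq_blockOf hM hB hφ, heq])
    obtain ⟨hd1, hdv, hpos⟩ := CfsgLib.ClassCount.degree_eq φ
    apply hb
    have h3 := exp_eq_of_defect_le_two hM hB (by omega) hφ
    have h4 := minExp_add_defect hM hB
    obtain ⟨q, hq⟩ := hdv
    rw [hq, Nat.mul_div_cancel_left q hpos]
    by_contra hq2
    have hq0 : q ≠ 0 := fun h => hq2 (h ▸ dvd_zero 2)
    have h5 : (Nat.card G).factorization 2 =
        (charDegree (φ : G → ℂ)).factorization 2 + q.factorization 2 := by
      rw [hq, Nat.factorization_mul hpos.ne' hq0, Finsupp.add_apply]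
    rw [Nat.factorization_eq_zero_of_not_dvd hq2] at h5
    omega
  have hsplit : z χ ^ 2 + ∑ φ ∈ (members B).erase χ, z φ ^ 2 = 2 * z χ := by
    rw [Finset.add_sum_erase _ (fun φ => z φ ^ 2) (mem_members.2 hχ)]
    exact_mod_cast hrow
  obtain ⟨ψ, hψB, hψχ⟩ : ∃ ψ, ψ ∈ B ∧ ψ ≠ χ := by
    by_contra hcon
    push Not at hcon
    exact hnot χ hχ (Set.eq_singleton_iff_unique_mem.2 ⟨hχ, hcon⟩)
  have hψm : ψ ∈ (members B).erase χ := Finset.mem_erase.2 ⟨hψχ, mem_members.2 hψB⟩
  have hge : ∀ φ ∈ (members B).erase χ, 1 ≤ z φ ^ 2 := fun φ hφ => by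
    have := hne φ (mem_members.1 (Finset.mem_of_mem_erase hφ))
    have hpos : 0 < z φ ^ 2 := by positivity
    omega
  have hsingle : z ψ ^ 2 ≤ ∑ φ ∈ (members B).erase χ, z φ ^ 2 :=
    Finset.single_le_sum (f := fun φ => z φ ^ 2) (fun φ _ => sq_nonneg (z φ)) hψm
  have hzχ : z χ = 1 := by
    have h1 := hge ψ hψm
    have h2' : (z χ - 1) ^ 2 ≤ 0 := by nlinarith
    have h3 : z χ - 1 = 0 := by
      have := sq_nonneg (z χ - 1)
      exact pow_eq_zero_iff (n := 2) (by norm_num) |>.1 (le_antisymm h2' this)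
    omega
  have hsum1 : ∑ φ ∈ (members B).erase χ, z φ ^ 2 = 1 := by rw [hzχ] at hsplit; linarith
  have hψ2 : z ψ ^ 2 = 1 := le_antisymm (hsum1 ▸ hsingle) (hge ψ hψm)
  have honly : (members B).erase χ = {ψ} := by
    refine Finset.eq_singleton_iff_unique_mem.2 ⟨hψm, fun φ hφ => ?_⟩
    by_contra hne'
    have h1 : z φ ^ 2 + z ψ ^ 2 ≤ ∑ η ∈ (members B).erase χ, z η ^ 2 := by
      rw [← Finset.sum_pair (f := fun η => z η ^ 2) hne']
      refine Finset.sum_le_sum_of_subset_of_nonneg ?_ fun _ _ _ => sq_nonneg _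
      intro η hη
      simp only [Finset.mem_insert, Finset.mem_singleton] at hη
      rcases hη with rfl | rfl <;> assumption
    have := hge φ hφ
    omega
  have hmem : members B = {χ, ψ} := by
    rw [← Finset.insert_erase (mem_members.2 hχ), honly]
  have hBeq : B = {χ, ψ} := by
    ext φ
    rw [← mem_members, hmem]
    simp
  have hexp : ∀ g : G, (if ¬ 2 ∣ orderOf g then (2 : ℂ) * (χ : G → ℂ) g else 0) =
      (χ : G → ℂ) g + (z ψ : ℂ) * (ψ : G → ℂ) g := by
    intro g
    have h := expand hM hB hχ g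
    rw [hd, pow_one, Nat.cast_ofNat] at h
    rw [h, show Finset.univ.filter (· ∈ B) = members B from by ext; simp [mem_members],
      hmem, Finset.sum_pair hψχ.symm]
    have hc := contribInt_cast hM hB χ hχ
    have hc' := contribInt_cast hM hB χ hψB
    rw [hd] at hc hc'
    rw [← hc, ← hc', show contribInt 2 B χ χ = z χ from rfl, hzχ, Int.cast_one, one_mul]
  have hzψ : z ψ = 1 := by
    rcases sq_eq_one_iff.1 hψ2 with h | h
    · exact h
    exfalso
    have h1 := hexp 1
    rw [orderOf_one, if_pos (by norm_num), h] at h1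
    obtain ⟨a, ha, hae⟩ := irr_exists_degree χ.2
    obtain ⟨b, hb, hbe⟩ := irr_exists_degree ψ.2
    rw [hae, hbe] at h1
    have : ((a + b : ℕ) : ℂ) = ((0 : ℕ) : ℂ) := by push_cast at h1 ⊢; linear_combination h1
    have := Nat.cast_injective this
    omega
  refine ⟨ψ, hψB, hψχ, hBeq, fun g hg => ?_, fun g hg => ?_, ?_⟩
  · have h1 := hexp g
    rw [if_pos hg, hzψ, Int.cast_one, one_mul] at h1
    linear_combination -h1
  · have h1 := hexp g
    rw [if_neg (not_not.2 hg), hzψ, Int.cast_one, one_mul] at h1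
    linear_combination -h1
  · have hc := contribInt_cast hM hB χ hχ
    rw [show contribInt 2 B χ χ = z χ from rfl, hzχ, Int.cast_one, hd, contrib, pow_one,
      Nat.cast_ofNat] at hc
    have hG : (Nat.card G : ℂ) ≠ 0 := Nat.cast_ne_zero.2 Nat.card_pos.ne'
    field_simp at hc
    linear_combination -hc

/-- Representatives of the classes of `p`-elements containing two given ones. -/
theorem exists_reps [Fact (Nat.Prime 2)] {x : G} (hx : orderOf x = 2) :
    ∃ X : Finset G, x ∈ X ∧ (1 : G) ∈ X ∧ (∀ y ∈ X, ∃ k : ℕ, orderOf y = 2 ^ k) ∧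
      ∀ g : G, (∃ k : ℕ, orderOf g = 2 ^ k) → ∃! y, y ∈ X ∧ IsConj g y := by
  classical
  let rep : ConjClasses G → G := fun c =>
    if c = ConjClasses.mk 1 then 1 else if c = ConjClasses.mk x then x else c.out
  have hrep : ∀ c, ConjClasses.mk (rep c) = c := by
    intro c
    simp only [rep]
    split_ifs with h h'
    · exact h.symm
    · exact h'.symm
    · exact Quotient.out_eq c
  have hx1 : x ≠ 1 := fun h => by rw [h, orderOf_one] at hx; omega
  have hne : ConjClasses.mk x ≠ ConjClasses.mk (1 : G) := fun h =>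
    hx1 (isConj_one_left.1 (ConjClasses.mk_eq_mk_iff_isConj.1 h))
  let X := (Finset.univ.filter (fun g : G => ∃ k : ℕ, orderOf g = 2 ^ k)).image
    (fun g => rep (ConjClasses.mk g))
  have hord : ∀ g y : G, IsConj g y → orderOf y = orderOf g := fun g y h => by
    obtain ⟨a, ha⟩ := isConj_iff.1 h
    rw [← ha, ← MulAut.conj_apply, MulEquiv.orderOf_eq]
  have hmk : ∀ g : G, IsConj g (rep (ConjClasses.mk g)) := fun g =>
    ConjClasses.mk_eq_mk_iff_isConj.1 (hrep _).symm
  refine ⟨X, ?_, ?_, ?_, ?_⟩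
  · refine Finset.mem_image.2 ⟨x, Finset.mem_filter.2 ⟨Finset.mem_univ _, 1, by rw [hx, pow_one]⟩, ?_⟩
    simp only [rep, if_neg hne, if_pos]
  · refine Finset.mem_image.2 ⟨1, Finset.mem_filter.2 ⟨Finset.mem_univ _, 0, by rw [orderOf_one, pow_zero]⟩, ?_⟩
    simp only [rep, if_pos]
  · intro y hy
    obtain ⟨g, hg, rfl⟩ := Finset.mem_image.1 hy
    obtain ⟨k, hk⟩ := (Finset.mem_filter.1 hg).2
    exact ⟨k, by rw [hord _ _ (hmk g), hk]⟩
  · intro g hg
    refine ⟨_, ⟨Finset.mem_image.2 ⟨g, Finset.mem_filter.2 ⟨Finset.mem_univ _, hg⟩, rfl⟩, hmk g⟩, ?_⟩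
    rintro y ⟨hy, hgy⟩
    obtain ⟨g', -, rfl⟩ := Finset.mem_image.1 hy
    have : ConjClasses.mk g = ConjClasses.mk g' := by
      rw [ConjClasses.mk_eq_mk_iff_isConj]
      exact hgy.trans (hmk g').symm
    rw [this]

/-- The defect of a block of a subgroup inducing a block of small defect. -/
theorem defect_le_of_induced (hM : IsPModular 2 M) {H : Subgroup G} [Fintype H]
    {b : Set (IrrCharacter H)} {B : Set (IrrCharacter G)} (hind : IsInducedBlock M H b B) {g : G}
    (hg : IsDefectClass M B g) :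
    blockDefect 2 b ≤ (Nat.card (Subgroup.centralizer ({g} : Set G))).factorization 2 := by
  classical
  have : Fintype (ConjClasses H) := Fintype.ofFinite _
  obtain ⟨ξ, hξ⟩ := IsPBlock.nonempty hM hind.1
  obtain ⟨χ, hχ⟩ := IsPBlock.nonempty hM hind.2.1
  let F : H → ℂ := fun h => if IsConj g (h : G) then centralChar (ξ : H → ℂ) h else 0
  have hF : ∀ a h : H, F (h * a * h⁻¹) = F a := by
    intro a h
    have h1 : IsConj a (h * a * h⁻¹) := isConj_iff.2 ⟨h, rfl⟩
    have h2 : IsConj (a : G) ((h * a * h⁻¹ : H) : G) := isConj_iff.2 ⟨h, by simp⟩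
    simp only [F]
    rw [if_congr ⟨fun hh => hh.trans h2.symm, fun hh => hh.trans h2⟩ rfl rfl]
    split_ifs with hh
    · simp only [centralChar]
      rw [irr_isClassFunction ξ a h, ← natCard_isConj, ← natCard_isConj,
        Nat.card_congr (Equiv.subtypeEquivRight fun y =>
          ⟨fun H' => h1.trans H', fun H' => h1.symm.trans H'⟩)]
    · rfl
  have hsum : inducedCentralChar H (ξ : H → ℂ) g = ∑ c : ConjClasses H, F c.out := by
    rw [← sum_div_index F hF, inducedCentralChar,
      finsum_mem_eq_finite_toFinset_sum _ (Set.toFinite _)]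
    have hS : (Set.toFinite {h : H | IsConj g (h : G)}).toFinset =
        Finset.univ.filter (fun h : H => IsConj g (h : G)) := by ext; simp
    rw [hS, Finset.sum_filter]
    refine Finset.sum_congr rfl fun h _ => ?_
    simp only [F]
    split_ifs
    · rw [centralChar, mul_div_assoc,
        mul_div_cancel_left₀ _ (Nat.cast_ne_zero.2 Subgroup.index_ne_zero_of_finite)]
    · rw [zero_div]
  obtain ⟨h, hh, hout⟩ : ∃ h : H, IsConj g (h : G) ∧ ¬ MemLocalIdeal M (centralChar (ξ : H → ℂ) h) := by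
    by_contra hcon
    push Not at hcon
    apply hg.2.2 χ hχ
    have h1 : MemLocalIdeal M (inducedCentralChar H (ξ : H → ℂ) g) := by
      rw [hsum]
      refine Finset.sum_induction _ (MemLocalIdeal M) (fun _ _ => MemLocalIdeal.add hM)
        (memLocalIdeal_zero hM) fun c _ => ?_
      simp only [F]
      split_ifs with hc
      · exact hcon _ hc
      · exact memLocalIdeal_zero hM
    have h2 := MemLocalIdeal.add hM h1 (MemLocalIdeal.neg hM (hind.2.2 ξ hξ χ hχ g))
    simpa using h2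
  have h1 := le_minExp_of_centralChar hM hind.1 hξ hout
  have h2 := index_factorization (G := H) Nat.prime_two h
  rw [blockDefect_eq]
  obtain ⟨a, ha⟩ := isConj_iff.1 hh
  have hdvd : Nat.card (Subgroup.centralizer ({h} : Set H)) ∣
      Nat.card (Subgroup.centralizer ({g} : Set G)) := by
    let f : Subgroup.centralizer ({h} : Set H) →* Subgroup.centralizer ({g} : Set G) :=
      MonoidHom.codRestrict (((MulAut.conj a⁻¹).toMonoidHom.comp H.subtype).comp
        (Subgroup.centralizer ({h} : Set H)).subtype) _ fun c => by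
        have hc := congrArg Subtype.val (Subgroup.mem_centralizer_singleton_iff.1 c.2)
        simp only [Subgroup.coe_mul] at hc
        have hg' : g = (MulAut.conj a⁻¹) (h : G) := by
          rw [← ha, MulAut.conj_apply]; group
        rw [Subgroup.mem_centralizer_singleton_iff]
        show (MulAut.conj a⁻¹) ((c : H) : G) * g = g * (MulAut.conj a⁻¹) ((c : H) : G)
        rw [hg', ← map_mul, ← map_mul, hc]
    have hinj : Function.Injective f := fun c d hcd =>
      Subtype.ext (Subtype.ext ((MulAut.conj a⁻¹).injective (congrArg Subtype.val hcd)))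
    exact Subgroup.card_dvd_of_injective f hinj
  have h3 := (Nat.factorization_le_iff_dvd Nat.card_pos.ne' Nat.card_pos.ne').2 hdvd 2
  omega

/-- Brauer's description of 2-blocks with defect group of order two. -/
theorem defect_two_block [Fact (Nat.Prime 2)] (hM : IsPModular 2 M) (x : G) (hx : orderOf x = 2)
    (B : Set (IrrCharacter G)) (hB : IsPBlock M B)
    (hBD : IsDefectGroup 2 M B (Subgroup.zpowers x))
    (b : Set (IrrCharacter ↥(Subgroup.centralizer ({x} : Set G))))
    (hb : IsInducedBlock M (Subgroup.centralizer ({x} : Set G)) b B)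
    (θ : IrrCharacter ↥(Subgroup.centralizer ({x} : Set G))) (hθ : θ ∈ b)
    (hθx : ∀ z : ↥(Subgroup.centralizer ({x} : Set G)), (z : G) = x →
      (θ : Subgroup.centralizer ({x} : Set G) → ℂ) z = (θ : Subgroup.centralizer ({x} : Set G) → ℂ) 1) :
    Nat.card B = 2 ∧
      (∀ χ ∈ B, ∀ ψ ∈ B, ∀ g : G, ¬ 2 ∣ orderOf g → (χ : G → ℂ) g = (ψ : G → ℂ) g) ∧
      ∃ χ₁ ∈ B, ∃ χ₂ ∈ B, χ₁ ≠ χ₂ ∧ ∃ ε₁ ε₂ : ℤ, (ε₁ = 1 ∨ ε₁ = -1) ∧ (ε₂ = 1 ∨ ε₂ = -1) ∧
        ε₁ * ε₂ = -1 ∧ ∀ y : ↥(Subgroup.centralizer ({x} : Set G)), ¬ 2 ∣ orderOf y →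
          (χ₁ : G → ℂ) (x * y) = (ε₁ : ℂ) * (θ : Subgroup.centralizer ({x} : Set G) → ℂ) y ∧
          (χ₂ : G → ℂ) (x * y) = (ε₂ : ℂ) * (θ : Subgroup.centralizer ({x} : Set G) → ℂ) y := by
  classical
  let C : Subgroup G := Subgroup.centralizer ({x} : Set G)
  have hC : C = Subgroup.centralizer ({x} : Set G) := rfl
  have : Fintype C := Fintype.ofFinite C
  have hd : blockDefect 2 B = 1 := by
    have h := Cfsg.Agent.S0908.result 2 M hM B hB _ hBD
    rw [Nat.card_zpowers, hx] at h
    exact (Nat.pow_right_injective le_rfl ((pow_one 2).trans h)).symm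
  obtain ⟨χ, hχ⟩ := IsPBlock.nonempty hM hB
  obtain ⟨ψ, hψ, hψχ, hBeq, hreg, hsing, -⟩ := defect_one_block hM hB hd hχ
  have hk : Nat.card B = 2 := by rw [hBeq, Nat.card_coe_set_eq, Set.ncard_pair hψχ.symm]
  have hxord : ∃ k : ℕ, orderOf x = 2 ^ k := ⟨1, by rw [hx, pow_one]⟩
  -- the block of the centralizer
  let x' : C := ⟨x, Subgroup.mem_centralizer_singleton_iff.2 rfl⟩
  have hx'ord : orderOf x' = 2 := by rw [← Subgroup.orderOf_coe]; exact hx
  obtain ⟨g, hg, P, hP⟩ := hBD
  have hgv : (Nat.card (Subgroup.centralizer ({g} : Set G))).factorization 2 = 1 := by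
    have h1 := congrArg (fun K : Subgroup G => Nat.card K) hP
    rw [← Nat.card_congr ((P : Subgroup (Subgroup.centralizer ({g} : Set G))).equivMapOfInjective
      (Subgroup.centralizer ({g} : Set G)).subtype Subtype.val_injective).toEquiv,
      P.card_eq_multiplicity, Nat.card_zpowers, hx] at h1
    exact (Nat.pow_right_injective le_rfl ((pow_one 2).trans h1)).symm
  have hdb : blockDefect 2 b = 1 := by
    have hle := defect_le_of_induced hM hb hg
    rw [hgv] at hle
    by_contra hne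
    have h0 : blockDefect 2 b = 0 := by omega
    have h1 := minExp_add_defect hM hb.1
    rw [h0, add_zero] at h1
    have hdiv : 2 ^ (Nat.card C).factorization 2 ∣ charDegree (θ : C → ℂ) := by
      rw [← h1]
      exact (pow_dvd_pow 2 (minExp_le hθ)).trans (Nat.ordProj_dvd _ _)
    have h2 := CfsgLib.DefectZeroVanish.vanish_of_defect_zero θ hdiv (p := 2) (g := x')
      (by rw [hx'ord])
    rw [hθx x' rfl] at h2
    exact irr_one_ne_zero θ h2
  obtain ⟨θ', -, -, -, -, -, hθnorm⟩ := defect_one_block hM hb.1 hdb hθ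
  -- sections
  have hθind : θ ∈ inducing M x B := by
    show IsInducedBlock M C (blockOf M (θ : C → ℂ)) B
    rwa [← IsPBlock.eq_blockOf hM hb.1 hθ]
  obtain ⟨X, hxX, h1X, hX, hXrep⟩ := exists_reps hx
  have hcount := card_block_eq hM hB X hX hXrep
  have hB1 : blockRank 2 B = 1 := by
    rw [blockRank_eq]
    have : regSpan 2 B = Submodule.span ℂ {pRegularPart 2 (χ : G → ℂ)} := by
      refine le_antisymm (Submodule.span_le.2 ?_) (Submodule.span_le.2 ?_)
      · rintro _ ⟨φ, hφ, rfl⟩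
        refine Submodule.mem_span_singleton.2 ⟨1, ?_⟩
        rw [one_smul]
        rw [hBeq] at hφ
        rcases hφ with rfl | rfl
        · rfl
        · funext g
          show pRegularPart 2 (χ : G → ℂ) g = pRegularPart 2 (φ : G → ℂ) g
          rw [pRegularPart_apply, pRegularPart_apply]
          by_cases hg : IsPRegular 2 g
          · rw [if_pos hg, if_pos hg, hreg g hg]
          · rw [if_neg hg, if_neg hg]
      · rintro _ rfl
        exact Submodule.subset_span ⟨χ, hχ, rfl⟩
    rw [this]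
    exact finrank_span_singleton (CfsgLib.RankOrth.pRegularPart_one_ne_zero hM.1 χ)
  have h1x : (1 : G) ≠ x := fun h => by rw [← h, orderOf_one] at hx; omega
  have hdim : Module.finrank ℂ (regSpan 2 (inducing M x B)) ≤ 1 := by
    have h2 : Module.finrank ℂ (regSpan 2 (inducing M (1 : G) B)) +
        Module.finrank ℂ (regSpan 2 (inducing M x B)) ≤
        ∑ y ∈ X, Module.finrank ℂ (regSpan 2 (inducing M y B)) := by
      rw [← Finset.sum_pair (f := fun y => Module.finrank ℂ (regSpan 2 (inducing M y B))) h1x]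
      refine Finset.sum_le_sum_of_subset ?_
      intro y hy
      simp only [Finset.mem_insert, Finset.mem_singleton] at hy
      rcases hy with rfl | rfl <;> assumption
    rw [finrank_regSpan_inducing_one hM hB, hB1, ← hcount, hk] at h2
    omega
  have hθmem : pRegularPart 2 (θ : C → ℂ) ∈ regSpan 2 (inducing M x B) :=
    Submodule.subset_span ⟨θ, hθind, rfl⟩
  have hspan : regSpan 2 (inducing M x B) = Submodule.span ℂ {pRegularPart 2 (θ : C → ℂ)} := by
    refine (Submodule.eq_of_le_of_finrank_le (Submodule.span_le.2 (Set.singleton_subset_iff.2 hθmem)) ?_).symm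
    rw [finrank_span_singleton (CfsgLib.RankOrth.pRegularPart_one_ne_zero hM.1 θ)]
    exact hdim
  have hm := (section_mem hM hxord hB χ).1 hχ
  rw [hspan, Submodule.mem_span_singleton] at hm
  obtain ⟨c, hc⟩ := hm
  have hcy : ∀ y : C, ¬ 2 ∣ orderOf y → (χ : G → ℂ) (x * (y : G)) = c * (θ : C → ℂ) y := by
    intro y hy
    have h := congrFun hc y
    rw [regPart_apply_of_regular hy, Pi.smul_apply, smul_eq_mul, pRegularPart_apply,
      if_pos (show IsPRegular 2 y from hy)] at h
    exact h.symm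
  have hcy' : ∀ y : C, ¬ 2 ∣ orderOf y → (ψ : G → ℂ) (x * (y : G)) = -c * (θ : C → ℂ) y := by
    intro y hy
    rw [hsing, hcy y hy]
    · ring
    · have hcm : Commute x (y : G) := commute_centralizer y
      rw [hcm.orderOf_mul_eq_mul_orderOf_of_coprime, hx]
      · exact dvd_mul_right 2 _
      · rw [hx, Subgroup.orderOf_coe]
        exact Nat.prime_two.coprime_iff_not_dvd.2 hy
  -- normalisation
  obtain ⟨zx, hzx⟩ := exists_int_value hx χ
  obtain ⟨d, hdpos, hd1⟩ := irr_exists_degree θ.2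
  have hreg1 : ¬ 2 ∣ orderOf (1 : C) := by rw [orderOf_one]; norm_num
  have hcd : c * (d : ℂ) = (zx : ℂ) := by
    have := hcy 1 hreg1
    rw [OneMemClass.coe_one, mul_one, hzx, hd1] at this
    exact this.symm
  have hcreal : conj c = c := by
    have hd0 : (d : ℂ) ≠ 0 := Nat.cast_ne_zero.2 hdpos.ne'
    rw [show c = (zx : ℂ) / (d : ℂ) by rw [← hcd, mul_div_cancel_right₀ _ hd0]]
    simp
  let RF := Finset.univ.filter (fun y : C => ¬ 2 ∣ orderOf y)
  let T : IrrCharacter G → ℂ := fun φ => ∑ y ∈ RF, (φ : G → ℂ) (x * (y : G)) * conj ((θ : C → ℂ) y)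
  have hTout : ∀ φ : IrrCharacter G, φ ∉ B → T φ = 0 := by
    intro φ hφ
    have h := sum_regSpan_mul hM ((section_mem hM hxord hB φ).2 hφ) (ψ := θ)
      fun ξ hξ h' => hξ (inducing_closed hM x B hθind (SameBlock.symm hM h'))
    rw [← h]
    show ∑ y ∈ RF, _ = _
    rw [Finset.sum_filter]
    refine Finset.sum_congr rfl fun y _ => ?_
    show _ = pRegularPart 2 (sectionFun x (φ : G → ℂ)) y * _
    rw [pRegularPart_apply]
    by_cases hy : ¬ 2 ∣ orderOf y
    · rw [if_pos hy, if_pos (show IsPRegular 2 y from hy)]; rfl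
    · rw [if_neg hy, if_neg (show ¬ IsPRegular 2 y from hy), zero_mul]
  have hTin : ∀ (φ : IrrCharacter G) (r : ℂ),
      (∀ y : C, ¬ 2 ∣ orderOf y → (φ : G → ℂ) (x * (y : G)) = r * (θ : C → ℂ) y) →
      T φ = r * ((Nat.card C : ℂ) / 2) := by
    intro φ r hr
    rw [← hθnorm, mul_div_cancel_left₀ _ (two_ne_zero : (2 : ℂ) ≠ 0), CfsgLib.Contribution.regSum, Finset.mul_sum]
    refine Finset.sum_congr (by ext; simp [RF]) fun y hy => ?_
    rw [hr y (Finset.mem_filter.1 hy).2, mul_assoc]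
  have hcol : ∑ φ : IrrCharacter G, T φ * conj ((φ : G → ℂ) x) = (Nat.card C : ℂ) * (d : ℂ) := by
    have h0 : ∀ y ∈ RF, ∑ φ : IrrCharacter G, (φ : G → ℂ) (x * (y : G)) * conj ((θ : C → ℂ) y) *
        conj ((φ : G → ℂ) x) = if y = 1 then (Nat.card C : ℂ) * (d : ℂ) else 0 := by
      intro y hy
      rw [Finset.sum_congr rfl fun φ _ => mul_right_comm _ _ _, ← Finset.sum_mul, column_orth]
      by_cases hy1 : y = 1
      · subst hy1
        rw [if_pos (by rw [OneMemClass.coe_one, mul_one]), if_pos rfl, hd1]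
        simp [hC]
      · rw [if_neg, zero_mul, if_neg hy1]
        intro hcon
        apply hy1
        have h1 := IsPPart.unique hM.1 (g := x * (y : G)) (x' := x * (y : G))
          (isPPart_mul (commute_centralizer y) hxord
            (by rw [Subgroup.orderOf_coe]; exact (Finset.mem_filter.1 hy).2))
        obtain ⟨a, ha⟩ := isConj_iff.1 hcon
        have h2 : orderOf (x * (y : G)) = 2 := by
          calc orderOf (x * (y : G)) = orderOf (a * (x * (y : G)) * a⁻¹) := by
                rw [← MulAut.conj_apply, MulEquiv.orderOf_eq]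
            _ = 2 := by rw [ha, hx]
        have h3 := h1
          ⟨1, mul_one _, Commute.one_right _, ⟨1, by rw [h2, pow_one]⟩,
            by rw [orderOf_one]; norm_num⟩
        exact Subtype.ext (mul_eq_left.1 h3.symm)
    simp only [T, Finset.sum_mul]
    rw [Finset.sum_comm, Finset.sum_congr rfl h0,
      Finset.sum_ite_eq' RF (1 : C) fun _ => (Nat.card C : ℂ) * (d : ℂ), if_pos]
    exact Finset.mem_filter.2 ⟨Finset.mem_univ _, hreg1⟩
  have hval : ∀ (φ : IrrCharacter G) (r : ℂ),
      (∀ y : C, ¬ 2 ∣ orderOf y → (φ : G → ℂ) (x * (y : G)) = r * (θ : C → ℂ) y) →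
      conj ((φ : G → ℂ) x) = conj r * (d : ℂ) := by
    intro φ r hr
    have := hr 1 hreg1
    rw [OneMemClass.coe_one, mul_one, hd1] at this
    rw [this, map_mul, Complex.conj_natCast]
  have hc2 : c ^ 2 = 1 := by
    rw [← Finset.sum_subset (Finset.subset_univ ({χ, ψ} : Finset (IrrCharacter G)))
      (fun φ _ hφ => by
        rw [hTout φ (fun h => hφ (by rw [hBeq] at h; simpa using h)), zero_mul]),
      Finset.sum_pair hψχ.symm, hTin χ c hcy, hTin ψ (-c) hcy', hval χ c hcy, hval ψ (-c) hcy',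
      map_neg, hcreal] at hcol
    have hd0 : (Nat.card C : ℂ) * (d : ℂ) ≠ 0 :=
      mul_ne_zero (Nat.cast_ne_zero.2 Nat.card_pos.ne') (Nat.cast_ne_zero.2 hdpos.ne')
    refine mul_right_cancel₀ hd0 ?_
    linear_combination hcol
  refine ⟨hk, fun φ hφ φ' hφ' g hg => ?_, χ, hχ, ψ, hψ, hψχ.symm, ?_⟩
  · have key : ∀ η ∈ B, (η : G → ℂ) g = (χ : G → ℂ) g := by
      intro η hη
      rw [hBeq] at hη
      rcases hη with rfl | rfl
      · rfl
      · exact hreg g hg
    rw [key φ hφ, key φ' hφ']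
  rcases sq_eq_one_iff.1 hc2 with hc1 | hc1
  · refine ⟨1, -1, Or.inl rfl, Or.inr rfl, by norm_num, fun y hy => ⟨?_, ?_⟩⟩
    · rw [hcy y hy, hc1]; norm_num
    · rw [hcy' y hy, hc1]; norm_num
  · refine ⟨-1, 1, Or.inr rfl, Or.inl rfl, by norm_num, fun y hy => ⟨?_, ?_⟩⟩
    · rw [hcy y hy, hc1]; norm_num
    · rw [hcy' y hy, hc1]; norm_num

end CfsgLib.Blk7
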