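import Cfsg.Agent.Lib.Blk7.SelfCentralSmallDegree
import Cfsg.Agent.Lib.Blocks.BlockParts
import Cfsg.Agent.Lib.Blocks.PrincipalColumn
import Cfsg.Agent.Lib.Blk4.Modular
import Cfsg.Agent.Lib.Characters.NormalRes
import Cfsg.Agent.Lib.Chars17.IrrBasic
import Cfsg.Agent.Lib.Small.AbelianFocal
import Cfsg.Agent.Lib.Characters.ItoMichlerPSolvable
import Mathlib.GroupTheory.ClassEquation
import Mathlib.GroupTheory.Transfer

/-!
Groups all of whose irreducible degrees are less than a prime `p`.
-/

set_option autoImplicit false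
set_option linter.unusedSectionVars false
set_option linter.style.haveILetI false

noncomputable section

namespace CfsgLib.DegreeLtPrime

open Cfsg CfsgLib.Characters CfsgLib.Chars17
open scoped ComplexConjugate

universe u

variable {G : Type u} [Group G] [Finite G] {p : ℕ} [hp : Fact p.Prime]

theorem exists_degree_ge_sub (H : Subgroup G) (θ : IrrCharacter H) :
    ∃ χ : IrrCharacter G, charDegree (θ : H → ℂ) ≤ charDegree (χ : G → ℂ) := by
  classical
  haveI := Fintype.ofFinite G
  haveI := Fintype.ofFinite H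
  obtain ⟨χ, hχ⟩ := NormalRes.exists_mult_ne_zero_of_irr H θ
  refine ⟨χ, ?_⟩
  choose m hm using fun η : IrrCharacter H => NormalRes.mult_nat H (irr_isCharacter χ) η
  have h1 := NormalRes.res_eq_sum H (irr_isClassFunction χ) 1
  obtain ⟨d, hd, -, -⟩ := irr_degree_dvd_card χ
  choose dn hdn using fun η : IrrCharacter H => exists_degree (irr_isCharacter η)
  simp only [OneMemClass.coe_one, hd, hm, hdn] at h1
  have h2 : d = ∑ η, m η * dn η := by exact_mod_cast h1
  rw [CfsgLib.LinearTwist.charDegree_eq_of_apply_one hd,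
    CfsgLib.LinearTwist.charDegree_eq_of_apply_one (hdn θ), h2]
  refine le_trans ?_ (Finset.single_le_sum (fun η _ => Nat.zero_le _) (Finset.mem_univ θ))
  refine Nat.le_mul_of_pos_left _ (Nat.pos_of_ne_zero fun h0 => hχ ?_)
  rw [hm, h0, Nat.cast_zero]

theorem degree_lt_sub (hb : ∀ χ : IrrCharacter G, charDegree (χ : G → ℂ) < p) (H : Subgroup G)
    (θ : IrrCharacter H) : charDegree (θ : H → ℂ) < p := by
  obtain ⟨χ, hχ⟩ := exists_degree_ge_sub H θ
  exact lt_of_le_of_lt hχ (hb χ)

theorem degree_lt_quotient (hb : ∀ χ : IrrCharacter G, charDegree (χ : G → ℂ) < p)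
    (N : Subgroup G) [N.Normal] (φ : IrrCharacter (G ⧸ N)) :
    charDegree (φ : G ⧸ N → ℂ) < p := by
  have h := hb ⟨_, Clifford.isIrrCharacter_pullback φ.2 (QuotientGroup.mk' N)
    (QuotientGroup.mk'_surjective N)⟩
  simpa [charDegree] using h

/-- In the centraliser of an element of order `p` the Sylow subgroup is generated by it, when
`p ^ 2` does not divide the group order. -/
theorem centralizer_sylow {u : G} (hu : orderOf u = p) (hsq : ¬ p ^ 2 ∣ Nat.card G) :
    ∃ P : Sylow p (Subgroup.centralizer ({u} : Set G)),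
      (P : Subgroup (Subgroup.centralizer ({u} : Set G))) =
        Subgroup.zpowers ⟨u, Subgroup.mem_centralizer_singleton_iff.2 rfl⟩ := by
  set C := Subgroup.centralizer ({u} : Set G)
  set z : C := ⟨u, Subgroup.mem_centralizer_singleton_iff.2 rfl⟩
  have hz : orderOf z = p := by rw [← Subgroup.orderOf_coe]; exact hu
  obtain ⟨P, hP⟩ := (IsPGroup.of_card (n := 1)
    (by rw [Nat.card_zpowers, hz, pow_one]) : IsPGroup p (Subgroup.zpowers z)).exists_le_sylow
  refine ⟨P, (Subgroup.eq_of_le_of_card_ge hP ?_).symm⟩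
  obtain ⟨k, hk⟩ := IsPGroup.iff_card.1 P.isPGroup'
  have hdvd : p ^ k ∣ Nat.card G :=
    hk ▸ (Subgroup.card_subgroup_dvd_card _).trans (Subgroup.card_subgroup_dvd_card C)
  have hk1 : k ≤ 1 := by
    by_contra hlt
    exact hsq ((pow_dvd_pow p (by omega : 2 ≤ k)).trans hdvd)
  rw [hk, Nat.card_zpowers, hz]
  exact le_trans (Nat.pow_le_pow_right hp.out.pos hk1) (pow_one p).le

theorem le_center_zpowers {u : G} :
    Subgroup.zpowers (⟨u, Subgroup.mem_centralizer_singleton_iff.2 rfl⟩ :
      Subgroup.centralizer ({u} : Set G)) ≤ Subgroup.center _ := by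
  rw [Subgroup.zpowers_le, Subgroup.mem_center_iff]
  intro c
  exact Subtype.ext (Subgroup.mem_centralizer_singleton_iff.1 c.2)

/-- A character in the principal block is constant on `u` times regular elements commuting
with `u`. -/
theorem apply_mul_regular [Fintype G] {M : Ideal AlgInt} (hM : IsPModular p M) {u v : G}
    (hu : orderOf u = p) (hsq : ¬ p ^ 2 ∣ Nat.card G) (hv : Commute v u) (hvp : ¬ p ∣ orderOf v)
    {χ : IrrCharacter G} (hχ : χ ∈ principalBlock M G) :
    (χ : G → ℂ) (u * v) = (χ : G → ℂ) u := by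
  classical
  obtain ⟨P, hP⟩ := centralizer_sylow hu hsq
  have hnc : Subgroup.normalizer (P : Set (Subgroup.centralizer ({u} : Set G))) ≤
      Subgroup.centralizer (P : Set (Subgroup.centralizer ({u} : Set G))) := by
    intro c _
    rw [Subgroup.mem_centralizer_iff]
    intro w hw
    change w ∈ (P : Subgroup (Subgroup.centralizer ({u} : Set G))) at hw
    rw [hP] at hw
    exact (Subgroup.mem_center_iff.1 (le_center_zpowers hw) c).symm
  let f := MonoidHom.transferSylow P hnc
  set w : Subgroup.centralizer ({u} : Set G) := ⟨v, Subgroup.mem_centralizer_singleton_iff.2 hv⟩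
  have hw : w ∈ f.ker := by
    rw [MonoidHom.mem_ker, ← orderOf_eq_one_iff]
    obtain ⟨k, hk⟩ := IsPGroup.iff_orderOf.1 P.isPGroup' (f w)
    have h2 : orderOf (f w) ∣ orderOf w := orderOf_map_dvd f w
    rw [← Subgroup.orderOf_coe w, hk] at h2
    rw [hk]
    rcases Nat.eq_zero_or_pos k with rfl | hpos
    · exact pow_zero p
    · exact absurd ((dvd_pow_self p hpos.ne').trans h2) hvp
  exact CfsgLib.Blocks.principal_apply_mul hM ⟨1, by rw [pow_one, hu]⟩ (N := f.ker)
    (MonoidHom.not_dvd_card_ker_transferSylow P hnc) hw hχ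

/-- A regular element commuting with an element of order `p` is trivial if the principal block
has a faithful character of degree less than `p`. -/
theorem regular_eq_one [Fintype G] {M : Ideal AlgInt} (hM : IsPModular p M) {x v : G}
    (hx : orderOf x = p) (hsq : ¬ p ^ 2 ∣ Nat.card G) (hv : Commute v x) (hvp : ¬ p ∣ orderOf v)
    {χ : IrrCharacter G} (hχ : χ ∈ principalBlock M G) (hd : charDegree (χ : G → ℂ) < p)
    (hf : ∀ g : G, (χ : G → ℂ) g = (χ : G → ℂ) 1 → g = 1) : v = 1 := by
  classical
  have hpart : ∀ i : ZMod p, i ≠ 0 → (χ : G → ℂ) (SelfCentralPrime.pw x i * v) =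
      (χ : G → ℂ) (SelfCentralPrime.pw x i) := by
    intro i hi
    refine apply_mul_regular hM ?_ hsq (hv.pow_right _) hvp hχ
    change orderOf (SelfCentralPrime.pw x i) = p
    exact orderOf_eq_prime
      (by rw [SelfCentralPrime.pw_pow hx, ZMod.natCast_self, mul_zero,
        (SelfCentralPrime.pw_eq_one_iff hx 0).2 rfl])
      fun h => hi ((SelfCentralPrime.pw_eq_one_iff hx i).1 h)
  obtain ⟨n, hn, hdeg, -⟩ := SelfCentralPrime.exists_mult hx χ
  obtain ⟨a, ha⟩ : ∃ a, n a = 0 := by
    by_contra hne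
    push Not at hne
    have : p ≤ ∑ a : ZMod p, n a := by
      calc p = ∑ _a : ZMod p, 1 := by simp
        _ ≤ _ := Finset.sum_le_sum fun a _ => Nat.one_le_iff_ne_zero.2 (hne a)
    omega
  obtain ⟨_, d, ρ, hρ, rfl⟩ := χ
  obtain ⟨b, ω, hω, hb⟩ := exists_eigenbasis ρ x
  have hex : ∀ l, ∃ i : ZMod p, ω l = ZMod.stdAddChar i := by
    intro l
    have hprim := Complex.isPrimitiveRoot_exp p hp.out.ne_zero
    obtain ⟨i, -, hi⟩ := hprim.eq_pow_of_pow_eq_one (hx ▸ hω l)
    refine ⟨((i : ℤ) : ZMod p), ?_⟩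
    rw [ZMod.stdAddChar_coe, ← hi, ← Complex.exp_nat_mul]
    congr 1
    push_cast
    ring
  choose j hj using hex
  have hb' : ∀ l, ρ x (b l) = ZMod.stdAddChar (j l) • b l := fun l => by rw [← hj]; exact hb l
  have hχ' : ∀ i : ZMod p, ρ.character (SelfCentralPrime.pw x i) =
      ∑ l, ZMod.stdAddChar (i * j l) := fun i =>
    character_eq_sum_of_eigenbasis ρ _ b _ (SelfCentralPrime.rho_pw hx ρ b j hb' i)
  have hcount : ∀ l, j l ≠ a := by
    intro l hl
    have h1 := hn a
    simp only [hχ', Finset.sum_mul, ← AddChar.map_add_eq_mul, ← mul_add] at h1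
    rw [Finset.sum_comm, ha] at h1
    simp only [SelfCentralPrime.sum_std, add_neg_eq_zero] at h1
    rw [Finset.sum_ite, Finset.sum_const_zero, add_zero, Finset.sum_const, nsmul_eq_mul,
      Nat.cast_zero, mul_zero, mul_eq_zero] at h1
    rcases h1 with h1 | h1
    · have h1' : (Finset.univ.filter fun l => j l = a).card = 0 := by exact_mod_cast h1
      rw [Finset.card_eq_zero] at h1'
      have : l ∈ Finset.univ.filter fun l => j l = a := by simp [hl]
      rw [h1'] at this
      simp at this
    · exact hp.out.ne_zero (by exact_mod_cast h1)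
  set T : Module.End ℂ (Fin d → ℂ) :=
    ∑ i : ZMod p, ZMod.stdAddChar (i * -a) • ρ (SelfCentralPrime.pw x i) with hT
  have hT0 : T = 0 := by
    refine b.ext fun l => ?_
    rw [hT, LinearMap.sum_apply]
    simp only [LinearMap.smul_apply, SelfCentralPrime.rho_pw hx ρ b j hb', smul_smul,
      ← Finset.sum_smul, ← AddChar.map_add_eq_mul, ← mul_add, SelfCentralPrime.sum_std,
      LinearMap.zero_apply]
    rw [if_neg, zero_smul]
    rw [neg_add_eq_zero]
    exact fun h => hcount l h.symm
  have h0 : ∀ w : G, ∑ i : ZMod p, ZMod.stdAddChar (i * -a) *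
      ρ.character (SelfCentralPrime.pw x i * w) = 0 := by
    intro w
    have h := congrArg (LinearMap.trace ℂ _) (show T * ρ w = 0 by rw [hT0, zero_mul])
    rw [hT, Finset.sum_mul, map_sum, map_zero] at h
    simpa only [smul_mul_assoc, ← map_mul, map_smul, smul_eq_mul, Representation.character] using h
  have h1 := h0 v
  have h2 := h0 1
  rw [← Finset.add_sum_erase _ _ (Finset.mem_univ (0 : ZMod p))] at h1 h2
  rw [Finset.sum_congr rfl (g := fun i => ZMod.stdAddChar (i * -a) *
      ρ.character (SelfCentralPrime.pw x i * 1)) fun i hi => by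
    rw [mul_one]; exact congrArg _ (hpart i (Finset.mem_erase.1 hi).1)] at h1
  rw [(SelfCentralPrime.pw_eq_one_iff hx 0).2 rfl, one_mul, zero_mul, AddChar.map_zero_eq_one,
    one_mul] at h1 h2
  exact hf v (by linear_combination h1 - h2)

/-- The centraliser of an element of order `p`. -/
theorem centralizer_eq [Fintype G] {M : Ideal AlgInt} (hM : IsPModular p M) {x : G}
    (hx : orderOf x = p) (hsq : ¬ p ^ 2 ∣ Nat.card G)
    {χ : IrrCharacter G} (hχ : χ ∈ principalBlock M G) (hd : charDegree (χ : G → ℂ) < p)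
    (hf : ∀ g : G, (χ : G → ℂ) g = (χ : G → ℂ) 1 → g = 1) :
    Subgroup.centralizer ({x} : Set G) = Subgroup.zpowers x := by
  refine le_antisymm (fun g hg => ?_) ?_
  · have hgx : Commute g x := Subgroup.mem_centralizer_singleton_iff.1 hg
    have hgp : ¬ p ∣ orderOf (g ^ p) := by
      intro h
      apply hsq
      by_cases hpg : p ∣ orderOf g
      · rw [orderOf_pow_of_dvd hp.out.ne_zero hpg] at h
        refine dvd_trans ?_ (orderOf_dvd_natCard g)
        rw [pow_two]
        exact Nat.mul_dvd_of_dvd_div hpg h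
      · exact absurd (h.trans (orderOf_pow_dvd p)) hpg
    have h1 : g ^ p = 1 := regular_eq_one hM hx hsq (hgx.pow_left p) hgp hχ hd hf
    set C := Subgroup.centralizer ({x} : Set G)
    obtain ⟨P, hP⟩ := centralizer_sylow hx hsq
    haveI : (P : Subgroup C).Normal := by
      rw [hP]
      exact ⟨fun a ha c => by
        rwa [Subgroup.mem_center_iff.1 (le_center_zpowers ha) c, mul_inv_cancel_right]⟩
    haveI := Sylow.unique_of_normal P ‹_›
    have hgp' : IsPGroup p (Subgroup.zpowers (⟨g, hg⟩ : C)) := by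
      intro a
      obtain ⟨k, hk⟩ := Subgroup.mem_zpowers_iff.1 a.2
      refine ⟨1, Subtype.ext (Subtype.ext ?_)⟩
      rw [pow_one, SubmonoidClass.coe_pow, ← hk, ← zpow_natCast, ← zpow_mul, mul_comm, zpow_mul,
        zpow_natCast, show (⟨g, hg⟩ : C) ^ p = 1 from Subtype.ext h1, one_zpow]
      rfl
    obtain ⟨Q, hQ⟩ := hgp'.exists_le_sylow
    rw [Subsingleton.elim Q P, hP] at hQ
    obtain ⟨k, hk⟩ := Subgroup.mem_zpowers_iff.1 (hQ (Subgroup.mem_zpowers _))
    exact ⟨k, congrArg Subtype.val hk⟩
  · rw [Subgroup.zpowers_le]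
    exact Subgroup.mem_centralizer_singleton_iff.2 rfl

/-- The principal block is not a singleton. -/
theorem exists_principal [Fintype G] {M : Ideal AlgInt} (hM : IsPModular p M) {x : G}
    (hx : orderOf x = p) :
    ∃ χ : IrrCharacter G, χ ∈ principalBlock M G ∧ χ ≠ principalIrr G := by
  classical
  by_contra hne
  push Not at hne
  have h := CfsgLib.Blocks.sum_principal_eq_zero_of_section hM (z := x) ⟨1, by rw [pow_one, hx]⟩
    (fun ζ => (ζ : G → ℂ) 1) (fun y hy hyp => by
      rw [sum_degree_mul_irr, if_neg]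
      intro hxy
      refine hyp ?_
      rw [show y = x⁻¹ from eq_inv_of_mul_eq_one_right hxy, orderOf_inv, hx])
  rw [Finset.sum_eq_single (principalIrr G)] at h
  · rw [show ((principalIrr G : IrrCharacter G) : G → ℂ) 1 = 1 from rfl,
      show ((principalIrr G : IrrCharacter G) : G → ℂ) x = 1 from rfl, mul_one] at h
    exact one_ne_zero h
  · intro ζ hζ hζ1
    exact absurd (hne ζ (Finset.mem_filter.1 hζ).2) hζ1
  · intro h'
    refine absurd (Finset.mem_filter.2 ⟨Finset.mem_univ _, ?_⟩) h'
    exact CfsgLib.Blocks.mem_blockOf_self hM (principalIrr G)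

/-- Some nonidentity element has a centraliser of index at most the square of a degree bound. -/
theorem exists_small_class [Nontrivial G] (B : ℕ)
    (hb : ∀ χ : IrrCharacter G, charDegree (χ : G → ℂ) ≤ B) :
    ∃ g : G, g ≠ 1 ∧ (Subgroup.centralizer ({g} : Set G)).index ≤ B ^ 2 := by
  classical
  haveI := Fintype.ofFinite G
  by_contra hne
  push Not at hne
  have hidx : ∀ g : G, Nat.card (ConjClasses.mk g).carrier =
      (Subgroup.centralizer ({g} : Set G)).index := fun g => by
    rw [← ConjAct.orbit_eq_carrier_conjClasses,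
      Nat.card_congr (MulAction.orbitEquivQuotientStabilizer _ _), Subgroup.index_eq_card,
      ConjAct.stabilizer_eq_centralizer]
    rfl
  have hk := card_irr_eq_card_conjClasses (G := G)
  rw [Nat.card_eq_fintype_card, Nat.card_eq_fintype_card] at hk
  have h1 : 1 + (Fintype.card (ConjClasses G) - 1) * (B ^ 2 + 1) ≤ Fintype.card G := by
    rw [← sum_conjClasses_card_eq_card G, ← Finset.add_sum_erase _ _ (Finset.mem_univ (ConjClasses.mk (1 : G)))]
    refine add_le_add ?_ ?_
    · exact Finset.card_pos.2 ⟨1, Set.mem_toFinset.2 ConjClasses.mem_carrier_mk⟩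
    · rw [show Fintype.card (ConjClasses G) - 1 = (Finset.univ.erase (ConjClasses.mk (1 : G))).card
        by rw [Finset.card_erase_of_mem (Finset.mem_univ _), Finset.card_univ], ← smul_eq_mul,
        ← Finset.sum_const]
      refine Finset.sum_le_sum fun C hC => ?_
      obtain ⟨g, rfl⟩ := ConjClasses.exists_rep C
      have hg1 : g ≠ 1 := fun h => (Finset.mem_erase.1 hC).1 (by rw [h])
      have := hne g hg1
      rw [Set.toFinset_card, ← Nat.card_eq_fintype_card, hidx]
      omega
  have h2 : Fintype.card G ≤ 1 + (Fintype.card (ConjClasses G) - 1) * B ^ 2 := by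
    choose d hd hd0 _hdv using irr_degree_dvd_card (G := G)
    have h3 := sum_sq_degrees (G := G)
    simp only [hd] at h3
    have h4 : ∑ χ : IrrCharacter G, d χ ^ 2 = Fintype.card G := by
      rw [← Nat.card_eq_fintype_card]; exact_mod_cast h3
    have hd1 : d (principalIrr G) = 1 := by
      have : (1 : ℂ) = (d (principalIrr G) : ℂ) := hd (principalIrr G)
      exact_mod_cast this.symm
    rw [← h4, ← Finset.add_sum_erase _ _ (Finset.mem_univ (principalIrr G)), hd1, one_pow, ← hk,
      show Fintype.card (IrrCharacter G) - 1 = (Finset.univ.erase (principalIrr G)).card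
        by rw [Finset.card_erase_of_mem (Finset.mem_univ _), Finset.card_univ],
      ← smul_eq_mul, ← Finset.sum_const]
    refine Nat.add_le_add_left (Finset.sum_le_sum fun χ _ => Nat.pow_le_pow_left ?_ 2) 1
    rw [← CfsgLib.LinearTwist.charDegree_eq_of_apply_one (hd χ)]
    exact hb χ
  have h5 : 2 ≤ Fintype.card (ConjClasses G) := by
    obtain ⟨g, hg⟩ := exists_ne (1 : G)
    refine Fintype.one_lt_card_iff.2 ⟨ConjClasses.mk g, ConjClasses.mk 1, fun h => hg ?_⟩
    exact isConj_one_left.1 (ConjClasses.mk_eq_mk_iff_isConj.1 h)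
  rw [mul_add, mul_one] at h1
  omega

/-- A simple group whose degrees are less than `p` has order prime to `p`, if every proper
subgroup has a normal abelian Sylow subgroup. -/
theorem simple_case [IsSimpleGroup G] (hnc : ¬ IsMulCommutative G)
    (hb : ∀ χ : IrrCharacter G, charDegree (χ : G → ℂ) < p)
    (hsub : ∀ H : Subgroup G, H ≠ ⊤ → ∀ S : Sylow p H, (S : Subgroup H).Normal ∧
      ∀ a ∈ (S : Subgroup H), ∀ b ∈ (S : Subgroup H), a * b = b * a) :
    ¬ p ∣ Nat.card G := by
  classical
  intro hpG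
  haveI := Fintype.ofFinite G
  have hZ := Small.center_eq_bot_of_nc hnc
  have hker : ∀ χ : IrrCharacter G, χ ≠ principalIrr G → ∀ g : G,
      (χ : G → ℂ) g = (χ : G → ℂ) 1 → g = 1 := by
    intro χ hχ g hg
    rcases Small.eq_bot_or_top (irrKer χ) with h | h
    · have : g ∈ irrKer χ := mem_irrKer.2 hg
      rwa [h, Subgroup.mem_bot] at this
    · exact absurd (Subtype.ext ((irrKer_eq_top_iff χ).1 h)) hχ
  by_cases hsq : p ^ 2 ∣ Nat.card G
  swap
  · obtain ⟨x, hx⟩ := exists_prime_orderOf_dvd_card' p hpG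
    obtain ⟨M, hM⟩ := CfsgLib.Blk4.Modular.exists_isPModular p hp.out
    obtain ⟨χ, hχ, hχ1⟩ := exists_principal hM hx
    have hC := centralizer_eq hM hx hsq hχ (hb χ) (hker χ hχ1)
    refine SelfCentralPrime.exists_degree_ge hx hC (Small.commutator_eq_top hnc)
      (fun ψ hψ h => ?_) hb
    have := hker ψ hψ x h
    rw [this, orderOf_one] at hx
    exact hp.out.ne_one hx.symm
  -- the Sylow subgroups are abelian and meet trivially
  have hPab : ∀ P : Sylow p G, ∀ a ∈ (P : Subgroup G), ∀ b ∈ (P : Subgroup G), a * b = b * a := by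
    intro P a ha b hb'
    have hne : (P : Subgroup G) ≠ ⊤ := by
      intro h
      have hG : IsPGroup p G := (h ▸ P.isPGroup').of_equiv Subgroup.topEquiv
      have := hG.center_nontrivial
      rw [hZ] at this
      exact not_nontrivial _ this
    obtain ⟨Q, hQ⟩ := (P.isPGroup'.to_subgroup (⊤ : Subgroup (P : Subgroup G))).exists_le_sylow
    exact congrArg Subtype.val ((hsub P hne Q).2 ⟨a, ha⟩ (hQ (Subgroup.mem_top _)) ⟨b, hb'⟩
      (hQ (Subgroup.mem_top _)))
  have huniq : ∀ (P Q : Sylow p G) (z : G), z ≠ 1 → z ∈ (P : Subgroup G) → z ∈ (Q : Subgroup G) →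
      P = Q := by
    intro P Q z hz hzP hzQ
    set C := Subgroup.centralizer ({z} : Set G)
    have hC : C ≠ ⊤ := by
      intro h
      apply hz
      have : z ∈ Subgroup.center G := Subgroup.mem_center_iff.2 fun g =>
        Subgroup.mem_centralizer_singleton_iff.1 (by rw [show Subgroup.centralizer ({z} : Set G) = ⊤ from h]; trivial)
      rwa [hZ, Subgroup.mem_bot] at this
    have hPC : (P : Subgroup G) ≤ C := fun a ha =>
      Subgroup.mem_centralizer_singleton_iff.2 (hPab P a ha z hzP)
    have hQC : (Q : Subgroup G) ≤ C := fun a ha =>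
      Subgroup.mem_centralizer_singleton_iff.2 (hPab Q a ha z hzQ)
    haveI := (hsub C hC (P.subtype hPC)).1
    haveI := Sylow.unique_of_normal (P.subtype hPC) ‹_›
    exact Sylow.subtype_injective (Subsingleton.elim (P.subtype hPC) (Q.subtype hQC))
  obtain ⟨g, hg, hgi⟩ := exists_small_class (G := G) (p - 1) fun χ => Nat.le_sub_one_of_lt (hb χ)
  set H := Subgroup.centralizer ({g} : Set G)
  have hH : H ≠ ⊤ := by
    intro h
    apply hg
    have : g ∈ Subgroup.center G := Subgroup.mem_center_iff.2 fun a =>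
      Subgroup.mem_centralizer_singleton_iff.1 (by rw [show Subgroup.centralizer ({g} : Set G) = ⊤ from h]; trivial)
    rwa [hZ, Subgroup.mem_bot] at this
  have hlt : H.index < p ^ 2 := by
    have h2 : (p - 1) ^ 2 < p ^ 2 := Nat.pow_lt_pow_left (by have := hp.out.pos; omega) two_ne_zero
    omega
  obtain ⟨S⟩ : Nonempty (Sylow p H) := inferInstance
  have hSn := (hsub H hH S).1
  have hS : (S : Subgroup H) ≠ ⊥ := by
    intro hbot
    have h1 : ¬ p ∣ Nat.card H := by
      intro h
      have h' := S.not_dvd_index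
      rw [hbot, Subgroup.index_bot] at h'
      exact h' h
    have h2 : p ^ 2 ∣ H.index := by
      refine (Nat.Coprime.pow_left 2 (hp.out.coprime_iff_not_dvd.2 h1)).dvd_of_dvd_mul_left ?_
      rw [Subgroup.card_mul_index]
      exact hsq
    exact absurd (Nat.le_of_dvd (Nat.pos_of_ne_zero Subgroup.index_ne_zero_of_finite) h2) (by omega)
  obtain ⟨Q, hQ⟩ := (S.isPGroup'.map H.subtype).exists_le_sylow
  obtain ⟨s, hs, hs1⟩ := (Subgroup.bot_or_exists_ne_one (S : Subgroup H)).resolve_left hS
  have hHN : H ≤ Subgroup.normalizer (Q : Set G) := by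
    intro h hh
    rw [← Sylow.smul_eq_iff_mem_normalizer]
    refine huniq _ _ (h * (s : G) * h⁻¹) ?_ ?_ (hQ ⟨⟨h, hh⟩ * s * ⟨h, hh⟩⁻¹, hSn.conj_mem s hs _, rfl⟩)
    · intro e
      exact hs1 (Subtype.ext (conj_eq_one_iff.1 e))
    · exact Subgroup.smul_mem_pointwise_smul _ (MulAut.conj h) _ (hQ ⟨s, hs, rfl⟩)
  have hcard : Nat.card (Sylow p G) ≤ H.index := by
    rw [Sylow.card_eq_index_normalizer Q]
    exact Nat.le_of_dvd (Nat.pos_of_ne_zero Subgroup.index_ne_zero_of_finite)
      (Subgroup.index_dvd_of_le hHN)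
  obtain ⟨R, hR⟩ : ∃ R : Sylow p G, R ≠ Q := by
    by_contra hall
    push Not at hall
    have hQn : (Q : Subgroup G).Normal := by
      rw [← Subgroup.normalizer_eq_top_iff, ← Subgroup.index_eq_one,
        show (Subgroup.normalizer ((Q : Subgroup G) : Set G)).index = Nat.card (Sylow p G) from
          (Sylow.card_eq_index_normalizer Q).symm,
        Nat.card_eq_one_iff_unique]
      exact ⟨⟨fun a b => (hall a).trans (hall b).symm⟩, ⟨Q⟩⟩
    rcases Small.eq_bot_or_top (Q : Subgroup G) with h | h
    · have : (s : G) ∈ (Q : Subgroup G) := hQ ⟨s, hs, rfl⟩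
      rw [h, Subgroup.mem_bot] at this
      exact hs1 (Subtype.ext this)
    · have hG : IsPGroup p G := (h ▸ Q.isPGroup').of_equiv Subgroup.topEquiv
      have := hG.center_nontrivial
      rw [hZ] at this
      exact not_nontrivial _ this
  have hinj : Function.Injective (fun u : (Q : Subgroup G) => (u : G) • R) := by
    intro u v huv
    have h1 : ((u⁻¹ * v : (Q : Subgroup G)) : G) • R = R := by
      rw [Subgroup.coe_mul, InvMemClass.coe_inv, mul_smul, inv_smul_eq_iff]
      exact huv.symm
    have h2 : ((u⁻¹ * v : (Q : Subgroup G)) : G) ∈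
        (Q : Subgroup G) ⊓ Subgroup.normalizer (R : Set G) :=
      ⟨(u⁻¹ * v).2, Sylow.smul_eq_iff_mem_normalizer.1 h1⟩
    rw [Q.isPGroup'.inf_normalizer_sylow] at h2
    by_contra hne
    refine hR (huniq R Q _ ?_ h2.2 h2.1)
    intro e
    exact hne (inv_mul_eq_one.1 (Subtype.ext e))
  have hQcard : p ^ 2 ≤ Nat.card (Q : Subgroup G) :=
    Nat.le_of_dvd Nat.card_pos (by
      rw [Q.card_eq_multiplicity]
      exact pow_dvd_pow p ((hp.out.pow_dvd_iff_le_factorization Nat.card_pos.ne').1 hsq))
  have := Nat.card_le_card_of_injective _ hinj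
  omega

/-- A group all of whose degrees are less than `p` is `p`-solvable. -/
theorem isPSolvable (n : ℕ) : ∀ (G : Type u) [Group G] [Finite G], Nat.card G = n →
    (∀ χ : IrrCharacter G, charDegree (χ : G → ℂ) < p) → IsPSolvable p G := by
  induction n using Nat.strong_induction_on with
  | _ n ih =>
    intro G _ _ hn hb
    have hdeg : ∀ (X : Type u) [Group X] [Finite X],
        (∀ χ : IrrCharacter X, charDegree (χ : X → ℂ) < p) →
        ∀ χ : IrrCharacter X, ¬ p ∣ charDegree (χ : X → ℂ) := by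
      intro X _ _ h χ hdvd
      have := Nat.le_of_dvd ?_ hdvd
      · exact absurd (h χ) (by omega)
      · obtain ⟨m, hm, hm0, -⟩ := irr_degree_dvd_card χ
        rwa [CfsgLib.LinearTwist.charDegree_eq_of_apply_one hm]
    have hlt : ∀ H : Subgroup G, H ≠ ⊤ → Nat.card H < n := fun H hH => by
      rw [← hn, ← H.card_mul_index]
      exact lt_mul_of_one_lt_right Nat.card_pos (Subgroup.one_lt_index_of_ne_top hH)
    by_cases hN : ∃ N : Subgroup G, N.Normal ∧ N ≠ ⊥ ∧ N ≠ ⊤
    · obtain ⟨N, hNn, hN0, hN1⟩ := hN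
      refine PCore.isPSolvable_extension N (ih _ (hlt N hN1) N rfl (degree_lt_sub hb N))
        (ih _ ?_ (G ⧸ N) rfl (degree_lt_quotient hb N))
      have h1 := N.card_eq_card_quotient_mul_card_subgroup
      have h2 : 1 < Nat.card N := N.one_lt_card_iff_ne_bot.mpr hN0
      rw [hn] at h1
      rw [h1]
      exact lt_mul_of_one_lt_right Nat.card_pos h2
    push Not at hN
    by_cases hpG : p ∣ Nat.card G
    swap
    · exact PCore.isPSolvable_of_coprime ((hp.out.coprime_iff_not_dvd.2 hpG).symm)
    haveI : Nontrivial G := Finite.one_lt_card_iff_nontrivial.1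
      (hp.out.one_lt.trans_le (Nat.le_of_dvd Nat.card_pos hpG))
    haveI : IsSimpleGroup G := ⟨fun N hNn => or_iff_not_imp_left.2 (hN N hNn)⟩
    by_cases hc : IsMulCommutative G
    · haveI := hc
      haveI : Group.IsSolvable G := Group.isSolvable_of_comm fun a b => hc.is_comm.comm a b
      exact PCore.isPSolvable_of_isSolvable
    refine absurd hpG (simple_case hc hb fun H hH S => ?_)
    have hH' := degree_lt_sub hb H
    have hs := ih _ (hlt H hH) H rfl hH'
    haveI := ItoMichler.normal_sylow hs (hdeg H hH') S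
    exact ⟨inferInstance, ItoMichler.comm_of_normal_pgroup (hdeg H hH') _ S.isPGroup'⟩

end CfsgLib.DegreeLtPrime
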