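import Cfsg.Agent.Lib.Characters.Galois
import Cfsg.Agent.Lib.Characters.Monomial
import Mathlib.GroupTheory.Perm.Subgroup
import Mathlib.NumberTheory.Padics.PadicVal.Basic
import Mathlib.Algebra.Algebra.Hom.Rat
import Mathlib.Data.ZMod.Units

/-!
The order of a `p`-group with a faithful irreducible character of given degree and field of
values.
-/

set_option autoImplicit false
set_option linter.unusedSectionVars false
set_option linter.style.haveILetI false

noncomputable section

namespace CfsgLib.FieldBound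

open Cfsg CfsgLib.Characters CfsgLib.CharGalois
open scoped ComplexConjugate

universe u

variable {G : Type u} [Group G] [Finite G]

/-- The exponents fixing a character. -/
def fixUnits (χ : G → ℂ) (n : ℕ) (hn : Nat.card G = n) : Subgroup (ZMod n)ˣ where
  carrier := {u | ∀ g : G, χ (g ^ (u : ZMod n).val) = χ g}
  one_mem' := fun g => by
    haveI : NeZero n := ⟨hn ▸ Nat.card_pos.ne'⟩
    have hm : ∀ (x : G) (k : ℕ), x ^ (k % n) = x ^ k := fun x k => by subst hn; exact pow_mod_natCard x k
    rw [Units.val_one, ← Nat.cast_one, ZMod.val_natCast, hm, pow_one]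
  mul_mem' := fun {a b} ha hb g => by
    have hm : ∀ (x : G) (k : ℕ), x ^ (k % n) = x ^ k := fun x k => by subst hn; exact pow_mod_natCard x k
    rw [Units.val_mul, ZMod.val_mul, hm, pow_mul, hb, ha]
  inv_mem' := fun {a} ha g => by
    haveI : NeZero n := ⟨hn ▸ Nat.card_pos.ne'⟩
    have hm : ∀ (x : G) (k : ℕ), x ^ (k % n) = x ^ k := fun x k => by subst hn; exact pow_mod_natCard x k
    have h := ha (g ^ ((a⁻¹ : (ZMod n)ˣ) : ZMod n).val)
    rw [← pow_mul, ← hm, ← ZMod.val_mul, ← Units.val_mul, inv_mul_cancel,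
      Units.val_one, ← Nat.cast_one, ZMod.val_natCast, hm, pow_one] at h
    exact h.symm

theorem finrank_adjoin_values (χ : G → ℂ) (hχ : IsCharacter G χ) (n : ℕ) [NeZero n]
    (hn : Nat.card G = n) :
    Module.finrank ℚ (IntermediateField.adjoin ℚ (Set.range χ)) = (fixUnits χ n hn).index := by
  classical
  have hζ := Complex.isPrimitiveRoot_exp n (NeZero.ne n)
  set ζ : ℂ := Complex.exp (2 * Real.pi * Complex.I / n)
  let L : IntermediateField ℚ ℂ := IntermediateField.adjoin ℚ {ζ}
  have : IsCyclotomicExtension {n} ℚ L := isCyclotomic_adjoin hζ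
  have : FiniteDimensional ℚ L := IsCyclotomicExtension.finiteDimensional {n} ℚ L
  have : IsGalois ℚ L := IsCyclotomicExtension.isGalois {n} ℚ L
  have hmem : ∀ g : G, χ g ∈ L := by
    intro g
    obtain ⟨N, z, hz, hd⟩ := exists_root_decomp hχ g
    have h1 := hd 1
    rw [pow_one] at h1
    rw [h1]
    refine sum_mem fun i _ => ?_
    rw [pow_one]
    obtain ⟨j, -, hj⟩ := hζ.eq_pow_of_pow_eq_one (hn ▸ hz i)
    exact hj ▸ pow_mem (IntermediateField.mem_adjoin_simple_self ℚ ζ) j
  let v : G → L := fun g => ⟨χ g, hmem g⟩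
  let K0 : IntermediateField ℚ L := IntermediateField.adjoin ℚ (Set.range v)
  let f : L →ₐ[ℚ] ℂ := RingHom.toRatAlgHom (L.val.toRingHom)
  have hlift : K0.map f = IntermediateField.adjoin ℚ (Set.range χ) := by
    rw [IntermediateField.adjoin_map, ← Set.range_comp]
    rfl
  rw [← hlift, ← (K0.equivMap f).toLinearEquiv.finrank_eq,
    IntermediateField.finrank_eq_fixingSubgroup_index]
  -- transport to the units
  let h := Polynomial.cyclotomic.irreducible_rat (n := n) (NeZero.pos n)
  let Φ := IsCyclotomicExtension.autEquivPow L h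
  have hact : ∀ (τ : L ≃ₐ[ℚ] L) (g : G),
      ((τ (v g) : L) : ℂ) = χ (g ^ ((Φ τ : (ZMod n)ˣ) : ZMod n).val) := by
    intro τ g
    obtain ⟨N, z, hz, hd⟩ := exists_root_decomp hχ g
    have hzL : ∀ i, z i ∈ L := fun i => by
      obtain ⟨j, -, hj⟩ := hζ.eq_pow_of_pow_eq_one (hn ▸ hz i)
      exact hj ▸ pow_mem (IntermediateField.mem_adjoin_simple_self ℚ ζ) j
    have hv : v g = ∑ i, (⟨z i, hzL i⟩ : L) := by
      apply Subtype.ext
      rw [← L.coe_val, map_sum]
      have h1 := hd 1
      rw [pow_one] at h1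
      show χ g = _
      rw [h1]
      simp
    rw [hv, map_sum, ← L.coe_val, map_sum, hd]
    refine Finset.sum_congr rfl fun i _ => ?_
    rw [autToPow_spec' n τ (Subtype.ext (hn ▸ hz i) : (⟨z i, hzL i⟩ : L) ^ n = 1)]
    rfl
  have hmap : K0.fixingSubgroup.map Φ.toMonoidHom = fixUnits χ n hn := by
    ext u
    obtain ⟨τ, rfl⟩ := Φ.surjective u
    rw [Subgroup.mem_map_equiv, MulEquiv.symm_apply_apply]
    constructor
    · intro hτ g
      rw [← hact]
      have := (IntermediateField.mem_fixingSubgroup_iff K0 τ).1 hτ (v g)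
        (IntermediateField.subset_adjoin ℚ _ ⟨g, rfl⟩)
      rw [this]
    · intro hτ
      have hle : K0 ≤ IntermediateField.fixedField (Subgroup.zpowers τ) := by
        refine IntermediateField.adjoin_le_iff.2 ?_
        rintro _ ⟨g, rfl⟩
        rintro ⟨σ, hσ⟩
        have hfix : τ ∈ MulAction.stabilizer (L ≃ₐ[ℚ] L) (v g) := by
          refine Subtype.ext ?_
          show ((τ (v g) : L) : ℂ) = χ g
          rw [hact]; exact hτ g
        exact (Subgroup.zpowers_le.2 hfix hσ : σ • v g = v g)
      exact (IntermediateField.le_iff_le _ _).1 hle (Subgroup.mem_zpowers τ)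
  rw [← hmap]
  exact (Subgroup.index_map_equiv _ Φ).symm

/-- Distinct powers of a linear constituent with the same kernel. -/
theorem exists_kernel_count [Fintype G] {p a t : ℕ} [Fact p.Prime] (hP : Nat.card G = p ^ a)
    (ha : 0 < a) (χ : G → ℂ)
    (hidx : (fixUnits χ (p ^ a) hP).index = (p - 1) * p ^ t) {A : Subgroup G} {ι : Type*} [Fintype ι]
    [DecidableEq ι] (lam : ι → (A →* ℂˣ)) (hsum : ∀ x : A, χ x = ∑ i, (lam i x : ℂ)) (i : ι)
    [DecidablePred fun j => (lam j).ker = (lam i).ker] :
    ∃ m : ℕ, (lam i).ker.index = p ^ m ∧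
      m ≤ (Finset.univ.filter fun j => (lam j).ker = (lam i).ker).card * (t + 1) := by
  classical
  have hp : p.Prime := Fact.out
  haveI : NeZero (p ^ a) := ⟨pow_ne_zero a hp.ne_zero⟩
  set c := (Finset.univ.filter fun j => (lam j).ker = (lam i).ker).card
  have hc1 : 1 ≤ c := Finset.card_pos.2 ⟨i, by simp⟩
  obtain ⟨m, hma, hm⟩ : ∃ m ≤ a, (lam i).ker.index = p ^ m := by
    refine (Nat.dvd_prime_pow hp).1 ?_
    exact (Subgroup.index_dvd_card _).trans (hP ▸ Subgroup.card_subgroup_dvd_card A)
  refine ⟨m, hm, ?_⟩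
  rcases le_or_gt m (t + 1) with hle | hlt
  · exact hle.trans (Nat.le_mul_of_pos_left _ hc1)
  haveI : IsCyclic (lam i).range := inferInstance
  obtain ⟨⟨w, x, hx⟩, hw⟩ := IsCyclic.exists_generator (α := (lam i).range)
  have hw_ord : orderOf (lam i x) = p ^ m := by
    rw [← hm, Subgroup.index_ker, ← orderOf_eq_card_of_forall_mem_zpowers hw, ← Subgroup.orderOf_coe,
      hx]
  set H := fixUnits χ (p ^ a) hP
  have hcop : ∀ u : (ZMod (p ^ a))ˣ, ((u : ZMod (p ^ a)).val).Coprime (Nat.card A) := fun u =>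
    (ZMod.val_coe_unit_coprime u).coprime_dvd_right (hP ▸ Subgroup.card_subgroup_dvd_card A)
  -- each twist is a constituent
  have hocc : ∀ u ∈ H, ∃ j, lam j = lam i ^ (u : ZMod (p ^ a)).val := by
    intro u hu
    set k := (u : ZMod (p ^ a)).val
    let μ := lam i ^ k
    have hirr : ∀ f : A →* ℂˣ, IsIrrCharacter A (fun x => (f x : ℂ)) := fun f =>
      isIrrCharacter_of_hom f
    haveI := Fintype.ofFinite A
    have hinner : ∀ f f' : A →* ℂˣ, classInner (fun x => (f x : ℂ)) (fun x => (f' x : ℂ)) =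
        if f = f' then 1 else 0 := by
      intro f f'
      split_ifs with hff
      · subst hff; exact classInner_irr_self (hirr f)
      · exact classInner_irr_ne (hirr f) (hirr f') fun h => hff
          (MonoidHom.ext fun x => Units.ext (congrFun h x))
    have hfun : (fun x : A => ∑ j, ((lam j ^ k) x : ℂ)) = fun x : A => ∑ j, (lam j x : ℂ) := by
      funext x
      have h1 := hsum (x ^ k)
      rw [Subgroup.coe_pow, hu, hsum] at h1
      simp only [map_pow] at h1
      simpa only [MonoidHom.pow_apply] using h1.symm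
    have h2 := congrArg (fun F => classInner F (fun x => (μ x : ℂ))) hfun
    rw [show (fun x : A => ∑ j, ((lam j ^ k) x : ℂ)) = ∑ j, fun x : A => ((lam j ^ k) x : ℂ) from
      funext fun x => by simp [Finset.sum_apply],
      show (fun x : A => ∑ j, (lam j x : ℂ)) = ∑ j, fun x : A => (lam j x : ℂ) from
      funext fun x => by simp [Finset.sum_apply],
      classInner_sum_left, classInner_sum_left] at h2
    simp only [hinner, Finset.sum_boole, Nat.cast_inj] at h2
    have hpos : 0 < (Finset.univ.filter fun j => lam j ^ k = μ).card :=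
      Finset.card_pos.2 ⟨i, by simp [μ]⟩
    rw [h2, Finset.card_pos] at hpos
    obtain ⟨j, hj⟩ := hpos
    exact ⟨j, (Finset.mem_filter.1 hj).2⟩
  haveI : Nonempty ι := ⟨i⟩
  choose! J hJ using hocc
  -- equal kernels
  have hker : ∀ u ∈ H, (lam (J u)).ker = (lam i).ker := by
    intro u hu
    rw [hJ u hu]
    ext y
    simp only [MonoidHom.mem_ker, MonoidHom.pow_apply]
    rw [← map_pow]
    constructor
    · intro h1
      obtain ⟨l, hl⟩ := exists_pow_eq_self_of_coprime (x := y)
        ((hcop u).coprime_dvd_right (orderOf_dvd_natCard y))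
      rw [← hl, map_pow, h1, one_pow]
    · intro h1
      rw [map_pow, h1, one_pow]
  -- count the twists
  let red : (ZMod (p ^ a))ˣ →* (ZMod (p ^ m))ˣ := ZMod.unitsMap (pow_dvd_pow p hma)
  haveI : NeZero (p ^ m) := ⟨pow_ne_zero m hp.ne_zero⟩
  have hinj : ∀ u ∈ H, ∀ v ∈ H, J u = J v → red u = red v := by
    intro u hu v hv huv
    have h1 : lam i ^ (u : ZMod (p ^ a)).val = lam i ^ (v : ZMod (p ^ a)).val := by
      rw [← hJ u hu, huv, hJ v hv]
    have h2 := DFunLike.congr_fun h1 x
    rw [MonoidHom.pow_apply, MonoidHom.pow_apply, pow_eq_pow_iff_modEq, hw_ord,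
      ← ZMod.natCast_eq_natCast_iff] at h2
    refine Units.ext ?_
    have h3 : ∀ z : ZMod (p ^ a), (ZMod.castHom (pow_dvd_pow p hma) (ZMod (p ^ m))) z =
        ((z.val : ℕ) : ZMod (p ^ m)) := fun z => by
      conv_lhs => rw [← ZMod.natCast_zmod_val z]
      rw [map_natCast]
    show (ZMod.castHom (pow_dvd_pow p hma) (ZMod (p ^ m))) (u : ZMod (p ^ a)) =
      (ZMod.castHom (pow_dvd_pow p hma) (ZMod (p ^ m))) (v : ZMod (p ^ a))
    rw [h3, h3, h2]
  have hcount : Nat.card (H.map red) ≤ c := by
    have hsur : Function.Surjective (fun u : H => (⟨red u, ⟨u, u.2, rfl⟩⟩ : H.map red)) := by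
      rintro ⟨_, u, hu, rfl⟩
      exact ⟨⟨u, hu⟩, rfl⟩
    choose sec hsec using hsur
    rw [Nat.card_eq_fintype_card]
    refine Finset.card_le_card_of_injOn (fun y : H.map red => J (sec y : (ZMod (p ^ a))ˣ)) ?_ ?_
    · intro y _
      simp [hker _ (sec y).2]
    · intro y _ z _ hyz
      have h1 := hinj _ (sec y).2 _ (sec z).2 hyz
      rw [← hsec y, ← hsec z]
      exact Subtype.ext h1
  have hmpos : 0 < m := by omega
  have hcardH : Nat.card H * p ^ t = p ^ (a - 1) := by
    have h1 := H.index_mul_card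
    rw [hidx, Nat.card_eq_fintype_card, Nat.card_eq_fintype_card, ZMod.card_units_eq_totient,
      Nat.totient_prime_pow hp ha] at h1
    refine Nat.eq_of_mul_eq_mul_left (Nat.sub_pos_of_lt hp.one_lt) ?_
    rw [mul_comm (p - 1) (p ^ (a - 1)), ← h1, Nat.card_eq_fintype_card]
    ring
  have hkerred : Nat.card red.ker * p ^ (m - 1) = p ^ (a - 1) := by
    have h1 := red.ker.card_mul_index
    rw [Subgroup.index_ker, MonoidHom.range_eq_top_of_surjective _
      (ZMod.unitsMap_surjective (pow_dvd_pow p hma)), Subgroup.card_top,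
      Nat.card_eq_fintype_card (α := (ZMod (p ^ m))ˣ), Nat.card_eq_fintype_card (α := (ZMod (p ^ a))ˣ),
      ZMod.card_units_eq_totient, ZMod.card_units_eq_totient, Nat.totient_prime_pow hp ha,
      Nat.totient_prime_pow hp hmpos, ← mul_assoc] at h1
    exact Nat.eq_of_mul_eq_mul_right (Nat.sub_pos_of_lt hp.one_lt) h1
  have hH : Nat.card H ≤ Nat.card (H.map red) * Nat.card red.ker := by
    have h1 := (red.comp H.subtype).ker.index_mul_card
    rw [Subgroup.index_ker, MonoidHom.range_comp, Subgroup.range_subtype] at h1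
    rw [← h1]
    refine Nat.mul_le_mul_left _ ?_
    exact Nat.card_le_card_of_injective
      (fun y : (red.comp H.subtype).ker => (⟨((y : H) : (ZMod (p ^ a))ˣ), y.2⟩ : red.ker))
      fun y z h => Subtype.ext (Subtype.ext (congrArg (fun w : red.ker => (w : (ZMod (p ^ a))ˣ)) h))
  -- conclude
  have hpow : p ^ (m - 1) ≤ c * p ^ t := by
    refine Nat.le_of_mul_le_mul_left ?_ (Nat.card_pos (α := red.ker))
    calc Nat.card red.ker * p ^ (m - 1) = Nat.card H * p ^ t := by rw [hkerred, hcardH]
      _ ≤ (c * Nat.card red.ker) * p ^ t :=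
          Nat.mul_le_mul_right _ (hH.trans (Nat.mul_le_mul_right _ hcount))
      _ = _ := by ring
  have hpk : p ^ (m - 1 - t) ≤ c := by
    refine Nat.le_of_mul_le_mul_right ?_ (pow_pos hp.pos t)
    rwa [← pow_add, show m - 1 - t + t = m - 1 by omega]
  have hk : m - 1 - t < p ^ (m - 1 - t) := Nat.lt_pow_self hp.one_lt
  calc m ≤ (m - 1 - t + 1) * (t + 1) := by
        obtain ⟨s, hs⟩ := Nat.exists_eq_add_of_lt hlt
        rw [show m - 1 - t = s + 1 by omega]
        nlinarith
    _ ≤ c * (t + 1) := Nat.mul_le_mul_right _ (by omega)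

end CfsgLib.FieldBound
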