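import Mathlib.GroupTheory.PGroup
import Mathlib.GroupTheory.QuotientGroup.Basic
import Mathlib.LinearAlgebra.Dual.Lemmas
import Mathlib.Algebra.MonoidAlgebra.Basic
import Mathlib.Algebra.CharP.Basic

/-!
The nilpotency argument behind Fong's theorem on blocks over a `p'`-core, inside the group
algebra over a field of characteristic `p`.
-/

set_option autoImplicit false

noncomputable section

namespace CfsgLib.FongAlg

open MonoidAlgebra

/-- A fixed-point-free invariant sum vanishes in characteristic `p`. -/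
theorem sum_eq_zero_of_no_fixed {Γ X V : Type*} [Group Γ] [Finite Γ] [Fintype X] [MulAction Γ X]
    [AddCommMonoid V] {p : ℕ} [Fact p.Prime] (hΓ : IsPGroup p Γ) (hV : ∀ v : V, p • v = 0)
    (h : X → V) (hinv : ∀ (γ : Γ) (x : X), h (γ • x) = h x)
    (hfix : ∀ x : X, (∀ γ : Γ, γ • x = x) → h x = 0) : ∑ x, h x = 0 := by
  classical
  rw [← Finset.sum_fiberwise Finset.univ
    (fun x : X => (Quotient.mk'' x : MulAction.orbitRel.Quotient Γ X)) h]
  refine Finset.sum_eq_zero fun q _ => ?_
  obtain ⟨a, rfl⟩ := Quotient.exists_rep q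
  have hmem : ∀ b : X, (Quotient.mk'' b : MulAction.orbitRel.Quotient Γ X) = Quotient.mk'' a ↔
      b ∈ MulAction.orbit Γ a := fun b => by
    rw [Quotient.eq'', MulAction.orbitRel_apply]
  have hsum : ∀ b ∈ Finset.univ.filter (fun b : X =>
      (Quotient.mk'' b : MulAction.orbitRel.Quotient Γ X) = Quotient.mk'' a), h b = h a := by
    intro b hb
    obtain ⟨u, rfl⟩ := MulAction.mem_orbit_iff.1 ((hmem b).1 (Finset.mem_filter.1 hb).2)
    exact hinv u a
  show ∑ b ∈ Finset.univ.filter (fun b : X =>
      (Quotient.mk'' b : MulAction.orbitRel.Quotient Γ X) = Quotient.mk'' a), h b = 0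
  rw [Finset.sum_congr rfl hsum, Finset.sum_const]
  obtain ⟨k, hk⟩ := hΓ.card_orbit a
  have hcard : (Finset.univ.filter (fun b : X =>
      (Quotient.mk'' b : MulAction.orbitRel.Quotient Γ X) = Quotient.mk'' a)).card = p ^ k := by
    rw [← hk, ← Fintype.card_subtype, ← Nat.card_eq_fintype_card]
    exact Nat.card_congr (Equiv.subtypeEquivRight fun b => hmem b)
  rw [hcard]
  rcases k with _ | k
  · rw [pow_zero, one_smul]
    refine hfix a fun γ => ?_
    rw [pow_zero, Nat.card_eq_one_iff_unique] at hk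
    have := hk.1
    exact congrArg Subtype.val
      (Subsingleton.elim (⟨γ • a, MulAction.mem_orbit a γ⟩ : MulAction.orbit Γ a)
        ⟨a, MulAction.mem_orbit_self a⟩)
  · rw [pow_succ, mul_nsmul', hV, smul_zero]

/-- Nakayama's lemma for a finite `p`-group in characteristic `p`. -/
theorem eq_bot_of_augmentation_top {Γ k V : Type*} [Group Γ] [Finite Γ] {p : ℕ} [Fact p.Prime]
    (hΓ : IsPGroup p Γ) [Field k] [CharP k p] [AddCommGroup V] [Module k V]
    (u : Γ → (V →ₗ[k] V)) (hu1 : u 1 = LinearMap.id)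
    (humul : ∀ a b : Γ, u (a * b) = (u b).comp (u a))
    (htop : ∀ φ : Module.Dual k V, (∀ (γ : Γ) (v : V), φ (u γ v) = φ v) → φ = 0) :
    ∀ v : V, v = 0 := by
  classical
  intro v
  by_contra hv
  obtain ⟨φ₀, hφ₀⟩ : ∃ φ : Module.Dual k V, φ v ≠ 0 := by
    by_contra h
    push Not at h
    exact hv ((Module.forall_dual_apply_eq_zero_iff k v).1 h)
  let act : MulAction Γ (Module.Dual k V) :=
    { smul := fun γ φ => φ.comp (u γ)
      one_smul := fun φ => by
        show φ.comp (u 1) = φ
        rw [hu1]; rfl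
      mul_smul := fun a b φ => by
        show φ.comp (u (a * b)) = (φ.comp (u b)).comp (u a)
        rw [humul]; rfl }
  let _ := act
  let f : (Γ → ZMod p) → Module.Dual k V := fun c =>
    letI := Fintype.ofFinite Γ
    ∑ γ, (ZMod.castHom (dvd_refl p) k (c γ)) • φ₀.comp (u γ)
  let S : Set (Module.Dual k V) := Set.range f
  have hS : S.Finite := Set.finite_range f
  have hstab : ∀ (γ : Γ), ∀ φ ∈ S, γ • φ ∈ S := by
    rintro γ _ ⟨c, rfl⟩
    let _ := Fintype.ofFinite Γ
    refine ⟨fun δ => c (γ⁻¹ * δ), ?_⟩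
    show ∑ δ, (ZMod.castHom (dvd_refl p) k (c (γ⁻¹ * δ))) • φ₀.comp (u δ) =
      (∑ δ, (ZMod.castHom (dvd_refl p) k (c δ)) • φ₀.comp (u δ)).comp (u γ)
    refine LinearMap.ext fun w => ?_
    simp only [LinearMap.comp_apply, LinearMap.sum_apply, LinearMap.smul_apply]
    refine (Fintype.sum_equiv (Equiv.mulLeft γ) _ _ fun δ => ?_).symm
    simp only [Equiv.coe_mulLeft, inv_mul_cancel_left, humul, LinearMap.comp_apply]
  let sub : SubMulAction Γ (Module.Dual k V) := ⟨S, fun γ {φ} h => hstab γ φ h⟩
  have : Finite sub := hS.to_subtype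
  have hzero : (0 : Module.Dual k V) ∈ S := by
    refine ⟨0, ?_⟩
    simp [f]
  -- the span over the prime field is an elementary abelian group
  have hadd : ∀ φ ∈ S, ∀ ψ ∈ S, φ + ψ ∈ S := by
    rintro _ ⟨c, rfl⟩ _ ⟨c', rfl⟩
    refine ⟨c + c', ?_⟩
    simp [f, add_smul, Finset.sum_add_distrib]
  have hneg : ∀ φ ∈ S, -φ ∈ S := by
    rintro _ ⟨c, rfl⟩
    refine ⟨-c, ?_⟩
    let _ := Fintype.ofFinite Γ
    show ∑ γ, (ZMod.castHom (dvd_refl p) k (-c γ)) • φ₀.comp (u γ) =
      -∑ γ, (ZMod.castHom (dvd_refl p) k (c γ)) • φ₀.comp (u γ)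
    rw [← Finset.sum_neg_distrib]
    refine Finset.sum_congr rfl fun γ _ => ?_
    rw [map_neg]
    exact LinearMap.ext fun w => neg_mul _ _
  let A : AddSubgroup (Module.Dual k V) :=
    { carrier := S, add_mem' := fun {a b} ha hb => hadd a ha b hb, zero_mem' := hzero
      neg_mem' := fun {a} ha => hneg a ha }
  have hφS : φ₀ ∈ S := by
    let _ := Fintype.ofFinite Γ
    refine ⟨fun δ => if δ = 1 then 1 else 0, ?_⟩
    show ∑ δ, (ZMod.castHom (dvd_refl p) k (if δ = 1 then 1 else 0)) • φ₀.comp (u δ) = φ₀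
    rw [Finset.sum_eq_single (1 : Γ) (fun δ _ hδ => by simp [hδ]) (by simp), if_pos rfl, map_one,
      one_smul, hu1]
    rfl
  have hdvd : p ∣ Nat.card sub := by
    have h1 : ∀ φ : A, p • φ = 0 := fun φ => Subtype.ext (LinearMap.ext fun w => by
      show (p • (φ : Module.Dual k V)) w = 0
      rw [LinearMap.smul_apply, nsmul_eq_mul, CharP.cast_eq_zero, zero_mul])
    have hne : (⟨φ₀, hφS⟩ : A) ≠ 0 := fun h => hφ₀ (by
      have := congrArg Subtype.val h
      simp only [ZeroMemClass.coe_zero] at this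
      rw [this]; rfl)
    have h2 : addOrderOf (⟨φ₀, hφS⟩ : A) = p := by
      refine addOrderOf_eq_prime (h1 _) hne
    have : Finite A := hS.to_subtype
    exact h2 ▸ addOrderOf_dvd_natCard _
  obtain ⟨b, hb, hb0⟩ := hΓ.exists_fixed_point_of_prime_dvd_card_of_fixed_point sub hdvd
    (a := ⟨0, hzero⟩) (fun γ => Subtype.ext (LinearMap.zero_comp _))
  refine hb0 (Subtype.ext ?_)
  refine (htop b.1 fun γ w => ?_).symm
  exact LinearMap.congr_fun (congrArg Subtype.val (hb γ)) w

variable {k : Type*} [Field k] {G : Type*} [Group G] [Fintype G] {p : ℕ} [Fact p.Prime] [CharP k p]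

omit [Fintype G] in
theorem single_mul_single' (g h : G) :
    single g (1 : k) * single h 1 = single (g * h) 1 := by
  rw [single_mul_single, one_mul]

theorem sum_single_coeff (f : MonoidAlgebra k G) : ∑ x : G, f.coeff x • single x (1 : k) = f := by
  classical
  ext g
  simp

/-- A central idempotent in a block over a `p'`-core which the Brauer map at `Q` kills is zero. -/
theorem eq_zero_of_br (N Q K : Subgroup G) [N.Normal] [K.Normal] (hQ : IsPGroup p Q)
    (hNK : N ≤ K) (hQK : Q ≤ K) (hN : (Nat.card N : k) ≠ 0)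
    (hsup : N ⊔ Subgroup.normalizer (Q : Set G) = ⊤)
    (e : MonoidAlgebra k G) (a : G → MonoidAlgebra k G)
    (ha : ∀ h ∈ K, ∀ h' ∈ K, a h * a h' = a (h * h'))
    (han : ∀ n ∈ N, a n = single n 1 * e)
    (haspan' : ∀ h ∈ K, a h ∈ Submodule.span k ((fun n : N => single (n : G) (1 : k) * e) '' Set.univ))
    (hec : ∀ x, x * e = e * x)
    (heq : ∀ g, ∀ h ∈ K, single g 1 * a h * single g⁻¹ 1 = a (g * h * g⁻¹))
    (f : MonoidAlgebra k G) (hfc : ∀ x, x * f = f * x) (hff : f * f = f) (hfe : f * e = f)
    (hbr : ∀ x ∈ Subgroup.centralizer (Q : Set G), f.coeff x = 0) : f = 0 := by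
  classical
  have ha1 : a 1 = e := by rw [han 1 (one_mem N), ← MonoidAlgebra.one_def, one_mul]
  have hae : ∀ h ∈ K, a h * e = a h := fun h hh => by rw [← ha1, ha h hh 1 (one_mem K), mul_one]
  have hcomm : ∀ g, ∀ h ∈ K, single g 1 * a h = a (g * h * g⁻¹) * single g 1 := fun g h hh => by
    rw [← heq g h hh, mul_assoc (single g (1 : k) * a h), single_mul_single', inv_mul_cancel,
      ← MonoidAlgebra.one_def, mul_one]
  let u : G → MonoidAlgebra k G := fun q => a q⁻¹ * single q 1
  have hu1 : u 1 = e := by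
    show a (1 : G)⁻¹ * single (1 : G) 1 = e
    rw [inv_one, ha1, ← MonoidAlgebra.one_def, mul_one]
  have hue : ∀ q ∈ Q, u q * e = u q := fun q hq => by
    show a q⁻¹ * single q 1 * e = a q⁻¹ * single q 1
    rw [mul_assoc, hec, ← mul_assoc, hae _ (K.inv_mem (hQK hq))]
  have humul : ∀ q ∈ Q, ∀ r ∈ Q, u q * u r = u (q * r) := by
    intro q hq r hr
    show a q⁻¹ * single q 1 * (a r⁻¹ * single r 1) = a (q * r)⁻¹ * single (q * r) 1
    have hq' := hQK hq
    have hr' := hQK hr
    rw [mul_assoc, ← mul_assoc (single q (1 : k)), hcomm q _ (K.inv_mem hr'), mul_assoc,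
      single_mul_single', ← mul_assoc,
      ha _ (K.inv_mem hq') _ (K.mul_mem (K.mul_mem hq' (K.inv_mem hr')) (K.inv_mem hq'))]
    congr 2
    group
  have hun : ∀ q ∈ Q, ∀ n ∈ N, u q * (single n 1 * e) = single n 1 * e * u q := by
    intro q hq n hn
    show a q⁻¹ * single q 1 * (single n 1 * e) = single n 1 * e * (a q⁻¹ * single q 1)
    have hq' := hQK hq
    rw [← han n hn, mul_assoc, hcomm q n (hNK hn), ← mul_assoc, ← mul_assoc,
      ha _ (K.inv_mem hq') _ (K.mul_mem (K.mul_mem hq' (hNK hn)) (K.inv_mem hq')),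
      ha _ (hNK hn) _ (K.inv_mem hq')]
    congr 2
    group
  -- the ideal generated by the augmentation
  let L : Submodule k (MonoidAlgebra k G) :=
    Submodule.span k {z | ∃ (x : MonoidAlgebra k G) (q : G), q ∈ Q ∧ z = x * (u q - e)}
  have hLleft : ∀ (y : MonoidAlgebra k G), ∀ z ∈ L, y * z ∈ L := by
    intro y z hz
    induction hz using Submodule.span_induction with
    | mem z hz =>
      obtain ⟨x, q, hq, rfl⟩ := hz
      exact Submodule.subset_span ⟨y * x, q, hq, (mul_assoc _ _ _).symm⟩
    | zero => rw [mul_zero]; exact L.zero_mem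
    | add z z' _ _ h h' => rw [mul_add]; exact L.add_mem h h'
    | smul c z _ h => rw [mul_smul_comm]; exact L.smul_mem c h
  have hwright : ∀ q ∈ Q, ∀ g : G, (u q - e) * single g 1 ∈ L := by
    intro q hq g
    obtain ⟨n, hn, h, hh, rfl⟩ := Subgroup.mem_sup_of_normal_left.1 (hsup ▸ Subgroup.mem_top g :
      g ∈ N ⊔ Subgroup.normalizer (Q : Set G))
    have hq' : h⁻¹ * q * h ∈ Q := by
      have h1 := (Subgroup.mem_normalizer_iff.1 (inv_mem hh) q).1 hq
      rwa [inv_inv] at h1
    refine Submodule.subset_span ⟨single (n * h) 1 * e, h⁻¹ * q * h, hq', ?_⟩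
    have h0 : ∀ y, (u q - e) * y = (u q - e) * (e * y) := fun y => by
      rw [← mul_assoc, sub_mul (u q) e e, hue q hq]
      congr 2
      rw [← ha1, ha 1 (one_mem K) 1 (one_mem K), mul_one]
    have huh : u q * single h 1 = single h 1 * u (h⁻¹ * q * h) := by
      show a q⁻¹ * single q 1 * single h 1 = single h 1 * (a (h⁻¹ * q * h)⁻¹ * single (h⁻¹ * q * h) 1)
      rw [← mul_assoc (single h (1 : k)), hcomm h _ (K.inv_mem (hQK hq')), mul_assoc, mul_assoc,
        single_mul_single', single_mul_single']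
      have e1 : h * (h⁻¹ * q * h)⁻¹ * h⁻¹ = q⁻¹ := by group
      have e2 : h * (h⁻¹ * q * h) = q * h := by group
      rw [e1, e2]
    have hee : e * e = e := by rw [← ha1, ha 1 (one_mem K) 1 (one_mem K), mul_one]
    rw [h0, ← single_mul_single', mul_sub, sub_mul]
    congr 1
    · calc u q * (e * (single n 1 * single h 1)) = u q * (single n 1 * e) * single h 1 := by
            rw [hec (single n 1)]; simp only [mul_assoc]
        _ = single n 1 * e * (u q * single h 1) := by rw [hun q hq n hn, mul_assoc]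
        _ = single n 1 * e * (single h 1 * u (h⁻¹ * q * h)) := by rw [huh]
        _ = single n 1 * single h 1 * e * u (h⁻¹ * q * h) := by
            rw [mul_assoc (single n (1 : k)) e, ← mul_assoc e, ← hec (single h 1)]
            simp only [mul_assoc]
    · rw [← mul_assoc e e, hee, mul_assoc (single n (1 : k) * single h 1) e e, hee, ← hec]
  have hLright : ∀ (z : MonoidAlgebra k G), z ∈ L → ∀ y, z * y ∈ L := by
    intro z hz y
    induction hz using Submodule.span_induction with
    | mem z hz =>
      obtain ⟨x, q, hq, rfl⟩ := hz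
      rw [mul_assoc]
      refine hLleft x _ ?_
      rw [← sum_single_coeff y, Finset.mul_sum]
      refine Submodule.sum_mem _ fun g _ => ?_
      rw [mul_smul_comm]
      exact L.smul_mem _ (hwright q hq g)
    | zero => rw [zero_mul]; exact L.zero_mem
    | add z z' _ _ h h' => rw [add_mul]; exact L.add_mem h h'
    | smul c z _ h => rw [smul_mul_assoc]; exact L.smul_mem c h
  -- averaging over `N`
  let c : G → MonoidAlgebra k G := fun x =>
    ((Nat.card N : k)⁻¹ • ∑ n : N, single ((n : G) * x * (n : G)⁻¹) 1) * e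
  have hce : ∀ x, e * c x = c x := fun x => by
    show e * (_ * e) = _ * e
    rw [← hec, mul_assoc, ← ha1, ha 1 (one_mem K) 1 (one_mem K), mul_one]
  have hcn : ∀ x, ∀ n ∈ N, single n 1 * e * c x = c x * (single n 1 * e) := by
    intro x n hn
    have h1 : single n (1 : k) * ((Nat.card N : k)⁻¹ • ∑ m : N, single ((m : G) * x * (m : G)⁻¹) 1) =
        ((Nat.card N : k)⁻¹ • ∑ m : N, single ((m : G) * x * (m : G)⁻¹) 1) * single n 1 := by
      rw [mul_smul_comm, smul_mul_assoc, Finset.mul_sum, Finset.sum_mul]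
      congr 1
      refine Fintype.sum_equiv (Equiv.mulLeft (⟨n, hn⟩ : N)) _ _ fun m => ?_
      rw [single_mul_single', single_mul_single']
      congr 1
      simp only [Equiv.coe_mulLeft, Subgroup.coe_mul]
      group
    rw [mul_assoc, hce]
    show single n 1 * (_ * e) = _ * e * (single n 1 * e)
    rw [← mul_assoc, h1, mul_assoc, mul_assoc]
    congr 1
    rw [← mul_assoc, ← hec (single n 1), mul_assoc, ← ha1, ha 1 (one_mem K) 1 (one_mem K), mul_one]
  have hcq : ∀ x, ∀ q ∈ Q, c (q * x * q⁻¹) - c x ∈ L := by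
    intro x q hq
    have hq' := hQK hq
    have h1 : single q 1 * c x * single q⁻¹ 1 = c (q * x * q⁻¹) := by
      show single q 1 * (_ * e) * single q⁻¹ 1 = _ * e
      rw [mul_assoc (single q (1 : k)), mul_assoc, ← hec (single q⁻¹ 1), ← mul_assoc, ← mul_assoc]
      congr 1
      rw [mul_smul_comm, smul_mul_assoc, Finset.mul_sum, Finset.sum_mul]
      congr 1
      refine Fintype.sum_equiv ((MulAut.conjNormal (H := N) q).toEquiv) _ _ fun m => ?_
      rw [single_mul_single', single_mul_single']
      congr 1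
      simp only [MulEquiv.toEquiv_eq_coe, MulEquiv.coe_toEquiv, MulAut.conjNormal_apply]
      group
    -- `c x` commutes with the elements `a q`
    have hA : single q 1 * e = a q * u q := by
      show single q 1 * e = a q * (a q⁻¹ * single q 1)
      rw [← mul_assoc, ha _ hq' _ (K.inv_mem hq'), mul_inv_cancel, ha1, hec]
    have hA' : e * single q 1 = a q * u q := by rw [← hec]; exact hA
    have hce' : c x * e = c x := by
      show _ * e * e = _ * e
      rw [mul_assoc, ← ha1, ha 1 (one_mem K) 1 (one_mem K), mul_one]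
    have hdiff : single q 1 * c x - c x * single q 1 ∈ L := by
      have e1 : single q 1 * c x = a q * u q * c x := by
        rw [← hA, mul_assoc, hce]
      have e2 : c x * single q 1 = c x * a q * u q := by
        rw [mul_assoc (c x) (a q) (u q), ← hA', ← mul_assoc, hce']
      have e3 : c x * a q = a q * c x → single q 1 * c x - c x * single q 1 =
          a q * ((u q - e) * c x) - a q * c x * (u q - e) := fun hac => by
        rw [e1, e2, hac, sub_mul, mul_sub, mul_sub, hce]
        have : a q * c x * e = a q * c x := by rw [mul_assoc, hce']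
        rw [this]
        simp only [mul_assoc]
        abel
      have hwx : (u q - e) ∈ L := Submodule.subset_span ⟨1, q, hq, (one_mul _).symm⟩
      rw [e3]
      · exact L.sub_mem (hLleft _ _ (hLright _ hwx _)) (hLleft _ _ hwx)
      · have hspan : ∀ y ∈ Submodule.span k ((fun n : N => single (n : G) (1 : k) * e) '' Set.univ),
            c x * y = y * c x := by
          intro y hy
          induction hy using Submodule.span_induction with
          | mem y hy =>
            obtain ⟨n, -, rfl⟩ := hy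
            exact (hcn x n n.2).symm
          | zero => simp
          | add y y' _ _ h h' => rw [mul_add, add_mul, h, h']
          | smul r y _ h => rw [mul_smul_comm, smul_mul_assoc, h]
        exact hspan _ (haspan' q hq')
    have h2 := hLright _ hdiff (single q⁻¹ 1)
    rwa [sub_mul, h1, mul_assoc (c x), single_mul_single', mul_inv_cancel, ← MonoidAlgebra.one_def,
      mul_one] at h2
  -- the idempotent lies in the ideal
  have hfavg : f = ∑ x : G, f.coeff x • c x := by
    have hconj : ∀ (n : N), f = ∑ x : G, f.coeff x • single ((n : G) * x * (n : G)⁻¹) 1 := by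
      intro n
      have h1 : single (n : G) 1 * f * single (n : G)⁻¹ 1 = f := by
        rw [hfc, mul_assoc, single_mul_single', mul_inv_cancel, ← MonoidAlgebra.one_def, mul_one]
      conv_lhs => rw [← h1, ← sum_single_coeff f, Finset.mul_sum, Finset.sum_mul]
      refine Finset.sum_congr rfl fun x _ => ?_
      rw [mul_smul_comm, smul_mul_assoc, single_mul_single', single_mul_single']
    have h2 : (Nat.card N : k) • f = ∑ n : N, ∑ x : G, f.coeff x • single ((n : G) * x * (n : G)⁻¹) 1 := by
      rw [← Finset.sum_congr rfl (fun n _ => hconj n), Finset.sum_const, Finset.card_univ,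
        ← Nat.card_eq_fintype_card, Nat.cast_smul_eq_nsmul]
    conv_lhs => rw [← hfe, ← inv_smul_smul₀ hN f, h2]
    rw [Finset.sum_comm, Finset.smul_sum, Finset.sum_mul]
    refine Finset.sum_congr rfl fun x _ => ?_
    rw [← Finset.smul_sum, smul_comm, smul_mul_assoc]
  have hfL : f ∈ L := by
    rw [← Submodule.Quotient.mk_eq_zero, hfavg]
    show L.mkQ (∑ x : G, f.coeff x • c x) = 0
    rw [map_sum]
    let act : MulAction Q G :=
      { smul := fun q x => (q : G) * x * (q : G)⁻¹
        one_smul := fun x => show ((1 : Q) : G) * x * ((1 : Q) : G)⁻¹ = x by simp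
        mul_smul := fun a b x => show ((a * b : Q) : G) * x * ((a * b : Q) : G)⁻¹ =
          a * (b * x * (b : G)⁻¹) * (a : G)⁻¹ by simp [mul_assoc] }
    let _ := act
    refine sum_eq_zero_of_no_fixed hQ (fun v => ?_) _ (fun q x => ?_) fun x hx => ?_
    · rw [← Nat.cast_smul_eq_nsmul k, CharP.cast_eq_zero, zero_smul]
    · show L.mkQ (f.coeff ((q : G) * x * (q : G)⁻¹) • c ((q : G) * x * (q : G)⁻¹)) =
        L.mkQ (f.coeff x • c x)
      have hF : f.coeff ((q : G) * x * (q : G)⁻¹) = f.coeff x := by
        have h1 : single (q : G) 1 * f * single (q : G)⁻¹ 1 = f := by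
          rw [hfc, mul_assoc, single_mul_single', mul_inv_cancel, ← MonoidAlgebra.one_def, mul_one]
        conv_lhs => rw [← h1]
        rw [coeff_mul_single_apply, coeff_single_mul_apply, mul_one, one_mul]
        congr 1
        group
      rw [hF, map_smul, map_smul]
      congr 1
      exact (Submodule.Quotient.eq L).2 (hcq x q q.2)
    · rw [hbr x, zero_smul, map_zero]
      rw [Subgroup.mem_centralizer_iff]
      intro q hq
      have h1 : q * x * q⁻¹ = x := hx ⟨q, hq⟩
      exact mul_inv_eq_iff_eq_mul.1 h1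
  -- Nakayama on `k[G] f`
  let V : Submodule k (MonoidAlgebra k G) := LinearMap.range (LinearMap.mulRight k f)
  have hmemV : ∀ {z}, z ∈ V → z * f = z := fun {z} hz => by
    obtain ⟨y, rfl⟩ := hz
    show y * f * f = y * f
    rw [mul_assoc, hff]
  have hVstab : ∀ q : Q, ∀ z ∈ V, z * u q ∈ V := fun q z hz => ⟨z * u q, by
    show z * u q * f = z * u q
    rw [mul_assoc, hfc, ← mul_assoc, hmemV hz]⟩
  let U : Q → (V →ₗ[k] V) := fun q =>
    ((LinearMap.mulRight k (u q)).comp V.subtype).codRestrict V fun z => hVstab q z z.2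
  have hVe : ∀ z ∈ V, z * e = z := fun z hz => by
    conv_rhs => rw [← hmemV hz, ← hfe, ← mul_assoc, hmemV hz]
  have hzero := eq_bot_of_augmentation_top (k := k) hQ U
    (LinearMap.ext fun z => Subtype.ext (by
      show (z : MonoidAlgebra k G) * u ((1 : Q) : G) = z
      rw [OneMemClass.coe_one, hu1, hVe z z.2]))
    (fun q r => LinearMap.ext fun z => Subtype.ext (by
      show (z : MonoidAlgebra k G) * u ((q * r : Q) : G) = (z : MonoidAlgebra k G) * u (q : G) * u (r : G)
      rw [mul_assoc, humul q q.2 r r.2, Subgroup.coe_mul]))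
    (fun φ hφ => by
      ext ⟨v, hv⟩
      show φ ⟨v, hv⟩ = 0
      let ψ : MonoidAlgebra k G →ₗ[k] k := φ.comp ((LinearMap.mulRight k f).codRestrict V
        fun z => ⟨z, rfl⟩)
      have hLψ : ∀ z ∈ L, ψ z = 0 := by
        intro z hz
        induction hz using Submodule.span_induction with
        | mem z hz =>
          obtain ⟨x, q, hq, rfl⟩ := hz
          have h1 : ∀ w : V, φ (U ⟨q, hq⟩ w) = φ w := fun w => hφ ⟨q, hq⟩ w
          have h2 := h1 ⟨x * f, x, rfl⟩
          show φ ⟨x * (u q - e) * f, _, rfl⟩ = 0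
          have h3 : x * (u q - e) * f = x * f * u q - x * f := by
            rw [mul_sub, sub_mul, mul_assoc x (u q), hfc, ← mul_assoc, mul_assoc x e, ← hec, hfe]
          have h4 : (⟨x * (u q - e) * f, _, rfl⟩ : V) = U ⟨q, hq⟩ ⟨x * f, x, rfl⟩ - ⟨x * f, x, rfl⟩ :=
            Subtype.ext h3
          rw [h4, map_sub, h2, sub_self]
        | zero => exact map_zero _
        | add z z' _ _ h h' => rw [map_add, h, h', add_zero]
        | smul r z _ h => rw [map_smul, h, smul_zero]
      have h5 := hLψ (v * f) (hLleft v f hfL)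
      have h6 : ψ (v * f) = φ ⟨v, hv⟩ := by
        show φ ⟨v * f * f, _, rfl⟩ = φ ⟨v, hv⟩
        congr 1
        exact Subtype.ext (by show v * f * f = v; rw [hmemV hv, hmemV hv])
      rw [← h6]; exact h5)
    ⟨f, 1, one_mul f⟩
  exact congrArg Subtype.val hzero

end CfsgLib.FongAlg
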