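import Cfsg.Agent.Lib.CharCorr.QuotientTools
import Cfsg.Agent.Lib.Characters.LinearTwist
import Cfsg.Agent.Lib.Characters.Extension
import Cfsg.Agent.Lib.Characters.BrauerInduction
import Cfsg.Agent.Lib.Characters.Counting
import Cfsg.Agent.Lib.Characters.Galois

/-!
The canonical extension of an invariant fixed character over a quotient of odd order, for a
power map inverting the elements of odd order.
-/

set_option autoImplicit false
set_option linter.unusedSectionVars false
set_option linter.style.haveILetI false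

noncomputable section

namespace CfsgLib.OddExt

open Cfsg CfsgLib.Characters
open scoped ComplexConjugate commutatorElement

universe u

/-- `g ↦ g ^ k` is an admissible power map. -/
structure PowData (k : ℕ) (G : Type u) [Group G] : Prop where
  cop : k.Coprime (Nat.card G)
  inv : ∀ g : G, Odd (orderOf g) → g ^ k = g⁻¹

variable {G : Type u} [Group G] {k : ℕ}

theorem PowData.sub [Finite G] (h : PowData k G) (H : Subgroup G) : PowData k H :=
  ⟨h.cop.coprime_dvd_right (Subgroup.card_subgroup_dvd_card H), fun g hg =>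
    Subtype.ext (by simpa using h.inv g (by rwa [Subgroup.orderOf_coe]))⟩

theorem pow_succ_mem [Finite G] (h : PowData k G) (N : Subgroup G) [N.Normal] (hodd : Odd N.index)
    (g : G) : g ^ (k + 1) ∈ N := by
  rw [← QuotientGroup.eq_one_iff, QuotientGroup.mk_pow, ← orderOf_dvd_iff_pow_eq_one]
  set x : G ⧸ N := QuotientGroup.mk g
  obtain ⟨a, m, hm, ham⟩ := Nat.exists_eq_two_pow_mul_odd (orderOf_pos g).ne'
  have h1 : orderOf (g ^ 2 ^ a) = m := by
    rw [orderOf_pow, ham, Nat.gcd_mul_right_left, Nat.mul_div_cancel_left _ (pow_pos two_pos a)]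
  have h2 : (g ^ 2 ^ a) ^ (k + 1) = 1 := by
    rw [pow_succ, h.inv _ (by rw [h1]; exact hm), inv_mul_cancel]
  have h3 : orderOf x ∣ 2 ^ a * (k + 1) := by
    refine orderOf_dvd_of_pow_eq_one ?_
    rw [← QuotientGroup.mk_pow, pow_mul, h2, QuotientGroup.mk_one]
  have hxo : Odd (orderOf x) := hodd.of_dvd_nat (by
    rw [Subgroup.index_eq_card]; exact orderOf_dvd_natCard x)
  exact ((Nat.coprime_two_right.2 hxo).pow_right a).dvd_of_dvd_mul_left h3

/-- A fixed character over an extension of a fixed irreducible restriction equals it. -/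
theorem eq_of_fixed [Fintype G] (h : PowData k G) (N : Subgroup G) [hN : N.Normal] [Fintype N]
    (hodd : Odd N.index) {ψ η : G → ℂ} (hψ : IsIrrCharacter G ψ) (hη : IsCharacter G η)
    (hηN : IsIrrCharacter N (fun n : N => η n))
    (hψf : ∀ g, ψ (g ^ k) = ψ g) (hηf : ∀ g, η (g ^ k) = η g)
    (hover : classInner (fun n : N => ψ n) (fun n : N => η n) ≠ 0) : ψ = η := by
  classical
  set β := CfsgLib.NormalAvg.pairAvg N ψ η with hβ
  have hirr : IsIrrCharacter G β := CfsgLib.NormalAvg.isIrrCharacter_pairAvg N hψ hη hηN hover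
  have hconL : ∀ (n : N) (g : G), β ((n : G) * g) = β g := fun n g =>
    CfsgLib.NormalAvg.avgN_mul_left N _ n g
  have hconR : ∀ (n : N) (g : G), β (g * n) = β g := fun n g =>
    CfsgLib.NormalAvg.avgN_mul_right N _ n g
  -- the power map permutes the cosets
  have hpow : ∀ g : G, β (g ^ k) = β g := by
    intro g
    rw [hβ, CfsgLib.NormalAvg.pairAvg_apply, CfsgLib.NormalAvg.pairAvg_apply]
    congr 1
    have hcop : (Nat.card G).Coprime k := h.cop.symm
    let f : N → N := fun n => ⟨((n : G) * g) ^ k * (g ^ k)⁻¹, by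
      rw [← QuotientGroup.eq_one_iff, QuotientGroup.mk_mul, QuotientGroup.mk_inv,
        QuotientGroup.mk_pow, QuotientGroup.mk_mul, (QuotientGroup.eq_one_iff (n : G)).2 n.2,
        one_mul, QuotientGroup.mk_pow, mul_inv_cancel]⟩
    have hinj : Function.Injective f := by
      intro a b hab
      have h1 : ((a : G) * g) ^ k * (g ^ k)⁻¹ = ((b : G) * g) ^ k * (g ^ k)⁻¹ :=
        congrArg Subtype.val hab
      have h2 := (powCoprime hcop).injective (mul_right_cancel h1)
      exact Subtype.ext (mul_right_cancel h2)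
    refine (Fintype.sum_bijective f (Finite.injective_iff_bijective.1 hinj) _ _ fun n => ?_).symm
    simp only [f, inv_mul_cancel_right, hψf, hηf]
  have hinvβ : ∀ g : G, β g⁻¹ = β g := by
    intro g
    have h1 := pow_succ_mem h N hodd g
    have h2 : g⁻¹ = g ^ k * (g ^ (k + 1))⁻¹ := by rw [pow_succ']; group
    rw [h2, hconR ⟨_, N.inv_mem h1⟩, hpow]
  -- descend to the quotient
  let F : G ⧸ N → ℂ := fun x => β x.out
  have hF : ∀ g : G, F (QuotientGroup.mk g) = β g := fun g => by
    obtain ⟨n, hn⟩ := QuotientGroup.mk_out_eq_mul N g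
    show β _ = β g
    rw [hn, hconR]
  have hFirr : IsIrrCharacter (G ⧸ N) F :=
    CfsgLib.CharCorrQ.isIrrCharacter_of_pullback (QuotientGroup.mk' N)
      (QuotientGroup.mk'_surjective N) (by
        rwa [show (fun a => F ((QuotientGroup.mk' N) a)) = β from funext hF])
  have hF1 : (⟨F, hFirr⟩ : IrrCharacter (G ⧸ N)) = principalIrr (G ⧸ N) := by
    refine real_irr_eq_one (by rwa [← Subgroup.index_eq_card]) _ fun x => ?_
    refine QuotientGroup.induction_on x fun g => ?_
    show (F (QuotientGroup.mk g)).im = 0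
    have h1 := hinvβ g
    have h2 : β g⁻¹ = conj (β g) := irr_apply_inv (⟨β, hirr⟩ : IrrCharacter G) g
    rw [h2] at h1
    rw [hF]
    exact Complex.conj_eq_iff_im.1 h1
  have hone : β = fun _ => 1 := funext fun g => by
    rw [← hF g]
    exact congrFun (congrArg Subtype.val hF1) _
  have h3 := CfsgLib.CharCorrQ.mul_pairAvg_eq N hη hηN hψ hover
  rw [← hβ, hone] at h3
  funext g
  rw [← h3, Pi.mul_apply, mul_one]

/-- The fixed extension over a cyclic quotient. -/
theorem exists_fixed_cyclic [Fintype G] (h : PowData k G) (N : Subgroup G) [hN : N.Normal]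
    [Fintype N] [IsCyclic (G ⧸ N)] (hodd : Odd N.index) {θ : N → ℂ} (hθ : IsIrrCharacter N θ)
    (hθf : ∀ n : N, θ (n ^ k) = θ n)
    (hinv : ∀ (g : G) (n : N), θ ⟨g * n * g⁻¹, hN.conj_mem (n : G) n.2 g⟩ = θ n) :
    ∃ η : G → ℂ, IsIrrCharacter G η ∧ (∀ n : N, η n = θ n) ∧ ∀ g, η (g ^ k) = η g := by
  classical
  obtain ⟨η₀, hη₀, hη₀n⟩ := CfsgLib.CharExtension.extends_of_isCyclic N hθ hinv
  have hres : (fun n : N => η₀ n) = θ := funext hη₀n
  have hη₁ : IsIrrCharacter G (fun g => η₀ (g ^ k)) :=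
    CfsgLib.CharGalois.isIrrCharacter_pow hη₀ h.cop
  have hres₁ : (fun n : N => η₀ ((n : G) ^ k)) = θ := funext fun n => by
    rw [← Subgroup.coe_pow, hη₀n, hθf]
  have hover : classInner (fun n : N => η₀ ((n : G) ^ k)) (fun n : N => η₀ n) = 1 := by
    rw [hres₁, hres]; exact classInner_irr_self hθ
  have hηc := isCharacter_of_irr hη₀
  set β := CfsgLib.NormalAvg.pairAvg N (fun g => η₀ (g ^ k)) η₀ with hβ
  have hprod := CfsgLib.CharCorrQ.mul_pairAvg_eq N hηc (hres ▸ hθ) hη₁
    (by rw [hover]; exact one_ne_zero)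
  have hβc : IsCharacter G β :=
    CfsgLib.NormalAvg.isCharacter_pairAvg N (isCharacter_of_irr hη₁) hηc
  have hβ1 : β 1 = 1 := by
    rw [hβ, CfsgLib.NormalAvg.pairAvg_one]; exact hover
  obtain ⟨f, hf⟩ := CfsgLib.LinearExt.exists_unitsHom hβc hβ1
  have hfN : ∀ n ∈ N, f n = 1 := by
    intro n hn
    refine Units.ext ?_
    have h1 := CfsgLib.NormalAvg.avgN_mul_left N
      (fun g => η₀ (g ^ k) * conj (η₀ g)) ⟨n, hn⟩ (1 : G)
    rw [mul_one] at h1
    have hfn : (f n : ℂ) = β n := (congrFun hf n).symm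
    rw [hfn, hβ, Units.val_one]
    exact h1.trans hβ1
  obtain ⟨j, hj⟩ := hodd
  let μ : G →* ℂˣ := f ^ (j + 1)
  have hμ2 : ∀ g, μ g * μ g = f g := fun g => by
    show (f ^ (j + 1)) g * (f ^ (j + 1)) g = f g
    rw [MonoidHom.pow_apply, ← pow_add, show j + 1 + (j + 1) = N.index + 1 by omega, pow_succ,
      ← map_pow, hfN _ (N.pow_index_mem g), one_mul]
  have hμk : ∀ g, μ g ^ (k + 1) = 1 := fun g => by
    show (f ^ (j + 1)) g ^ (k + 1) = 1
    rw [MonoidHom.pow_apply, ← pow_mul, mul_comm, pow_mul, ← map_pow,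
      hfN _ (pow_succ_mem h N ⟨j, hj⟩ g), one_pow]
  refine ⟨fun g => η₀ g * (μ g : ℂ), CfsgLib.LinearTwist.isIrr_mul_hom hη₀ μ, fun n => ?_, fun g => ?_⟩
  · have hμn : μ (n : G) = 1 := by
      show (f ^ (j + 1)) (n : G) = 1
      rw [MonoidHom.pow_apply, hfN _ n.2, one_pow]
    show η₀ n * (μ (n : G) : ℂ) = θ n
    rw [hμn, Units.val_one, mul_one, hη₀n]
  · have h1 : η₀ g * (f g : ℂ) = η₀ (g ^ k) := by
      have h2 := congrFun hprod g
      rw [Pi.mul_apply, ← hβ, hf] at h2
      exact h2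
    have h3 : f g * μ (g ^ k) = μ g := by
      rw [map_pow, ← hμ2, mul_assoc, ← pow_succ', hμk, mul_one]
    show η₀ (g ^ k) * (μ (g ^ k) : ℂ) = η₀ g * (μ g : ℂ)
    rw [← h1, mul_assoc, ← Units.val_mul, h3]

/-- The fixed extension over a solvable quotient of odd order. -/
theorem exists_fixed_solvable : ∀ (n : ℕ) (H : Type u) [Group H] [Fintype H],
    Nat.card H = n → PowData k H → ∀ (N : Subgroup H) [hN : N.Normal] [Fintype N],
    Odd N.index → Group.IsSolvable (H ⧸ N) → ∀ {θ : N → ℂ}, IsIrrCharacter N θ →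
    (∀ m : N, θ (m ^ k) = θ m) →
    (∀ (g : H) (m : N), θ ⟨g * m * g⁻¹, hN.conj_mem (m : H) m.2 g⟩ = θ m) →
    ∃ η : H → ℂ, IsIrrCharacter H η ∧ (∀ m : N, η m = θ m) ∧ ∀ g, η (g ^ k) = η g := by
  intro n
  induction n using Nat.strong_induction_on with
  | _ n ih =>
  intro H _ _ hn h N hN _ hodd hsol θ hθ hθf hinv
  classical
  by_cases htop : N = ⊤
  · subst htop
    let e : H ≃* (⊤ : Subgroup H) := Subgroup.topEquiv.symm
    refine ⟨fun g => θ (e g), CfsgLib.Clifford.isIrrCharacter_pullback hθ e.toMonoidHom e.surjective,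
      fun m => rfl, fun g => ?_⟩
    show θ (e (g ^ k)) = θ (e g)
    rw [map_pow, hθf]
  haveI : Nontrivial (H ⧸ N) := QuotientGroup.nontrivial_iff.2 htop
  haveI := hsol
  have hlt : (commutator (H ⧸ N)).comap (QuotientGroup.mk' N) ≠ ⊤ := by
    intro h1
    have h2 := congrArg (Subgroup.map (QuotientGroup.mk' N)) h1
    rw [Subgroup.map_comap_eq_self_of_surjective (QuotientGroup.mk'_surjective N),
      Subgroup.map_top_of_surjective _ (QuotientGroup.mk'_surjective N)] at h2
    exact (Group.IsSolvable.commutator_lt_top_of_nontrivial (H ⧸ N)).ne h2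
  obtain ⟨M, hMco, hMle⟩ := (eq_top_or_exists_le_coatom _).resolve_left hlt
  have hNM : N ≤ M := fun x hx => hMle (by
    rw [Subgroup.mem_comap, QuotientGroup.mk'_apply, (QuotientGroup.eq_one_iff x).2 hx]
    exact one_mem _)
  have hcomm : commutator H ≤ M := by
    refine le_trans ?_ hMle
    rw [← Subgroup.map_le_iff_le_comap, commutator_def, commutator_def, Subgroup.map_commutator,
      Subgroup.map_top_of_surjective _ (QuotientGroup.mk'_surjective N)]
  have hMn : M.Normal := ⟨fun m hm g => by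
    have h1 : ⁅g, m⁆ ∈ M := hcomm (Subgroup.commutator_mem_commutator (Subgroup.mem_top g)
      (Subgroup.mem_top m))
    have h2 := M.mul_mem h1 hm
    rwa [commutatorElement_def, inv_mul_cancel_right] at h2⟩
  haveI := hMn
  obtain ⟨g₀, hg₀⟩ : ∃ g₀, g₀ ∉ M := by
    by_contra hc
    push Not at hc
    exact hMco.1 (eq_top_iff.2 fun x _ => hc x)
  haveI : IsCyclic (H ⧸ M) := ⟨⟨QuotientGroup.mk g₀, fun x => by
    refine QuotientGroup.induction_on x fun g => ?_
    have h1 : M ⊔ Subgroup.zpowers g₀ = ⊤ := hMco.2 _ (lt_of_le_of_ne le_sup_left fun h2 =>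
      hg₀ (h2 ▸ Subgroup.mem_sup_right (Subgroup.mem_zpowers g₀)))
    have h2 := Subgroup.mem_map_of_mem (QuotientGroup.mk' M) (h1 ▸ Subgroup.mem_top g :
      g ∈ M ⊔ Subgroup.zpowers g₀)
    rw [Subgroup.map_sup, QuotientGroup.map_mk'_self, bot_sup_eq, MonoidHom.map_zpowers] at h2
    exact h2⟩⟩
  -- the extension to `M`
  let N' : Subgroup M := N.subgroupOf M
  let e : N' ≃* N := Subgroup.subgroupOfEquivOfLe hNM
  haveI : Fintype M := Fintype.ofFinite M
  haveI : Fintype N' := Fintype.ofFinite N'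
  have hodd' : Odd N'.index :=
    hodd.of_dvd_nat (Subgroup.relIndex_dvd_index_of_normal N M)
  have hsol' : Group.IsSolvable (M ⧸ N') := by
    have hi : Function.Injective (QuotientGroup.map N' N M.subtype le_rfl) := by
      rw [injective_iff_map_eq_one]
      intro x
      refine QuotientGroup.induction_on x fun m hm => ?_
      have hm' : ((m : H) : H ⧸ N) = 1 := hm
      exact (QuotientGroup.eq_one_iff m).2 ((QuotientGroup.eq_one_iff (m : H)).1 hm')
    exact Group.isSolvable_of_isSolvable_injective hi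
  have hMlt : Nat.card M < n := by
    rw [← hn]
    refine lt_of_le_of_ne (Subgroup.card_le_card_group M) fun hc => hMco.1 ?_
    exact Subgroup.eq_top_of_card_eq M hc
  obtain ⟨ηM, hηM, hηMn, hηMf⟩ := ih _ hMlt M rfl (h.sub M) N' hodd' hsol'
    (θ := fun x => θ (e x)) (CfsgLib.Clifford.isIrrCharacter_pullback hθ e.toMonoidHom e.surjective)
    (fun m => by rw [map_pow, hθf]) (fun g m => hinv g (e m))
  -- it is invariant
  have hinvM : ∀ (g : H) (m : M), ηM ⟨g * m * g⁻¹, hMn.conj_mem (m : H) m.2 g⟩ = ηM m := by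
    intro g
    let c : M →* M := (MulAut.conjNormal g : MulAut M).toMonoidHom
    have hc : ∀ m : M, c m = ⟨g * m * g⁻¹, hMn.conj_mem (m : H) m.2 g⟩ := fun m =>
      Subtype.ext (MulAut.conjNormal_apply g m)
    have hN'res : ∀ x : N', ηM (c x) = θ (e x) := fun x => by
      have hx : ((x : M) : H) ∈ N := x.2
      have h1 : c x = ((⟨c x, by
        show ((c x : M) : H) ∈ N
        rw [hc]; exact hN.conj_mem _ hx g⟩ : N') : M) := rfl
      rw [h1, hηMn]
      refine Eq.trans ?_ (hinv g (e x))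
      congr 1
    have hres : (fun x : N' => ηM x) = fun x => θ (e x) := funext hηMn
    have heq := eq_of_fixed (h.sub M) N' hodd' (ψ := fun m => ηM (c m)) (η := ηM)
      (CfsgLib.Clifford.isIrrCharacter_pullback hηM c (MulAut.conjNormal g : MulAut M).surjective)
      (isCharacter_of_irr hηM)
      (hres ▸ CfsgLib.Clifford.isIrrCharacter_pullback hθ e.toMonoidHom e.surjective)
      (fun m => by rw [map_pow, hηMf]) hηMf (by
        have hirr : IsIrrCharacter N' (fun x : N' => θ (e x)) :=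
          CfsgLib.Clifford.isIrrCharacter_pullback hθ e.toMonoidHom e.surjective
        rw [funext hN'res, hres, classInner_irr_self hirr]
        exact one_ne_zero)
    intro m
    rw [← hc]
    exact congrFun heq m
  obtain ⟨η, hη, hηm, hηf⟩ := exists_fixed_cyclic h M
    (hodd.of_dvd_nat (Subgroup.index_dvd_of_le hNM)) hηM hηMf hinvM
  refine ⟨η, hη, fun m => ?_, hηf⟩
  have h1 := hηm ⟨(m : H), hNM m.2⟩
  rw [h1]
  exact hηMn ⟨⟨(m : H), hNM m.2⟩, m.2⟩

end CfsgLib.OddExt
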