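import Cfsg.Agent.Lib.Blk7.OddExtension

/-!
The fixed extension over an arbitrary quotient of odd order (Brauer's characterisation), and the
unique fixed character over a fixed character of a normal subgroup of odd index.
-/

set_option autoImplicit false
set_option linter.unusedSectionVars false
set_option linter.style.haveILetI false

noncomputable section

namespace CfsgLib.OddExt

open Cfsg CfsgLib.Characters
open scoped ComplexConjugate

universe u

variable {G : Type u} [Group G] [Fintype G] {k : ℕ}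

/-- `ξ` is a fixed character of `K` extending `θ`. -/
def IsFixedExt (k : ℕ) (N : Subgroup G) (θ : N → ℂ) (K : Subgroup G) (ξ : K → ℂ) : Prop :=
  IsCharacter K ξ ∧ (∀ (n : N) (hn : (n : G) ∈ K), ξ ⟨n, hn⟩ = θ n) ∧ ∀ x : K, ξ (x ^ k) = ξ x

theorem fixedExt_unique (h : PowData k G) (N : Subgroup G) [hN : N.Normal] [Fintype N]
    (hodd : Odd N.index) {θ : N → ℂ} (hθ : IsIrrCharacter N θ) (K : Subgroup G) (hNK : N ≤ K)
    {ξ ξ' : K → ℂ} (h1 : IsFixedExt k N θ K ξ) (h2 : IsFixedExt k N θ K ξ') : ξ = ξ' := by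
  classical
  let e : N.subgroupOf K ≃* N := Subgroup.subgroupOfEquivOfLe hNK
  have hirr : IsIrrCharacter (N.subgroupOf K) (fun x => θ (e x)) :=
    CfsgLib.Clifford.isIrrCharacter_pullback hθ e.toMonoidHom e.surjective
  have hres : ∀ {ζ : K → ℂ}, IsFixedExt k N θ K ζ →
      (fun x : N.subgroupOf K => ζ x) = fun x => θ (e x) :=
    fun hζ => funext fun x => hζ.2.1 (e x) (x : K).2
  have hi : IsIrrCharacter K ξ :=
    CfsgLib.CharExtension.isIrrCharacter_of_restrict (N.subgroupOf K) h1.1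
      (by rw [hres h1]; exact hirr)
  refine eq_of_fixed (h.sub K) (N.subgroupOf K)
    (hodd.of_dvd_nat (Subgroup.relIndex_dvd_index_of_normal N K)) hi h2.1
    (by rw [hres h2]; exact hirr) h1.2.2 h2.2.2 ?_
  rw [hres h1, hres h2, classInner_irr_self hirr]
  exact one_ne_zero

theorem fixedExt_restrict (N : Subgroup G) {θ : N → ℂ} {K L : Subgroup G} (hLK : L ≤ K)
    {ξ : K → ℂ} (h1 : IsFixedExt k N θ K ξ) :
    IsFixedExt k N θ L (fun x => ξ (Subgroup.inclusion hLK x)) :=
  ⟨CfsgLib.Clifford.isCharacter_pullback h1.1 _, fun n hn => h1.2.1 n (hLK hn),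
    fun x => (congrArg ξ (map_pow _ x k)).trans (h1.2.2 _)⟩

theorem exists_fixedExt (h : PowData k G) (N : Subgroup G) [hN : N.Normal] [Fintype N]
    (hodd : Odd N.index) {θ : N → ℂ} (hθ : IsIrrCharacter N θ) (hθf : ∀ n : N, θ (n ^ k) = θ n)
    (hinv : ∀ (g : G) (n : N), θ ⟨g * n * g⁻¹, hN.conj_mem (n : G) n.2 g⟩ = θ n)
    (E : Subgroup G) (hE : Group.IsSolvable E) :
    ∃ ξ : (N ⊔ E : Subgroup G) → ℂ, IsFixedExt k N θ (N ⊔ E) ξ := by
  classical
  set K : Subgroup G := N ⊔ E
  have hNK : N ≤ K := le_sup_left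
  let e : N.subgroupOf K ≃* N := Subgroup.subgroupOfEquivOfLe hNK
  haveI := hE
  have hsol : Group.IsSolvable (K ⧸ N.subgroupOf K) := by
    let f : E →* K ⧸ N.subgroupOf K :=
      (QuotientGroup.mk' (N.subgroupOf K)).comp (Subgroup.inclusion le_sup_right)
    refine Group.isSolvable_of_surjective (f := f) fun x => ?_
    refine QuotientGroup.induction_on x fun z => ?_
    obtain ⟨n, hn, y, hy, hz⟩ := Subgroup.mem_sup_of_normal_left.1 z.2
    refine ⟨⟨y, hy⟩, ?_⟩
    show QuotientGroup.mk (Subgroup.inclusion le_sup_right ⟨y, hy⟩) = QuotientGroup.mk z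
    rw [QuotientGroup.eq, Subgroup.mem_subgroupOf]
    show y⁻¹ * (z : G) ∈ N
    rw [← hz]
    have := hN.conj_mem' n hn y
    simpa [mul_assoc] using this
  obtain ⟨ξ, hξ, hξn, hξf⟩ := exists_fixed_solvable (k := k) _ K rfl (h.sub K) (N.subgroupOf K)
    (hodd.of_dvd_nat (Subgroup.relIndex_dvd_index_of_normal N K)) hsol
    (θ := fun x => θ (e x))
    (CfsgLib.Clifford.isIrrCharacter_pullback hθ e.toMonoidHom e.surjective)
    (fun m => by rw [map_pow, hθf]) (fun g m => hinv g (e m))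
  exact ⟨ξ, isCharacter_of_irr hξ, fun n hn => hξn ⟨⟨n, hn⟩, n.2⟩, hξf⟩

theorem isSolvable_of_isElementary {E : Type u} [Group E] [Finite E] {p : ℕ} (hp : p.Prime)
    (h : IsElementary p E) : Group.IsSolvable E := by
  obtain ⟨x, hx, -, j, hj⟩ := h
  haveI : Fact p.Prime := ⟨hp⟩
  have hn : (Subgroup.zpowers x).Normal :=
    CfsgLib.Brauer.normal_of_le_center (Subgroup.zpowers_le.2 hx)
  haveI := hn
  have hpg : IsPGroup p (E ⧸ Subgroup.zpowers x) :=
    IsPGroup.of_card (n := j) (by rw [← Subgroup.index_eq_card, hj])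
  haveI : Group.IsNilpotent (E ⧸ Subgroup.zpowers x) := hpg.isNilpotent
  haveI : Group.IsSolvable (E ⧸ Subgroup.zpowers x) := inferInstance
  haveI : Group.IsSolvable (Subgroup.zpowers x) :=
    Group.isSolvable_of_comm fun a b => mul_comm_of_mem_zpowers' a b
  exact Group.isSolvable_of_ker_le_range (Subgroup.zpowers x).subtype
    (QuotientGroup.mk' (Subgroup.zpowers x)) (by rw [QuotientGroup.ker_mk', Subgroup.range_subtype])
where
  mul_comm_of_mem_zpowers' {E : Type u} [Group E] {x : E} (a b : Subgroup.zpowers x) :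
      a * b = b * a := by
    obtain ⟨i, hi⟩ := Subgroup.mem_zpowers_iff.1 a.2
    obtain ⟨l, hl⟩ := Subgroup.mem_zpowers_iff.1 b.2
    refine Subtype.ext ?_
    rw [Subgroup.coe_mul, Subgroup.coe_mul, ← hi, ← hl]
    exact zpow_mul_comm x i l

/-- An invariant fixed character extends to a fixed character over any quotient of odd order. -/
theorem exists_fixed (h : PowData k G) (N : Subgroup G) [hN : N.Normal] [Fintype N]
    (hodd : Odd N.index) {θ : N → ℂ} (hθ : IsIrrCharacter N θ) (hθf : ∀ n : N, θ (n ^ k) = θ n)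
    (hinv : ∀ (g : G) (n : N), θ ⟨g * n * g⁻¹, hN.conj_mem (n : G) n.2 g⟩ = θ n) :
    ∃ η : G → ℂ, IsIrrCharacter G η ∧ (∀ n : N, η n = θ n) ∧ ∀ g, η (g ^ k) = η g := by
  classical
  have hsolz : ∀ g : G, Group.IsSolvable (Subgroup.zpowers g) := fun g =>
    Group.isSolvable_of_comm fun a b =>
      isSolvable_of_isElementary.mul_comm_of_mem_zpowers' a b
  choose X hX using fun g : G =>
    exists_fixedExt h N hodd hθ hθf hinv (Subgroup.zpowers g) (hsolz g)
  let η : G → ℂ := fun g => X g ⟨g, Subgroup.mem_sup_right (Subgroup.mem_zpowers g)⟩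
  -- the value does not depend on the subgroup
  have key : ∀ (K : Subgroup G) (ξ : K → ℂ), N ≤ K → IsFixedExt k N θ K ξ → ∀ x : K, η x = ξ x := by
    intro K ξ hNK hξ x
    have hle : N ⊔ Subgroup.zpowers (x : G) ≤ K := sup_le hNK (Subgroup.zpowers_le.2 x.2)
    have := fixedExt_unique h N hodd hθ _ le_sup_left (hX (x : G)) (fixedExt_restrict N hle hξ)
    exact congrFun this _
  have hηn : ∀ n : N, η n = θ n := fun n => (hX (n : G)).2.1 n _
  have hηf : ∀ g, η (g ^ k) = η g := by
    intro g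
    have h1 := key _ (X g) le_sup_left (hX g)
      (⟨g, Subgroup.mem_sup_right (Subgroup.mem_zpowers g)⟩ ^ k)
    rw [Subgroup.coe_pow, (hX g).2.2] at h1
    exact h1
  have hcl : IsClassFunction G η := by
    intro g t
    set g' := t * g * t⁻¹ with hg'
    set K := N ⊔ Subgroup.zpowers g
    set K' := N ⊔ Subgroup.zpowers g'
    have hmap : ∀ x ∈ K, t * x * t⁻¹ ∈ K' := by
      intro x hx
      have h1 : (N ⊔ Subgroup.zpowers g).map (MulAut.conj t).toMonoidHom ≤ K' := by
        rw [Subgroup.map_sup, MonoidHom.map_zpowers]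
        refine sup_le_sup ?_ le_rfl
        rintro _ ⟨m, hm, rfl⟩
        exact hN.conj_mem m hm t
      exact h1 ⟨x, hx, rfl⟩
    let c : K →* K' := ((MulAut.conj t).toMonoidHom.comp K.subtype).codRestrict K'
      fun x => hmap x x.2
    have hξ : IsFixedExt k N θ K (fun x => X g' (c x)) := by
      refine ⟨CfsgLib.Clifford.isCharacter_pullback (hX g').1 c, fun n hn => ?_, fun x => ?_⟩
      · refine Eq.trans ?_ (hinv t n)
        exact (hX g').2.1 ⟨t * n * t⁻¹, hN.conj_mem _ n.2 t⟩ _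
      · exact (congrArg (X g') (map_pow c x k)).trans ((hX g').2.2 _)
    exact (key K _ le_sup_left hξ ⟨g, Subgroup.mem_sup_right (Subgroup.mem_zpowers g)⟩).symm
  have hgen : IsGeneralizedCharacter G η := by
    refine CfsgLib.Brauer.isGeneralizedCharacter_of_restrictions hcl fun E q hq hE => ?_
    obtain ⟨ξ, hξ⟩ := exists_fixedExt h N hodd hθ hθf hinv E (isSolvable_of_isElementary hq hE)
    have h1 : (fun y : E => η y) = fun y => ξ (Subgroup.inclusion le_sup_right y) :=
      funext fun y => key _ ξ le_sup_left hξ (Subgroup.inclusion le_sup_right y)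
    rw [h1]
    exact isGeneralizedCharacter_of_isCharacter
      (CfsgLib.Clifford.isCharacter_pullback hξ.1 _)
  -- the average of `|η|²` over every coset is one
  have havg : ∀ g : G, ∑ n : N, η ((n : G) * g) * conj (η ((n : G) * g)) = (Nat.card N : ℂ) := by
    intro g
    set K := N ⊔ Subgroup.zpowers g
    have hNK : N ≤ K := le_sup_left
    let e : N.subgroupOf K ≃* N := Subgroup.subgroupOfEquivOfLe hNK
    have hres : (fun x : N.subgroupOf K => X g x) = fun x => θ (e x) :=
      funext fun x => (hX g).2.1 (e x) (x : K).2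
    have h1 := congrFun (CfsgLib.NormalAvg.pairAvg_self (N.subgroupOf K) (hX g).1
      (hres ▸ CfsgLib.Clifford.isIrrCharacter_pullback hθ e.toMonoidHom e.surjective))
      ⟨g, Subgroup.mem_sup_right (Subgroup.mem_zpowers g)⟩
    rw [CfsgLib.NormalAvg.pairAvg_apply, Nat.card_congr e.toEquiv,
      inv_mul_eq_iff_eq_mul₀ (Nat.cast_ne_zero.2 Nat.card_pos.ne'), mul_one] at h1
    rw [← h1]
    refine (Fintype.sum_equiv e.toEquiv _ _ fun x => ?_).symm
    have h2 := key K (X g) hNK (hX g)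
      ((x : K) * ⟨g, Subgroup.mem_sup_right (Subgroup.mem_zpowers g)⟩)
    rw [← h2]
    rfl
  have hnorm : classInner η η = 1 := by
    have hn : (Nat.card N : ℂ) ≠ 0 := Nat.cast_ne_zero.2 Nat.card_pos.ne'
    have h1 : ∑ g : G, ∑ n : N, η ((n : G) * g) * conj (η ((n : G) * g)) =
        (Nat.card N : ℂ) * ∑ g : G, η g * conj (η g) := by
      have h0 : ∀ n : N, ∑ g : G, η ((n : G) * g) * conj (η ((n : G) * g)) =
          ∑ g : G, η g * conj (η g) := fun n =>
        Equiv.sum_comp (Equiv.mulLeft (n : G)) (fun g => η g * conj (η g))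
      rw [Finset.sum_comm, Finset.sum_congr rfl (fun n _ => h0 n), Finset.sum_const,
        Finset.card_univ, nsmul_eq_mul, Nat.card_eq_fintype_card]
    rw [Finset.sum_congr rfl (fun g _ => havg g), Finset.sum_const, Finset.card_univ,
      nsmul_eq_mul, mul_comm] at h1
    rw [classInner, ← mul_left_cancel₀ hn h1, Nat.card_eq_fintype_card,
      inv_mul_cancel₀ (Nat.cast_ne_zero.2 Fintype.card_ne_zero)]
  refine ⟨η, isIrrCharacter_of_generalized_norm_one hgen hnorm ?_, hηn, hηf⟩
  obtain ⟨d, hd⟩ := exists_degree (isCharacter_of_irr hθ)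
  rw [show η 1 = θ 1 from hηn 1, hd, Complex.natCast_re]
  exact Nat.cast_nonneg d

theorem over_eq_mult (N : Subgroup G) [hN : N.Normal] [Fintype N] {θ : N → ℂ}
    (hθ : IsIrrCharacter N θ) {χ : G → ℂ} (hχ : IsIrrCharacter G χ)
    (hinv : ∀ (g : G) (n : N), θ ⟨g * n * g⁻¹, hN.conj_mem (n : G) n.2 g⟩ = θ n)
    (hover : classInner (fun n : N => χ n) θ ≠ 0) :
    χ 1 = classInner (fun n : N => χ n) θ * θ 1 := by
  have h := CfsgLib.Clifford.clifford_degree hN hχ hθ hover
  have htop : CfsgLib.Clifford.inertia hN θ = ⊤ :=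
    eq_top_iff.2 fun g _ => CfsgLib.Clifford.mem_inertia.2 fun n => hinv g n
  rwa [htop, Subgroup.index_top, Nat.cast_one, mul_one] at h

/-- Clifford induction is injective on the characters over `θ`. -/
theorem indFun_inj (N : Subgroup G) [hN : N.Normal] [Fintype N] {θ : N → ℂ}
    (hθ : IsIrrCharacter N θ) (T : Subgroup G) [Fintype T]
    (hT : T = CfsgLib.Clifford.inertia hN θ) (hNT : N ≤ T) {χ : G → ℂ} (hχ : IsIrrCharacter G χ)
    {ψ ψ' : IrrCharacter T} (h1 : indFun T (ψ : T → ℂ) = χ) (h2 : indFun T (ψ' : T → ℂ) = χ)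
    (o1 : classInner (fun n : N => (ψ : T → ℂ) (Subgroup.inclusion hNT n)) θ ≠ 0)
    (o2 : classInner (fun n : N => (ψ' : T → ℂ) (Subgroup.inclusion hNT n)) θ ≠ 0) : ψ = ψ' := by
  classical
  by_contra hne
  have hχc := isCharacter_of_irr hχ
  let ι : N →* T := Subgroup.inclusion hNT
  obtain ⟨m, hm, hsum⟩ := CfsgLib.Clifford.exists_mult
    (CfsgLib.Clifford.isCharacter_subtype hχc T)
  have hk : ∀ ξ : IrrCharacter T, ∃ a : ℕ,
      classInner (fun n : N => (ξ : T → ℂ) (ι n)) θ = (a : ℂ) :=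
    fun ξ => classInner_char_nat (CfsgLib.Clifford.isCharacter_pullback (irr_isCharacter ξ) ι)
      (isCharacter_of_irr hθ)
  choose a ha using hk
  have hexp : classInner (fun n : N => χ n) θ = ∑ ξ : IrrCharacter T, (m ξ : ℂ) * (a ξ : ℂ) := by
    have : (fun n : N => χ n) =
        ∑ ξ : IrrCharacter T, (m ξ : ℂ) • fun n : N => (ξ : T → ℂ) (ι n) := by
      funext n
      have := congrFun hsum (ι n)
      simp only [Finset.sum_apply, Pi.smul_apply, smul_eq_mul] at this ⊢
      exact this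
    rw [this, classInner_sum_left]
    exact Finset.sum_congr rfl fun ξ _ => by rw [classInner_smul_left, ha]
  have hm1 : ∀ ξ : IrrCharacter T, indFun T (ξ : T → ℂ) = χ → m ξ = 1 := by
    intro ξ hξ
    have h3 := CfsgLib.Induction.classInner_indFun T (ξ : T → ℂ)
      (isClassFunction_of_isCharacter hχc)
    rw [hξ, classInner_irr_self hχ, classInner_conj_symm, hm ξ, Complex.conj_natCast] at h3
    exact_mod_cast h3.symm
  obtain ⟨e, he⟩ := classInner_char_nat (CfsgLib.Clifford.isCharacter_subtype hχc N)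
    (isCharacter_of_irr hθ)
  have hdeg : ∀ ξ : IrrCharacter T, indFun T (ξ : T → ℂ) = χ →
      classInner (fun n : N => (ξ : T → ℂ) (ι n)) θ ≠ 0 → a ξ = e ∧ a ξ ≠ 0 := by
    intro ξ hξ hξo
    have ha0 : a ξ ≠ 0 := fun h0 => hξo (by rw [ha, h0, Nat.cast_zero])
    have hle : (m ξ * a ξ) ≤ ∑ ζ : IrrCharacter T, m ζ * a ζ :=
      Finset.single_le_sum (f := fun ζ => m ζ * a ζ) (fun _ _ => Nat.zero_le _) (Finset.mem_univ ξ)
    have hee : e = ∑ ζ : IrrCharacter T, m ζ * a ζ := by exact_mod_cast he.symm.trans hexp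
    rw [hm1 ξ hξ, one_mul, ← hee] at hle
    have hcon : classInner (fun n : N => χ n) θ ≠ 0 := by
      rw [he]
      exact Nat.cast_ne_zero.2 (by omega)
    let eN : N.subgroupOf T ≃* N := Subgroup.subgroupOfEquivOfLe hNT
    have hξ1 : (ξ : T → ℂ) 1 = (a ξ : ℂ) * θ 1 := by
      have hin : classInner (fun x : N.subgroupOf T => (ξ : T → ℂ) x) (fun x => θ (eN x)) =
          (a ξ : ℂ) := by
        rw [← ha]
        unfold classInner
        rw [Nat.card_congr eN.toEquiv]
        congr 1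
        exact Fintype.sum_equiv eN.toEquiv _ _ fun x => rfl
      have h4 := over_eq_mult (N.subgroupOf T) (θ := fun x => θ (eN x))
        (CfsgLib.Clifford.isIrrCharacter_pullback hθ eN.toMonoidHom eN.surjective) ξ.2
        (fun g x => by
          have hg : (g : G) ∈ CfsgLib.Clifford.inertia hN θ := hT ▸ g.2
          exact CfsgLib.Clifford.mem_inertia.1 hg (eN x))
        (by rw [hin]; exact Nat.cast_ne_zero.2 ha0)
      rw [h4, hin, map_one]
    have h5 := CfsgLib.Clifford.clifford_degree hN hχ hθ hcon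
    have h6 : χ 1 = (T.index : ℂ) * (ξ : T → ℂ) 1 := by
      rw [← hξ, CfsgLib.Induction.indFun_one_apply]
    rw [he, ← hT, h6, hξ1] at h5
    refine ⟨?_, ha0⟩
    have hθ1 : θ 1 ≠ 0 := irr_one_ne_zero (⟨θ, hθ⟩ : IrrCharacter N)
    have hidx : (T.index : ℂ) ≠ 0 := Nat.cast_ne_zero.2 Subgroup.index_ne_zero_of_finite
    have h7 : (a ξ : ℂ) * ((T.index : ℂ) * θ 1) = (e : ℂ) * ((T.index : ℂ) * θ 1) := by
      linear_combination h5
    exact_mod_cast mul_right_cancel₀ (mul_ne_zero hidx hθ1) h7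
  obtain ⟨e1, n1⟩ := hdeg ψ h1 o1
  obtain ⟨e2, -⟩ := hdeg ψ' h2 o2
  have hee : e = ∑ ζ : IrrCharacter T, m ζ * a ζ := by exact_mod_cast he.symm.trans hexp
  have hle : m ψ * a ψ + m ψ' * a ψ' ≤ ∑ ζ : IrrCharacter T, m ζ * a ζ := by
    rw [← Finset.sum_pair (f := fun ζ => m ζ * a ζ) hne]
    exact Finset.sum_le_sum_of_subset (Finset.subset_univ _)
  rw [hm1 ψ h1, hm1 ψ' h2, ← hee] at hle
  omega

end CfsgLib.OddExt
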