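import Cfsg.Agent.Lib.Blk7.SelfCentralPrime

/-!
The determinant of a character of degree `p - 1` at a `p`-self-centralising group.
-/

set_option autoImplicit false
set_option linter.unusedSectionVars false
set_option linter.style.haveILetI false

noncomputable section

namespace CfsgLib.SelfCentralPrime

open Cfsg CfsgLib.Characters
open scoped ComplexConjugate

universe u

variable {G : Type u} [Group G]

/-- A homomorphism to a commutative group taking a value of order two. -/
theorem even_index_of_hom [Finite G] {A : Type*} [CommGroup A] (f : G →* A) {y : G}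
    (hy : orderOf (f y) = 2) : Even (commutator G).index := by
  rw [Subgroup.index_eq_card, even_iff_two_dvd]
  have h1 : orderOf (Abelianization.lift f (Abelianization.of y)) ∣
      orderOf (Abelianization.of y) := orderOf_map_dvd _ _
  rw [Abelianization.lift_apply_of, hy] at h1
  exact h1.trans (orderOf_dvd_natCard (Abelianization.of y))

/-- The case of an involution. -/
theorem even_index_two [Finite G] {x : G} (hx : orderOf x = 2)
    (hC : Subgroup.centralizer ({x} : Set G) = Subgroup.zpowers x) :
    Even (commutator G).index := by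
  classical
  haveI := Fintype.ofFinite G
  haveI : Fact (Nat.Prime 2) := ⟨Nat.prime_two⟩
  obtain ⟨P, hP⟩ := exists_sylow hx hC
  have hfac : (Nat.card G).factorization 2 = 1 := by
    have h := P.card_eq_multiplicity
    rw [hP, Nat.card_zpowers, hx] at h
    exact (Nat.pow_eq_self_iff (by norm_num)).1 h.symm
  set σ : Equiv.Perm G := MulAction.toPermHom G G x with hσdef
  have hσ : orderOf σ = 2 := by
    rw [hσdef, orderOf_injective (MulAction.toPermHom G G)
      (MulAction.toPerm_injective) x, hx]
  obtain ⟨m, hm⟩ := Equiv.Perm.cycleType_prime_order (σ := σ) (by rw [hσ]; exact Nat.prime_two)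
  rw [hσ] at hm
  have hsupp : σ.support = Finset.univ := by
    refine Finset.eq_univ_of_forall fun a => Equiv.Perm.mem_support.2 fun h => ?_
    have h1 : x * a = a := h
    have : x = 1 := by simpa using h1
    rw [this, orderOf_one] at hx
    exact absurd hx (by norm_num)
  have hsum := σ.sum_cycleType
  rw [hm, Multiset.sum_replicate, hsupp, Finset.card_univ, ← Nat.card_eq_fintype_card,
    smul_eq_mul] at hsum
  have hodd : Odd (m + 1) := by
    rw [Nat.odd_iff]
    have h4 : ¬ 2 ^ 2 ∣ Nat.card G := fun h => by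
      have := (Nat.prime_two.pow_dvd_iff_le_factorization Nat.card_pos.ne').1 h
      omega
    rw [← hsum] at h4
    omega
  have hsign : Equiv.Perm.sign σ = -1 := by
    rw [Equiv.Perm.sign_of_cycleType, hm, Multiset.sum_replicate, Multiset.card_replicate,
      smul_eq_mul]
    exact Odd.neg_one_pow (Even.add_odd ⟨m + 1, by ring⟩ hodd)
  refine even_index_of_hom ((Equiv.Perm.sign).comp (MulAction.toPermHom G G)) (y := x) ?_
  rw [MonoidHom.comp_apply, ← hσdef, hsign]
  exact orderOf_eq_prime (by decide) (by decide)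

variable {p : ℕ} [hp : Fact p.Prime] {x : G}

/-- A representation of degree `p - 1` has a determinant of order two. -/
theorem even_index_of_odd [Fintype G] (hx : orderOf x = p)
    (hC : Subgroup.centralizer ({x} : Set G) = Subgroup.zpowers x) {d : ℕ}
    (ρ : Representation ℂ G (Fin d → ℂ)) [ρ.IsIrreducible] (hd : d + 1 = p) (hp2 : p ≠ 2)
    (ht : Odd (expGroup hx).index) : Even (commutator G).index := by
  classical
  set e := Nat.card (expGroup hx) with he
  set t := (expGroup hx).index
  have hte : t * e = p - 1 := index_mul_card hx hC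
  have heven : Even e := by
    have h1 : Even (p - 1) := (hp.out.odd_of_ne_two hp2).tsub_odd (by norm_num)
    rw [← hte, Nat.even_mul] at h1
    exact h1.resolve_left (Nat.not_even_iff_odd.2 ht)
  have he2 : 2 ≤ e := by
    obtain ⟨k, hk⟩ := heven
    have : 0 < e := Nat.card_pos
    omega
  obtain ⟨b, j, hb, hj⟩ := exists_regular_basis hx hC ρ hd he2
  obtain ⟨g, hg⟩ := IsCyclic.exists_generator (α := expGroup hx)
  have hgo : orderOf g = e := by
    rw [he]; exact orderOf_eq_card_of_forall_mem_zpowers hg
  obtain ⟨n, hn⟩ := isConj_iff.1 ((mem_expGroup hx).1 g.2)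
  -- the element `y`
  have hconj : ∀ k : ℕ, n ^ k * x * (n ^ k)⁻¹ = pw x (((g.1 ^ k : (ZMod p)ˣ)) : ZMod p) := by
    intro k
    induction k with
    | zero => simp [pw_one]
    | succ k ih =>
      rw [pow_succ, mul_inv_rev, show n ^ k * n * x * (n⁻¹ * (n ^ k)⁻¹) =
          n ^ k * (n * x * n⁻¹) * (n ^ k)⁻¹ by group, hn, pw, ← conj_pow, ih, pw_pow_val hx,
        ← Units.val_mul, ← pow_succ]
  set y := n ^ p
  have hgp : (g.1 : (ZMod p)ˣ) ^ p = g.1 := by
    have h1 : (g.1 : (ZMod p)ˣ) ^ (p - 1) = 1 := ZMod.units_pow_card_sub_one_eq_one p _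
    calc (g.1 : (ZMod p)ˣ) ^ p = g.1 ^ (p - 1) * g.1 := by rw [← pow_succ]; congr 1; omega
      _ = g.1 := by rw [h1, one_mul]
  have hy : ∀ k : ℕ, y ^ k * x * (y ^ k)⁻¹ = pw x (((g.1 ^ k : (ZMod p)ˣ)) : ZMod p) := by
    intro k
    rw [← pow_mul, hconj, pow_mul, hgp]
  have hge : (g.1 : (ZMod p)ˣ) ^ e = 1 := by
    rw [← hgo, ← Subgroup.coe_pow, pow_orderOf_eq_one, Subgroup.coe_one]
  have hye : y ^ e = 1 := by
    have h1 : n ^ e ∈ Subgroup.zpowers x := by
      rw [← hC, Subgroup.mem_centralizer_singleton_iff]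
      have h2 := hconj e
      rw [hge, Units.val_one, pw_one] at h2
      exact mul_inv_eq_iff_eq_mul.1 h2
    obtain ⟨i, hi⟩ := Subgroup.mem_zpowers_iff.1 h1
    rw [← pow_mul, mul_comm, pow_mul, ← hi, ← zpow_natCast, ← zpow_mul, mul_comm, zpow_mul,
      zpow_natCast, ← hx, pow_orderOf_eq_one, one_zpow]
  -- traces vanish
  have htr : ∀ k : ℕ, 0 < k → k < e → ρ.character (y ^ k) = 0 := by
    intro k hk hke
    set γ := ((g.1 ^ k : (ZMod p)ˣ) : ZMod p)
    have hγ : γ ≠ 1 := fun h => by
      have h1 : g ^ k = 1 := Subtype.ext (Units.ext h)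
      have h2 := Nat.le_of_dvd hk (orderOf_dvd_of_pow_eq_one h1)
      omega
    rw [Representation.character, LinearMap.trace_eq_matrix_trace ℂ b, Matrix.trace]
    refine Finset.sum_eq_zero fun l _ => ?_
    rw [Matrix.diag, LinearMap.toMatrix_apply]
    have h1 : ρ (pw x γ) (ρ (y ^ k) (b l)) = ZMod.stdAddChar (j l) • ρ (y ^ k) (b l) := by
      rw [← Module.End.mul_apply, ← map_mul, ← hy k, inv_mul_cancel_right, map_mul,
        Module.End.mul_apply, hb, map_smul]
    have h2 := congrArg (fun v => b.repr v l) h1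
    simp only [map_smul, Finsupp.smul_apply, smul_eq_mul] at h2
    have h3 : ∀ v, b.repr (ρ (pw x γ) v) l = ZMod.stdAddChar (γ * j l) * b.repr v l := by
      intro v
      conv_lhs => rw [← b.sum_repr v]
      simp only [map_sum, map_smul, rho_pw hx ρ b j hb γ, Finsupp.finsetSum_apply,
        Finsupp.smul_apply, Module.Basis.repr_self, smul_eq_mul]
      rw [Finset.sum_eq_single l]
      · simp [mul_comm]
      · intro i _ hi
        simp [Finsupp.single_eq_of_ne hi.symm]
      · simp
    rw [h3] at h2
    by_contra hne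
    have h4 := ZMod.injective_stdAddChar (mul_right_cancel₀ hne h2)
    exact hγ (mul_right_cancel₀ (hj l) (by rw [one_mul]; exact h4))
  -- eigenvalue multiplicities of `y`
  obtain ⟨c, ω, hω, hc⟩ := exists_eigenbasis ρ y
  have hωe : ∀ i, ω i ^ e = 1 := fun i => by
    obtain ⟨q, hq⟩ := orderOf_dvd_of_pow_eq_one hye
    rw [hq, pow_mul, hω, one_pow]
  have hpow : ∀ k : ℕ, ρ.character (y ^ k) = ∑ i, ω i ^ k := by
    intro k
    refine character_eq_sum_of_eigenbasis ρ _ c _ fun i => ?_
    induction k with
    | zero => simp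
    | succ k ih => rw [pow_succ', map_mul, Module.End.mul_apply, ih, map_smul, hc, smul_smul, pow_succ]
  set w := Complex.exp (2 * Real.pi * Complex.I / e)
  have hw : IsPrimitiveRoot w e := Complex.isPrimitiveRoot_exp e (by omega)
  have hroot : ∀ i, ∃ k < e, w ^ k = ω i := fun i => by
    haveI : NeZero e := ⟨by omega⟩
    exact hw.eq_pow_of_pow_eq_one (hωe i)
  choose κ hκ hκω using hroot
  have hmult : ∀ k < e, (Finset.univ.filter fun i => κ i = k).card = t := by
    intro k hk
    have h0 : (w ^ k) ≠ 0 := pow_ne_zero _ (hw.ne_zero (by omega))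
    have hS : ∑ l ∈ Finset.range e, ∑ i, (ω i / w ^ k) ^ l = ((p - 1 : ℕ) : ℂ) := by
      rw [Finset.sum_eq_single 0]
      · simp [show d = p - 1 by omega]
      · intro l hl hl0
        simp only [div_pow, ← Finset.sum_div, ← hpow,
          htr l (Nat.pos_of_ne_zero hl0) (Finset.mem_range.1 hl), zero_div]
      · intro h; exact absurd (Finset.mem_range.2 (by omega)) h
    rw [Finset.sum_comm] at hS
    have h1 : ∀ i, ∑ l ∈ Finset.range e, (ω i / w ^ k) ^ l = if κ i = k then (e : ℂ) else 0 := by
      intro i
      split_ifs with h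
      · rw [← hκω, h, div_self h0]
        simp
      · rw [geom_sum_eq, div_pow, hωe, ← pow_mul, mul_comm, pow_mul, hw.pow_eq_one, one_pow,
          div_one, sub_self, zero_div]
        intro h2
        rw [div_eq_one_iff_eq h0, ← hκω] at h2
        exact h (hw.pow_inj (hκ i) hk h2)
    simp only [h1, Finset.sum_ite, Finset.sum_const_zero, add_zero, Finset.sum_const,
      nsmul_eq_mul] at hS
    rw [← hte] at hS
    have h2 : (Finset.univ.filter fun i => κ i = k).card * e = t * e := by exact_mod_cast hS
    exact Nat.eq_of_mul_eq_mul_right (by omega) h2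
  have hdet : LinearMap.det (ρ y) = -1 := by
    have hmat : LinearMap.toMatrix c c (ρ y) = Matrix.diagonal ω := by
      ext i l
      rw [LinearMap.toMatrix_apply, hc, map_smul, Finsupp.smul_apply, Module.Basis.repr_self,
        Matrix.diagonal_apply, smul_eq_mul, Finsupp.single_apply]
      by_cases h : i = l
      · subst h; simp
      · simp [h, Ne.symm h]
    rw [← LinearMap.det_toMatrix c, hmat, Matrix.det_diagonal,
      Finset.prod_congr rfl (fun i _ => (hκω i).symm),
      ← Finset.prod_fiberwise_of_maps_to (t := Finset.range e) (g := κ)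
        (fun i _ => Finset.mem_range.2 (hκ i))]
    rw [Finset.prod_congr rfl (g := fun k => (w ^ k) ^ t) fun k hk => by
      rw [Finset.prod_congr rfl (fun i hi => by rw [(Finset.mem_filter.1 hi).2] :
        ∀ i ∈ _, w ^ κ i = w ^ k), Finset.prod_const, hmult k (Finset.mem_range.1 hk)],
      Finset.prod_pow, Finset.prod_pow_eq_pow_sum, Finset.sum_range_id]
    obtain ⟨h, hh⟩ := heven
    have hhalf : w ^ h = -1 := by
      have h1 : (w ^ h) ^ 2 = 1 := by rw [← pow_mul, show h * 2 = e by omega, hw.pow_eq_one]
      rcases sq_eq_one_iff.1 h1 with h2 | h2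
      · exact absurd h2 (hw.pow_ne_one_of_pos_of_lt (by omega) (by omega))
      · exact h2
    rw [show e * (e - 1) / 2 = h * (e - 1) by
      rw [hh, ← two_mul, mul_assoc, Nat.mul_div_cancel_left _ two_pos], pow_mul, hhalf,
      (Nat.Even.sub_odd (by omega) ⟨h, hh⟩ odd_one).neg_one_pow, ht.neg_one_pow]
  let D : G →* ℂˣ := MonoidHom.toHomUnits (LinearMap.det.comp ρ)
  refine even_index_of_hom D (y := y) ?_
  rw [← orderOf_units, MonoidHom.coe_toHomUnits, MonoidHom.comp_apply, hdet]
  exact orderOf_eq_prime (by norm_num) (by norm_num)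

end CfsgLib.SelfCentralPrime
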