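import Cfsg.Agent.Lib.Characters.Values
import Cfsg.Agent.Lib.Blocks.ClassCount
import Mathlib.Analysis.SpecialFunctions.Complex.CircleAddChar
import Mathlib.GroupTheory.Perm.Cycle.Type
import Mathlib.GroupTheory.Abelianization.Defs
import Mathlib.RingTheory.IntegralDomain
import Mathlib.FieldTheory.Finite.Basic
import Mathlib.RingTheory.RootsOfUnity.Complex

/-!
Characters of degree `p - 1` of a group with a self-centralising element of prime order `p`.
-/

set_option autoImplicit false
set_option linter.unusedSectionVars false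
set_option linter.style.haveILetI false

noncomputable section

namespace CfsgLib.SelfCentralPrime

open Cfsg CfsgLib.Characters
open scoped ComplexConjugate

universe u

variable {G : Type u} [Group G] {p : ℕ} [hp : Fact p.Prime] {x : G}

/-- The powers of `x` indexed by residues. -/
def pw (x : G) (i : ZMod p) : G := x ^ i.val

theorem pw_one : pw x (1 : ZMod p) = x := by
  rw [pw, ZMod.val_one, pow_one]

variable (hx : orderOf x = p)

include hx

theorem pw_pow (i : ZMod p) (k : ℕ) : pw x i ^ k = pw x (i * (k : ZMod p)) := by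
  rw [pw, pw, ← pow_mul, ← pow_mod_orderOf, hx, ZMod.val_mul, ZMod.val_natCast, Nat.mul_mod,
    Nat.mod_eq_of_lt (ZMod.val_lt i)]

theorem pw_pow_val (i j : ZMod p) : pw x i ^ j.val = pw x (i * j) := by
  rw [pw_pow hx, ZMod.natCast_zmod_val]

theorem pow_eq_pw (k : ℕ) : x ^ k = pw x (k : ZMod p) := by
  rw [pw, ZMod.val_natCast, ← hx, pow_mod_orderOf]

theorem pw_eq_one_iff (i : ZMod p) : pw x i = 1 ↔ i = 0 := by
  rw [pw, ← orderOf_dvd_iff_pow_eq_one, hx]
  constructor
  · intro h
    rw [← ZMod.val_eq_zero]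
    exact Nat.eq_zero_of_dvd_of_lt h (ZMod.val_lt i)
  · rintro rfl
    simp

omit hx in
theorem isConj_pow {a b : G} (h : IsConj a b) (k : ℕ) : IsConj (a ^ k) (b ^ k) := by
  obtain ⟨c, rfl⟩ := isConj_iff.1 h
  exact isConj_iff.2 ⟨c, conj_pow.symm⟩

/-- The residues by which `x` is conjugate to its power. -/
def expGroup : Subgroup (ZMod p)ˣ where
  carrier := {g | IsConj x (pw x (g : ZMod p))}
  one_mem' := by simp only [Set.mem_ofPred_eq, Units.val_one, pw_one]; exact IsConj.refl x
  mul_mem' := fun {a b} (ha : IsConj x _) (hb : IsConj x _) => by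
    show IsConj x (pw x ((a * b : (ZMod p)ˣ) : ZMod p))
    have h := isConj_pow ha (b : ZMod p).val
    rw [pw_pow_val hx] at h
    rw [Units.val_mul]
    exact hb.trans h
  inv_mem' := fun {a} (ha : IsConj x _) => by
    show IsConj x (pw x ((a⁻¹ : (ZMod p)ˣ) : ZMod p))
    have h := isConj_pow ha ((a⁻¹ : (ZMod p)ˣ) : ZMod p).val
    rw [pw_pow_val hx, ← Units.val_mul, mul_inv_cancel, Units.val_one, pw_one] at h
    exact h.symm

theorem mem_expGroup {g : (ZMod p)ˣ} : g ∈ expGroup hx ↔ IsConj x (pw x (g : ZMod p)) := Iff.rfl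

theorem isConj_pw {i : ZMod p} (hi : i ≠ 0) (l : ZMod p) :
    IsConj (pw x i) (pw x l) ↔ ∃ g ∈ expGroup hx, l = (g : (ZMod p)ˣ) * i := by
  constructor
  · intro h
    have hl : l ≠ 0 := by
      rintro rfl
      rw [(pw_eq_one_iff hx 0).2 rfl] at h
      exact hi ((pw_eq_one_iff hx i).1 (isConj_one_left.1 h))
    refine ⟨Units.mk0 (l * i⁻¹) (mul_ne_zero hl (inv_ne_zero hi)), ?_, ?_⟩
    · have h1 := isConj_pow h (i⁻¹ : ZMod p).val
      rwa [pw_pow_val hx, pw_pow_val hx, mul_inv_cancel₀ hi, pw_one] at h1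
    · rw [Units.val_mk0, mul_assoc, inv_mul_cancel₀ hi, mul_one]
  · rintro ⟨g, hg, rfl⟩
    have h1 := isConj_pow ((mem_expGroup hx).1 hg) i.val
    rwa [pw_pow_val hx, ← pw_one (x := x) (p := p), pw_one, ← pow_one x, pow_one,
      show x ^ i.val = pw x i from rfl] at h1

variable (hC : Subgroup.centralizer ({x} : Set G) = Subgroup.zpowers x)

include hC

theorem centralizer_pw {i : ZMod p} (hi : i ≠ 0) :
    Subgroup.centralizer ({pw x i} : Set G) = Subgroup.zpowers x := by
  rw [← hC]
  ext g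
  simp only [Subgroup.mem_centralizer_singleton_iff]
  refine ⟨fun h => ?_, fun h => ?_⟩
  · have h1 : Commute g (pw x i) := h
    have h2 := h1.pow_right (i⁻¹ : ZMod p).val
    rwa [pw_pow_val hx, mul_inv_cancel₀ hi, pw_one] at h2
  · exact (show Commute g x from h).pow_right _

theorem natCard_centralizer_pw {i : ZMod p} (hi : i ≠ 0) :
    Nat.card (Subgroup.centralizer ({pw x i} : Set G)) = p := by
  rw [centralizer_pw hx hC hi, Nat.card_zpowers, hx]

variable [Finite G]

/-- A Sylow subgroup is generated by `x`. -/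
theorem exists_sylow : ∃ P : Sylow p G, (P : Subgroup G) = Subgroup.zpowers x := by
  have hpg : IsPGroup p (Subgroup.zpowers x) :=
    IsPGroup.of_card (n := 1) (by rw [Nat.card_zpowers, hx, pow_one])
  obtain ⟨P, hP⟩ := hpg.exists_le_sylow
  refine ⟨P, le_antisymm ?_ hP⟩
  have hxP : x ∈ (P : Subgroup G) := hP (Subgroup.mem_zpowers x)
  have : Nontrivial (P : Subgroup G) := (Subgroup.nontrivial_iff_ne_bot _).2 fun h => by
    rw [h, Subgroup.mem_bot] at hxP
    rw [hxP, orderOf_one] at hx
    exact hp.out.ne_one hx.symm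
  have := P.isPGroup'.center_nontrivial
  obtain ⟨z, hz⟩ := exists_ne (1 : Subgroup.center (P : Subgroup G))
  have hzx : ((z : (P : Subgroup G)) : G) ∈ Subgroup.zpowers x := by
    rw [← hC, Subgroup.mem_centralizer_singleton_iff]
    exact (congrArg Subtype.val (Subgroup.mem_center_iff.1 z.2 ⟨x, hxP⟩)).symm
  have hz1 : ((z : (P : Subgroup G)) : G) ≠ 1 := fun h => hz (Subtype.ext (Subtype.ext h))
  have hle : Subgroup.zpowers x ≤ Subgroup.zpowers ((z : (P : Subgroup G)) : G) := by
    have hle' := Subgroup.zpowers_le.2 hzx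
    refine (Subgroup.eq_of_le_of_card_ge hle' ?_).ge
    have hdvd : Nat.card (Subgroup.zpowers ((z : (P : Subgroup G)) : G)) ∣ p := by
      simpa only [Nat.card_zpowers, hx] using Subgroup.card_dvd_of_le hle'
    rcases (Nat.dvd_prime hp.out).1 hdvd with h | h
    · rw [Nat.card_zpowers, orderOf_eq_one_iff] at h
      exact absurd h hz1
    · rw [h, Nat.card_zpowers, hx]
  intro g hg
  rw [← hC, Subgroup.mem_centralizer_singleton_iff]
  obtain ⟨k, hk⟩ := Subgroup.mem_zpowers_iff.1 (hle (Subgroup.mem_zpowers x))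
  rw [← hk]
  exact (show Commute g ((z : (P : Subgroup G)) : G) from
    congrArg Subtype.val (Subgroup.mem_center_iff.1 z.2 ⟨g, hg⟩)).zpow_right k

/-- The classes of elements of order `p` correspond to the cosets of the exponent group. -/
theorem card_classes :
    Nat.card {C : ConjClasses G // ∃ g ∈ C.carrier, orderOf g = p} = (expGroup hx).index := by
  classical
  rw [Subgroup.index_eq_card]
  have hord : ∀ u : (ZMod p)ˣ, orderOf (pw x (u : ZMod p)) = p := fun u =>
    orderOf_eq_prime (by rw [pw_pow hx, ZMod.natCast_self, mul_zero, (pw_eq_one_iff hx 0).2 rfl])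
      fun h => u.ne_zero ((pw_eq_one_iff hx _).1 h)
  let f : (ZMod p)ˣ → {C : ConjClasses G // ∃ g ∈ C.carrier, orderOf g = p} := fun u =>
    ⟨ConjClasses.mk (pw x (u : ZMod p)), _, ConjClasses.mem_carrier_mk, hord u⟩
  have hf : ∀ u v : (ZMod p)ˣ, f u = f v ↔ u⁻¹ * v ∈ expGroup hx := by
    intro u v
    rw [Subtype.ext_iff, ConjClasses.mk_eq_mk_iff_isConj, isConj_pw hx u.ne_zero]
    constructor
    · rintro ⟨g, hg, hgu⟩
      have : v = g * u := Units.ext hgu
      rwa [this, mul_comm g u, inv_mul_cancel_left]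
    · intro h
      exact ⟨_, h, by rw [Units.val_mul]; rw [mul_comm _ (v : ZMod p), mul_assoc, ← Units.val_mul,
        inv_mul_cancel, Units.val_one, mul_one]⟩
  refine (Nat.card_congr (Equiv.ofBijective (Quotient.lift f fun u v h => (hf u v).2
    (QuotientGroup.leftRel_apply.1 h)) ⟨?_, ?_⟩)).symm
  · intro a b
    refine Quotient.inductionOn₂ a b fun u v h => ?_
    exact Quotient.sound (QuotientGroup.leftRel_apply.2 ((hf u v).1 h))
  · rintro ⟨C, g, hg, hgo⟩
    rw [ConjClasses.mem_carrier_iff_mk_eq] at hg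
    subst hg
    obtain ⟨P, hP⟩ := exists_sylow hx hC
    obtain ⟨Q, hQ⟩ := (IsPGroup.of_card (n := 1)
      (by rw [Nat.card_zpowers, hgo, pow_one]) : IsPGroup p (Subgroup.zpowers g)).exists_le_sylow
    obtain ⟨c, hc⟩ := MulAction.exists_smul_eq G Q P
    have hcg : c * g * c⁻¹ ∈ Subgroup.zpowers x := by
      rw [← hP, ← hc, Sylow.coe_subgroup_smul]
      exact ⟨g, hQ (Subgroup.mem_zpowers g), rfl⟩
    rw [← mem_powers_iff_mem_zpowers, Submonoid.mem_powers_iff] at hcg
    obtain ⟨k, hk⟩ := hcg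
    rw [pow_eq_pw hx] at hk
    have hk0 : (k : ZMod p) ≠ 0 := fun h => by
      rw [h, (pw_eq_one_iff hx 0).2 rfl] at hk
      have : g = 1 := by
        have := congrArg (fun z => c⁻¹ * z * c) hk
        simpa [mul_assoc] using this.symm
      rw [this, orderOf_one] at hgo
      exact hp.out.ne_one hgo.symm
    refine ⟨Quotient.mk'' (Units.mk0 _ hk0), Subtype.ext ?_⟩
    show ConjClasses.mk (pw x ((Units.mk0 _ hk0 : (ZMod p)ˣ) : ZMod p)) = ConjClasses.mk g
    rw [Units.val_mk0, hk, ConjClasses.mk_eq_mk_iff_isConj]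
    exact (isConj_iff.2 ⟨c, rfl⟩).symm

theorem index_mul_card :
    (expGroup hx).index * Nat.card (expGroup hx) = p - 1 := by
  rw [Subgroup.index_mul_card, Nat.card_units, Nat.card_zmod]

omit hx hC in
/-- The standard additive character is sent to its inverse by conjugation. -/
theorem conj_std (j : ZMod p) :
    conj (ZMod.stdAddChar (N := p) j) = ZMod.stdAddChar (N := p) (-j) := by
  rw [AddChar.map_neg_eq_inv, Complex.inv_eq_conj]
  rw [ZMod.stdAddChar_apply, Circle.norm_coe]

omit hx hC in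
theorem sum_std (c : ZMod p) :
    ∑ i : ZMod p, ZMod.stdAddChar (N := p) (i * c) = if c = 0 then (p : ℂ) else 0 := by
  rw [AddChar.sum_mulShift c (ZMod.isPrimitive_stdAddChar p)]
  split_ifs <;> simp

variable [Fintype G]

open scoped Classical in
/-- The norm of a difference of two Fourier coefficients over all characters. -/
theorem sum_norm_diff (a b : ZMod p) :
    ∑ ψ : IrrCharacter G,
        (∑ i : ZMod p, (ψ : G → ℂ) (pw x i) *
          (ZMod.stdAddChar (i * -a) - ZMod.stdAddChar (i * -b))) *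
        conj (∑ i : ZMod p, (ψ : G → ℂ) (pw x i) *
          (ZMod.stdAddChar (i * -a) - ZMod.stdAddChar (i * -b))) =
      (p : ℂ) ^ 2 * ∑ g : expGroup hx,
        ((if ((g : (ZMod p)ˣ) : ZMod p) * a = a then (1 : ℂ) else 0) -
          (if ((g : (ZMod p)ˣ) : ZMod p) * b = a then (1 : ℂ) else 0) -
          (if ((g : (ZMod p)ˣ) : ZMod p) * a = b then (1 : ℂ) else 0) +
          (if ((g : (ZMod p)ˣ) : ZMod p) * b = b then (1 : ℂ) else 0)) := by
  set w : ZMod p → ℂ := fun i => ZMod.stdAddChar (i * -a) - ZMod.stdAddChar (i * -b)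
  have hw0 : w 0 = 0 := by simp [w]
  calc ∑ ψ : IrrCharacter G,
        (∑ i : ZMod p, (ψ : G → ℂ) (pw x i) * w i) *
          conj (∑ i : ZMod p, (ψ : G → ℂ) (pw x i) * w i)
      = ∑ i : ZMod p, ∑ l : ZMod p, w i * conj (w l) *
          ∑ ψ : IrrCharacter G, (ψ : G → ℂ) (pw x i) * conj ((ψ : G → ℂ) (pw x l)) := by
        simp only [map_sum]
        simp only [Finset.sum_mul_sum]
        simp only [map_mul, Finset.mul_sum]
        rw [Finset.sum_comm]
        refine Finset.sum_congr rfl fun i _ => ?_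
        rw [Finset.sum_comm]
        exact Finset.sum_congr rfl fun l _ => Finset.sum_congr rfl fun ψ _ => by ring
    _ = ∑ i : ZMod p, ∑ g : expGroup hx,
          (p : ℂ) * (w i * conj (w (((g : (ZMod p)ˣ) : ZMod p) * i))) := by
        refine Finset.sum_congr rfl fun i _ => ?_
        by_cases hi : i = 0
        · simp [hi, hw0]
        have key : ∀ l : ZMod p,
            (∑ ψ : IrrCharacter G, (ψ : G → ℂ) (pw x i) * conj ((ψ : G → ℂ) (pw x l))) =
              ∑ g : expGroup hx, if l = ((g : (ZMod p)ˣ) : ZMod p) * i then (p : ℂ) else 0 := by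
          intro l
          rw [column_orth]
          by_cases h : IsConj (pw x i) (pw x l)
          · obtain ⟨g, hg, rfl⟩ := (isConj_pw hx hi l).1 h
            rw [if_pos h, natCard_centralizer_pw hx hC hi, Finset.sum_eq_single ⟨g, hg⟩]
            · simp
            · intro g' _ hne
              rw [if_neg]
              intro h'
              exact hne (Subtype.ext (Units.ext (mul_right_cancel₀ hi h').symm))
            · simp
          · rw [if_neg h, Finset.sum_eq_zero fun g _ => ?_]
            rw [if_neg fun h' => h ((isConj_pw hx hi l).2 ⟨_, g.2, h'⟩)]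
        simp only [key, Finset.mul_sum]
        rw [Finset.sum_comm]
        refine Finset.sum_congr rfl fun g _ => ?_
        simp [mul_comm]
    _ = _ := by
        rw [Finset.sum_comm, Finset.mul_sum]
        refine Finset.sum_congr rfl fun g _ => ?_
        set γ := ((g : (ZMod p)ˣ) : ZMod p)
        have hexp : ∀ i : ZMod p, w i * conj (w (γ * i)) =
            ZMod.stdAddChar (i * (γ * a - a)) - ZMod.stdAddChar (i * (γ * b - a)) -
              ZMod.stdAddChar (i * (γ * a - b)) + ZMod.stdAddChar (i * (γ * b - b)) := by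
          intro i
          simp only [w, map_sub, conj_std, sub_mul, mul_sub, ← AddChar.map_add_eq_mul]
          ring_nf
        rw [← Finset.mul_sum, pow_two, mul_assoc]
        congr 1
        simp only [hexp, Finset.sum_add_distrib, Finset.sum_sub_distrib, sum_std, sub_eq_zero]
        split_ifs <;> ring

omit hC in
open scoped Classical in
/-- The number of elements fixing a residue. -/
theorem card_fix (a : ZMod p) :
    (∑ g : expGroup hx, if ((g : (ZMod p)ˣ) : ZMod p) * a = a then (1 : ℝ) else 0) =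
      if a = 0 then (Nat.card (expGroup hx) : ℝ) else 1 := by
  by_cases ha : a = 0
  · simp [ha, Nat.card_eq_fintype_card]
  · rw [if_neg ha, Finset.sum_eq_single (1 : expGroup hx)]
    · simp
    · intro g _ hg
      rw [if_neg]
      intro h
      exact hg (Subtype.ext (Units.ext (by
        rw [mul_left_eq_self₀] at h
        simpa using h.resolve_right ha)))
    · simp

/-- Fourier coefficients of one character differ little. -/
theorem diff_le (χ : IrrCharacter G) (n : ZMod p → ℕ)
    (hn : ∀ a : ZMod p, ∑ i : ZMod p, (χ : G → ℂ) (pw x i) * ZMod.stdAddChar (i * -a) =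
      (p : ℂ) * (n a : ℂ)) (a b : ZMod p) :
    ((n a : ℝ) - n b) ^ 2 ≤
      (if a = 0 then (Nat.card (expGroup hx) : ℝ) else 1) +
        (if b = 0 then (Nat.card (expGroup hx) : ℝ) else 1) := by
  classical
  set D : IrrCharacter G → ℂ := fun ψ => ∑ i : ZMod p, (ψ : G → ℂ) (pw x i) *
    (ZMod.stdAddChar (i * -a) - ZMod.stdAddChar (i * -b)) with hD
  have h := congrArg Complex.re (sum_norm_diff hx hC a b)
  simp only [Complex.mul_conj, Complex.re_sum, Complex.ofReal_re] at h
  have h1 : Complex.normSq (D χ) ≤ ∑ ψ, Complex.normSq (D ψ) :=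
    Finset.single_le_sum (fun ψ _ => Complex.normSq_nonneg _) (Finset.mem_univ χ)
  have h2 : Complex.normSq (D χ) = (p : ℝ) ^ 2 * ((n a : ℝ) - n b) ^ 2 := by
    rw [show D χ = ((((p : ℝ) * ((n a : ℝ) - n b)) : ℝ) : ℂ) by
      simp only [hD, mul_sub, Finset.sum_sub_distrib, hn]
      push_cast
      ring, Complex.normSq_ofReal]
    ring
  rw [h2, show ∑ ψ, Complex.normSq (D ψ) = _ from h] at h1
  rw [← card_fix hx a, ← card_fix hx b, ← Finset.sum_add_distrib]
  refine le_of_mul_le_mul_left (h1.trans ?_)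
    (pow_pos (Nat.cast_pos.2 hp.out.pos : (0 : ℝ) < p) 2)
  rw [show ((p : ℂ) ^ 2) = (((p : ℝ) ^ 2 : ℝ) : ℂ) by push_cast; rfl, Complex.re_ofReal_mul,
    Complex.re_sum]
  refine mul_le_mul_of_nonneg_left (Finset.sum_le_sum fun g _ => ?_) (by positivity)
  simp only [Complex.add_re, Complex.sub_re, apply_ite Complex.re, Complex.one_re, Complex.zero_re]
  split_ifs <;> norm_num

/-- Sums over the nonzero residues of invariant functions are divisible by the group order. -/
theorem dvd_sum_units (n : ZMod p → ℕ)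
    (hinv : ∀ g ∈ expGroup hx, ∀ a : ZMod p, n (((g : (ZMod p)ˣ) : ZMod p) * a) = n a) :
    Nat.card (expGroup hx) ∣ ∑ u : (ZMod p)ˣ, n u := by
  classical
  rw [← Finset.sum_fiberwise Finset.univ (QuotientGroup.mk : (ZMod p)ˣ → (ZMod p)ˣ ⧸ expGroup hx)]
  refine Finset.dvd_sum fun q _ => ?_
  induction q using QuotientGroup.induction_on with
  | H v =>
    rw [Finset.sum_congr rfl (fun u hu => ?_ : ∀ u ∈ _, n ((u : (ZMod p)ˣ) : ZMod p) = n v),
      Finset.sum_const, smul_eq_mul]
    · refine dvd_mul_of_dvd_left ?_ _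
      rw [Nat.card_eq_fintype_card, ← Finset.card_univ]
      refine dvd_of_eq (Finset.card_nbij' (fun g : expGroup hx => v * g.1)
        (fun u => if h : v⁻¹ * u ∈ expGroup hx then ⟨v⁻¹ * u, h⟩ else 1) ?_ ?_ ?_ ?_)
      · intro g _
        simp only [Finset.coe_filter, Finset.mem_univ, true_and, Set.mem_ofPred_eq]
        exact (QuotientGroup.eq.2 (by simp)).symm
      · intro u _
        exact Finset.mem_coe.2 (Finset.mem_univ _)
      · intro g _
        simp
      · intro u hu
        simp only [Finset.coe_filter, Finset.mem_univ, true_and, Set.mem_ofPred_eq] at hu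
        have hu' := QuotientGroup.eq.1 hu.symm
        simp [hu']
    · have hu' := QuotientGroup.eq.1 (Finset.mem_filter.1 hu).2.symm
      have h := hinv _ hu' v
      rwa [← Units.val_mul, mul_comm (v⁻¹ * u) v, mul_inv_cancel_left] at h

omit hC in
/-- The powers of a diagonalised element. -/
theorem rho_pw {d : ℕ} (ρ : Representation ℂ G (Fin d → ℂ)) {ι : Type*}
    (b : Module.Basis ι ℂ (Fin d → ℂ)) (j : ι → ZMod p)
    (hb : ∀ l, ρ x (b l) = ZMod.stdAddChar (j l) • b l) (i : ZMod p) (l : ι) :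
    ρ (pw x i) (b l) = ZMod.stdAddChar (i * j l) • b l := by
  have h : ∀ k : ℕ, ρ (x ^ k) (b l) = ZMod.stdAddChar ((k : ZMod p) * j l) • b l := by
    intro k
    induction k with
    | zero => simp
    | succ k ih =>
      rw [pow_succ, map_mul, Module.End.mul_apply, hb, map_smul, ih, smul_smul,
        ← AddChar.map_add_eq_mul]
      congr 2
      push_cast
      ring
  have h2 := h i.val
  rwa [ZMod.natCast_zmod_val] at h2

/-- A character of degree `p - 1` has every nontrivial eigenvalue once. -/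
theorem exists_regular_basis {d : ℕ} (ρ : Representation ℂ G (Fin d → ℂ)) [ρ.IsIrreducible]
    (hd : d + 1 = p) (he : 2 ≤ Nat.card (expGroup hx)) :
    ∃ (b : Module.Basis (Fin (Module.finrank ℂ (Fin d → ℂ))) ℂ (Fin d → ℂ))
      (j : Fin (Module.finrank ℂ (Fin d → ℂ)) → ZMod p),
      (∀ l, ρ x (b l) = ZMod.stdAddChar (j l) • b l) ∧ ∀ l, j l ≠ 0 := by
  classical
  obtain ⟨b, ω, hω, hb⟩ := exists_eigenbasis ρ x
  have hex : ∀ l, ∃ i : ZMod p, ω l = ZMod.stdAddChar i := by
    intro l
    have hprim := Complex.isPrimitiveRoot_exp p hp.out.ne_zero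
    obtain ⟨i, -, hi⟩ := hprim.eq_pow_of_pow_eq_one (hx ▸ hω l)
    refine ⟨((i : ℤ) : ZMod p), ?_⟩
    rw [ZMod.stdAddChar_coe, ← hi, ← Complex.exp_nat_mul]
    congr 1
    push_cast
    ring
  choose j hj using hex
  have hb' : ∀ l, ρ x (b l) = ZMod.stdAddChar (j l) • b l := fun l => by rw [← hj]; exact hb l
  refine ⟨b, j, hb', ?_⟩
  let χ : IrrCharacter G := ⟨ρ.character, d, ρ, inferInstance, rfl⟩
  have hχ : ∀ i : ZMod p, (χ : G → ℂ) (pw x i) = ∑ l, ZMod.stdAddChar (i * j l) := fun i =>
    character_eq_sum_of_eigenbasis ρ _ b _ (rho_pw hx ρ b j hb' i)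
  let n : ZMod p → ℕ := fun a => (Finset.univ.filter fun l => j l = a).card
  have hn : ∀ a : ZMod p, ∑ i : ZMod p, (χ : G → ℂ) (pw x i) * ZMod.stdAddChar (i * -a) =
      (p : ℂ) * (n a : ℂ) := by
    intro a
    simp only [hχ, Finset.sum_mul, ← AddChar.map_add_eq_mul, ← mul_add]
    rw [Finset.sum_comm]
    simp only [sum_std, add_neg_eq_zero, n]
    rw [Finset.sum_ite, Finset.sum_const_zero, add_zero, Finset.sum_const, nsmul_eq_mul, mul_comm]
  have hinv : ∀ g ∈ expGroup hx, ∀ a : ZMod p, n (((g : (ZMod p)ˣ) : ZMod p) * a) = n a := by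
    intro g hg a
    have h1 := hn (((g : (ZMod p)ˣ) : ZMod p) * a)
    rw [← Equiv.sum_comp (Units.mulLeft g⁻¹)] at h1
    have h2 : ∀ i : ZMod p, (χ : G → ℂ) (pw x (((g⁻¹ : (ZMod p)ˣ) : ZMod p) * i)) *
        ZMod.stdAddChar ((((g⁻¹ : (ZMod p)ˣ) : ZMod p) * i) * -(((g : (ZMod p)ˣ) : ZMod p) * a)) =
        (χ : G → ℂ) (pw x i) * ZMod.stdAddChar (i * -a) := by
      intro i
      congr 1
      · by_cases hi : i = 0
        · rw [hi, mul_zero]
        refine (classFunction_eq_of_isConj (irr_isClassFunction χ) ?_).symm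
        exact (isConj_pw hx hi _).2 ⟨g⁻¹, inv_mem hg, rfl⟩
      · congr 1
        have hgg : ((g⁻¹ : (ZMod p)ˣ) : ZMod p) * ((g : (ZMod p)ˣ) : ZMod p) = 1 := g.inv_mul
        linear_combination (-(i * a)) * hgg
    simp only [Units.mulLeft_apply, h2, hn] at h1
    exact_mod_cast mul_left_cancel₀ (Nat.cast_ne_zero.2 hp.out.ne_zero) h1.symm
  have hsum : n 0 + ∑ u : (ZMod p)ˣ, n u = d := by
    have h1 : ∑ a : ZMod p, n a = d := by
      rw [← Finset.card_eq_sum_card_fiberwise (fun l _ => Finset.mem_coe.2 (Finset.mem_univ (j l))),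
        Finset.card_univ, Fintype.card_fin, Module.finrank_fin_fun]
    rw [← h1, ← Finset.add_sum_erase _ _ (Finset.mem_univ (0 : ZMod p))]
    congr 1
    refine Finset.sum_bij (fun u _ => (u : ZMod p)) (fun u _ => by simp)
      (fun u _ v _ h => Units.ext h) (fun a ha => ⟨Units.mk0 a (Finset.mem_erase.1 ha).1, by simp⟩)
      fun u _ => rfl
  have hnle : ∀ a b : ZMod p, a ≠ 0 → b ≠ 0 → n a ≤ n b + 1 := by
    intro a b ha hb0
    have h1 := diff_le hx hC χ n hn a b
    rw [if_neg ha, if_neg hb0] at h1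
    by_contra hlt
    have h2 : (n b : ℝ) + 2 ≤ n a := by exact_mod_cast (by omega : n b + 2 ≤ n a)
    nlinarith
  have hcard : Fintype.card (ZMod p)ˣ = d := by
    rw [ZMod.card_units]
    omega
  have hn0 : n 0 = 0 := by
    by_contra h0
    have hlt : ∑ u : (ZMod p)ˣ, n u < d := by omega
    have hex0 : ∃ u : (ZMod p)ˣ, n u = 0 := by
      by_contra hne
      push Not at hne
      have : ∑ u : (ZMod p)ˣ, 1 ≤ ∑ u : (ZMod p)ˣ, n u :=
        Finset.sum_le_sum fun u _ => Nat.one_le_iff_ne_zero.2 (hne u)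
      rw [Finset.sum_const, Finset.card_univ, hcard, smul_eq_mul, mul_one] at this
      omega
    obtain ⟨u, hu⟩ := hex0
    have hdvd : Nat.card (expGroup hx) ∣ n 0 := by
      have hd' : Nat.card (expGroup hx) ∣ d := by
        rw [show d = p - 1 by omega, ← index_mul_card hx hC]
        exact dvd_mul_left _ _
      refine (Nat.dvd_add_left (dvd_sum_units hx hC n hinv)).1 ?_
      rwa [hsum]
    have h1 := diff_le hx hC χ n hn 0 u
    rw [if_pos rfl, if_neg u.ne_zero, hu, Nat.cast_zero, sub_zero] at h1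
    have h2 := Nat.le_of_dvd (Nat.pos_of_ne_zero h0) hdvd
    have h2' : (Nat.card (expGroup hx) : ℝ) ≤ n 0 := by exact_mod_cast h2
    have he' : (2 : ℝ) ≤ Nat.card (expGroup hx) := by exact_mod_cast he
    nlinarith
  intro l hl
  have : l ∈ Finset.univ.filter fun i => j i = 0 := by simp [hl]
  rw [Finset.card_eq_zero.1 hn0] at this
  simp at this

end CfsgLib.SelfCentralPrime
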