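import Mathlib.Data.Finset.Card
import Mathlib.Data.Fintype.Card
import Mathlib.Data.Fintype.Sets
import Mathlib.Tactic

/-!
Families of finite sets any two of which differ by exchanging one element.
-/

set_option autoImplicit false

namespace CfsgLib.TwoValued

variable {Q E : Type*} [Fintype Q] [Fintype E] [DecidableEq E]

/-- If any two members differ by exchanging one point for another of equal weight, then either
all members are distinct singletons or all are distinct complements of singletons. -/
theorem classify (R : Q → Finset E) (d : E → ℕ) (hQ : 2 ≤ Fintype.card Q)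
    (hR : ∀ a b : Q, a ≠ b → ∃ α β, R a \ R b = {α} ∧ R b \ R a = {β} ∧ d α = d β)
    (hone : ∀ ψ, ∃ a, ψ ∈ R a) (hzero : ∀ ψ, ∃ a, ψ ∉ R a) :
    Fintype.card E = Fintype.card Q ∧ ∃ k : ℕ, (k = 1 ∨ k + 1 = Fintype.card Q) ∧
      (∀ a, (R a).card = k) ∧ (∀ ψ, (Finset.univ.filter fun a => ψ ∈ R a).card = k) ∧
      ∀ ψ φ, d ψ = d φ := by
  classical
  have : Nontrivial Q := Fintype.one_lt_card_iff_nontrivial.1 hQ
  have hinj : Function.Injective R := by
    intro a b h
    by_contra hne
    obtain ⟨α, β, h1, -, -⟩ := hR a b hne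
    rw [h, Finset.sdiff_self] at h1
    exact Finset.singleton_ne_empty _ h1.symm
  have hcard : ∀ a b, (R a).card = (R b).card := by
    intro a b
    rcases eq_or_ne a b with rfl | hne
    · rfl
    obtain ⟨α, β, h1, h2, -⟩ := hR a b hne
    have e1 := Finset.card_sdiff_add_card_inter (R a) (R b)
    have e2 := Finset.card_sdiff_add_card_inter (R b) (R a)
    rw [h1, Finset.card_singleton] at e1
    rw [h2, Finset.card_singleton, Finset.inter_comm] at e2
    omega
  obtain ⟨a, b, hab⟩ := exists_pair_ne Q
  obtain ⟨α, β, hαβ, hβα, -⟩ := hR a b hab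
  have hα : α ∈ R a ∧ α ∉ R b :=
    Finset.mem_sdiff.1 (hαβ.symm ▸ Finset.mem_singleton_self α)
  have hβ : β ∈ R b ∧ β ∉ R a :=
    Finset.mem_sdiff.1 (hβα.symm ▸ Finset.mem_singleton_self β)
  by_cases hcore : ∀ c, R a ∩ R b ⊆ R c
  · -- all members are singletons
    have hI : R a ∩ R b = ∅ := by
      rw [Finset.eq_empty_iff_forall_notMem]
      intro ψ hψ
      obtain ⟨c, hc⟩ := hzero ψ
      exact hc (hcore c hψ)
    have h1 : ∀ c, (R c).card = 1 := by
      intro c
      have e1 := Finset.card_sdiff_add_card_inter (R a) (R b)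
      rw [hαβ, hI, Finset.card_empty, Finset.card_singleton] at e1
      rw [hcard c a]; omega
    choose f hf using fun c => Finset.card_eq_one.1 (h1 c)
    have hfi : Function.Injective f := fun c c' h => hinj (by rw [hf, hf, h])
    have hfs : Function.Surjective f := fun ψ => by
      obtain ⟨c, hc⟩ := hone ψ
      rw [hf, Finset.mem_singleton] at hc
      exact ⟨c, hc.symm⟩
    refine ⟨(Fintype.card_of_bijective ⟨hfi, hfs⟩).symm, 1, Or.inl rfl, h1, fun ψ => ?_,
      fun ψ φ => ?_⟩
    · obtain ⟨c, rfl⟩ := hfs ψ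
      rw [Finset.card_eq_one]
      exact ⟨c, by ext x; simp [hf, hfi.eq_iff, eq_comm]⟩
    · obtain ⟨c, rfl⟩ := hfs ψ
      obtain ⟨c', rfl⟩ := hfs φ
      rcases eq_or_ne c c' with rfl | hne
      · rfl
      obtain ⟨x, y, hx, hy, hd⟩ := hR c c' hne
      have hne' : f c ≠ f c' := hfi.ne hne
      have e1 : R c \ R c' = {f c} := by ext z; simp [hf]; rintro rfl; exact hne'
      have e2 : R c' \ R c = {f c'} := by ext z; simp [hf]; rintro rfl; exact hne'.symm
      rw [e1, Finset.singleton_inj] at hx
      rw [e2, Finset.singleton_inj] at hy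
      rw [hx, hy, hd]
  · -- all members are complements of singletons
    push Not at hcore
    obtain ⟨c, hc⟩ := hcore
    obtain ⟨i, hi, hic⟩ := Finset.not_subset.1 hc
    rw [Finset.mem_inter] at hi
    set U := R a ∪ R b with hU
    have hac : a ≠ c := fun h => hic (h ▸ hi.1)
    have hbc : b ≠ c := fun h => hic (h ▸ hi.2)
    obtain ⟨x, -, hx, -, -⟩ := hR a c hac
    obtain ⟨y, -, hy, -, -⟩ := hR b c hbc
    have hxi : x = i := by
      have h : i ∈ R a \ R c := Finset.mem_sdiff.2 ⟨hi.1, hic⟩
      rw [hx, Finset.mem_singleton] at h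
      exact h.symm
    have hyi : y = i := by
      have h : i ∈ R b \ R c := Finset.mem_sdiff.2 ⟨hi.2, hic⟩
      rw [hy, Finset.mem_singleton] at h
      exact h.symm
    have hsub : U.erase i ⊆ R c := by
      intro z hz
      obtain ⟨hzi, hz⟩ := Finset.mem_erase.1 hz
      by_contra hzc
      rcases Finset.mem_union.1 hz with h | h
      · have h' : z ∈ R a \ R c := Finset.mem_sdiff.2 ⟨h, hzc⟩
        rw [hx, Finset.mem_singleton, hxi] at h'
        exact hzi h'
      · have h' : z ∈ R b \ R c := Finset.mem_sdiff.2 ⟨h, hzc⟩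
        rw [hy, Finset.mem_singleton, hyi] at h'
        exact hzi h'
    have hUcard : U.card = (R a).card + 1 := by
      rw [hU, ← Finset.union_sdiff_self_eq_union, hβα,
        Finset.card_union_of_disjoint (Finset.disjoint_singleton_right.2 hβ.2), Finset.card_singleton]
    have hiU : i ∈ U := Finset.mem_union_left _ hi.1
    have hRc : U.erase i = R c := Finset.eq_of_subset_of_card_le hsub (by
      rw [Finset.card_erase_of_mem hiU, hUcard, hcard c a]; omega)
    have hall : ∀ q, R q ⊆ U := by
      intro q γ hγ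
      by_contra hγU
      have hγa : γ ∉ R a := fun h => hγU (Finset.mem_union_left _ h)
      have hγb : γ ∉ R b := fun h => hγU (Finset.mem_union_right _ h)
      have hγc : γ ∉ R c := fun h => hγU (Finset.mem_of_mem_erase (hRc ▸ h))
      have hqa : q ≠ a := fun h => hγa (h ▸ hγ)
      have hqb : q ≠ b := fun h => hγb (h ▸ hγ)
      have hqc : q ≠ c := fun h => hγc (h ▸ hγ)
      obtain ⟨u, -, hu, -, -⟩ := hR q a hqa
      obtain ⟨v, -, hv, -, -⟩ := hR q b hqb
      have hua : u = γ := by
        have h : γ ∈ R q \ R a := Finset.mem_sdiff.2 ⟨hγ, hγa⟩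
        rw [hu, Finset.mem_singleton] at h
        exact h.symm
      have hvb : v = γ := by
        have h : γ ∈ R q \ R b := Finset.mem_sdiff.2 ⟨hγ, hγb⟩
        rw [hv, Finset.mem_singleton] at h
        exact h.symm
      have hsubq : R q ⊆ insert γ (R a ∩ R b) := by
        intro z hz
        rw [Finset.mem_insert, Finset.mem_inter]
        by_cases hzγ : z = γ
        · exact Or.inl hzγ
        refine Or.inr ⟨?_, ?_⟩
        · by_contra h
          have h' : z ∈ R q \ R a := Finset.mem_sdiff.2 ⟨hz, h⟩
          rw [hu, Finset.mem_singleton, hua] at h'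
          exact hzγ h'
        · by_contra h
          have h' : z ∈ R q \ R b := Finset.mem_sdiff.2 ⟨hz, h⟩
          rw [hv, Finset.mem_singleton, hvb] at h'
          exact hzγ h'
      have e1 := Finset.card_sdiff_add_card_inter (R a) (R b)
      rw [hαβ, Finset.card_singleton] at e1
      have hq : R q = insert γ (R a ∩ R b) := Finset.eq_of_subset_of_card_le hsubq (by
        rw [Finset.card_insert_of_notMem (fun h => hγa (Finset.mem_inter.1 h).1), hcard q a]
        omega)
      obtain ⟨w, -, hw, -, -⟩ := hR q c hqc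
      have e3 : γ ∈ R q \ R c := Finset.mem_sdiff.2 ⟨hγ, hγc⟩
      have e4 : i ∈ R q \ R c := Finset.mem_sdiff.2
        ⟨hq.symm ▸ Finset.mem_insert_of_mem (Finset.mem_inter.2 hi), hic⟩
      rw [hw, Finset.mem_singleton] at e3 e4
      exact hγa (e3.trans e4.symm ▸ hi.1)
    have hUuniv : U = Finset.univ := Finset.eq_univ_of_forall fun ψ => by
      obtain ⟨q, hq⟩ := hone ψ
      exact hall q hq
    have hEcard : Fintype.card E = (R a).card + 1 := by
      rw [← hUcard, hUuniv, Finset.card_univ]
    have h1 : ∀ q, (R q)ᶜ.card = 1 := fun q => by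
      rw [Finset.card_compl, hcard q a, hEcard]; omega
    choose g hg using fun q => Finset.card_eq_one.1 (h1 q)
    have hRg : ∀ q, R q = {g q}ᶜ := fun q => by rw [← hg, compl_compl]
    have hgi : Function.Injective g := fun q q' h => hinj (by rw [hRg, hRg, h])
    have hgs : Function.Surjective g := fun ψ => by
      obtain ⟨q, hq⟩ := hzero ψ
      rw [hRg, Finset.mem_compl, Finset.mem_singleton, not_not] at hq
      exact ⟨q, hq.symm⟩
    have hEQ : Fintype.card E = Fintype.card Q := (Fintype.card_of_bijective ⟨hgi, hgs⟩).symm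
    refine ⟨hEQ, (R a).card, Or.inr (by omega), fun q => hcard q a, fun ψ => ?_, fun ψ φ => ?_⟩
    · obtain ⟨q, rfl⟩ := hgs ψ
      have : (Finset.univ.filter fun q' => g q ∈ R q') = {q}ᶜ := by
        ext x; simp [hRg, hgi.eq_iff, eq_comm]
      rw [this, Finset.card_compl, Finset.card_singleton]
      omega
    · obtain ⟨q, rfl⟩ := hgs ψ
      obtain ⟨q', rfl⟩ := hgs φ
      rcases eq_or_ne q q' with rfl | hne
      · rfl
      obtain ⟨x, y, hx, hy, hd⟩ := hR q q' hne
      have hne' : g q ≠ g q' := hgi.ne hne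
      have e1 : R q \ R q' = {g q'} := by ext z; simp [hRg]; rintro rfl; exact hne'.symm
      have e2 : R q' \ R q = {g q} := by ext z; simp [hRg]; rintro rfl; exact hne'
      rw [e1, Finset.singleton_inj] at hx
      rw [e2, Finset.singleton_inj] at hy
      rw [hx, hy, hd]

end CfsgLib.TwoValued
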