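import Cfsg.Agent.Lib.Blk7.SelfCentralPrime
import Cfsg.Agent.Lib.Blk7.TwoValued
import Cfsg.Agent.S4495
import Cfsg.Agent.S4508
import Cfsg.Agent.Lib.Characters.LinearTwist
import Mathlib.GroupTheory.SpecificGroups.Cyclic
import Mathlib.RingTheory.IntegralDomain

/-!
A perfect group with a self-centralising element of prime order `p` has an irreducible degree of
at least `p`.
-/

set_option autoImplicit false
set_option linter.unusedSectionVars false

noncomputable section

namespace CfsgLib.SelfCentralPrime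

open Cfsg CfsgLib.Characters
open scoped ComplexConjugate

/-- The arithmetic at the end of the argument. -/
theorem arith_core {e t k n0 F d : ℕ} (he : 2 ≤ e) (hk : k = 1 ∨ k + 1 = t) (ht : 2 ≤ t) (hd : d = n0 + e * k)
    (hrel : 1 + t * d * n0 = F * (t * e) + k * d)
    (hnorm : (e : ℤ) = F + k * ((n0 : ℤ) - 1) ^ 2 + (t - k) * (n0 : ℤ) ^ 2)
    (hdvd : (e : ℤ) ∣ 1 + F * ((t : ℤ) * e) ^ 2 + t * (d : ℤ) ^ 2) :
    Odd t ∧ 0 < F := by
  have hd' : (d : ℤ) = n0 + e * k := by exact_mod_cast hd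
  have hrel' : (1 : ℤ) + t * d * n0 = F * (t * e) + k * d := by exact_mod_cast hrel
  have h1 : (e : ℤ) ∣ 1 + (t : ℤ) * (n0 : ℤ) ^ 2 := by
    obtain ⟨c, hc⟩ := hdvd
    exact ⟨c - F * t ^ 2 * e - t * k * (2 * n0 + e * k), by rw [hd'] at hc; linear_combination hc⟩
  have h2 : (e : ℤ) ∣ (k : ℤ) * n0 := by
    obtain ⟨c, hc⟩ := h1
    refine ⟨c - (F * t + k * k - t * n0 * k), ?_⟩
    rw [hd'] at hrel'
    linear_combination hc - hrel'
  have hcop : IsCoprime (e : ℤ) (n0 : ℤ) := by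
    obtain ⟨c, hc⟩ := h1
    exact ⟨c, -(t * n0), by linear_combination -hc⟩
  have hek : (e : ℤ) ∣ (k : ℤ) := hcop.dvd_of_dvd_mul_right h2
  rcases hk with rfl | hk
  · have : e ∣ 1 := by exact_mod_cast hek
    rw [Nat.dvd_one] at this
    omega
  subst hk
  have hk0 : 0 < k := by omega
  have hle : (e : ℤ) ≤ k := Int.le_of_dvd (by exact_mod_cast hk0) hek
  have hF0 : (0 : ℤ) ≤ F := Int.natCast_nonneg F
  push_cast at hnorm h1
  have hn0 : n0 ≤ 1 := by
    by_contra hgt
    have h3 : (1 : ℤ) ≤ (n0 : ℤ) - 1 := by omega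
    have h4 : (1 : ℤ) ≤ ((n0 : ℤ) - 1) ^ 2 := by nlinarith
    have h5 : (4 : ℤ) ≤ (n0 : ℤ) ^ 2 := by nlinarith
    have h6 : (k : ℤ) ≤ (k : ℤ) * ((n0 : ℤ) - 1) ^ 2 := le_mul_of_one_le_right (by positivity) h4
    nlinarith
  interval_cases n0
  · exfalso
    have : (e : ℤ) ∣ 1 := by simpa using h1
    have := Int.le_of_dvd one_pos this
    omega
  · norm_num at hnorm h1
    have h3 : (e : ℤ) ∣ 2 := by
      have := dvd_sub h1 hek
      ring_nf at this
      simpa using this
    have h4 : e ∣ 2 := by exact_mod_cast h3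
    have he2 : e = 2 := le_antisymm (Nat.le_of_dvd two_pos h4) he
    subst he2
    refine ⟨?_, by omega⟩
    have : 2 ∣ k := by exact_mod_cast hek
    obtain ⟨c, rfl⟩ := this
    exact ⟨c, by ring⟩

universe u

variable {G : Type u} [Group G] [Fintype G] {p : ℕ} [hp : Fact p.Prime] {x : G}
  (hx : orderOf x = p)

include hx

/-- The multiplicities of the eigenvalues of `x` in an irreducible character. -/
theorem exists_mult (χ : IrrCharacter G) :
    ∃ n : ZMod p → ℕ,
      (∀ a : ZMod p, ∑ i : ZMod p, (χ : G → ℂ) (pw x i) * ZMod.stdAddChar (i * -a) =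
        (p : ℂ) * (n a : ℂ)) ∧
      charDegree (χ : G → ℂ) = ∑ a, n a ∧
      ((∀ a, a ≠ 0 → n a = 0) → (χ : G → ℂ) x = (χ : G → ℂ) 1) := by
  classical
  obtain ⟨_, d, ρ, hρ, rfl⟩ := χ
  obtain ⟨b, ω, hω, hb⟩ := exists_eigenbasis ρ x
  have hex : ∀ l, ∃ i : ZMod p, ω l = ZMod.stdAddChar i := by
    intro l
    have hprim := Complex.isPrimitiveRoot_exp p hp.out.ne_zero
    obtain ⟨i, -, hi⟩ := hprim.eq_pow_of_pow_eq_one (hx ▸ hω l)
    refine ⟨((i : ℤ) : ZMod p), ?_⟩
    rw [ZMod.stdAddChar_coe, ← hi, ← Complex.exp_nat_mul]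
    congr 1
    push_cast
    ring
  choose j hj using hex
  have hb' : ∀ l, ρ x (b l) = ZMod.stdAddChar (j l) • b l := fun l => by rw [← hj]; exact hb l
  have hχ : ∀ i : ZMod p, ρ.character (pw x i) = ∑ l, ZMod.stdAddChar (i * j l) := fun i =>
    character_eq_sum_of_eigenbasis ρ _ b _ (rho_pw hx ρ b j hb' i)
  refine ⟨fun a => (Finset.univ.filter fun l => j l = a).card, fun a => ?_, ?_, fun h => ?_⟩
  · simp only [hχ, Finset.sum_mul, ← AddChar.map_add_eq_mul, ← mul_add]
    rw [Finset.sum_comm]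
    simp only [sum_std, add_neg_eq_zero]
    rw [Finset.sum_ite, Finset.sum_const_zero, add_zero, Finset.sum_const, nsmul_eq_mul, mul_comm]
  · rw [← Finset.card_eq_sum_card_fiberwise (fun l _ => Finset.mem_coe.2 (Finset.mem_univ (j l))),
      Finset.card_univ, Fintype.card_fin, Module.finrank_fin_fun]
    refine CfsgLib.LinearTwist.charDegree_eq_of_apply_one (χ := ρ.character) ?_
    rw [Representation.char_one, Module.finrank_fin_fun]
  · have hj0 : ∀ l, j l = 0 := fun l => by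
      by_contra hne
      have hm : l ∈ Finset.univ.filter fun i => j i = j l := by simp
      rw [Finset.card_eq_zero.1 (h _ hne)] at hm
      simp at hm
    have h1 := hχ 1
    have h2 := hχ 0
    rw [pw_one] at h1
    rw [(pw_eq_one_iff hx 0).2 rfl] at h2
    show ρ.character x = ρ.character 1
    rw [h1, h2]
    simp [hj0]

variable (hC : Subgroup.centralizer ({x} : Set G) = Subgroup.zpowers x)

include hC

theorem mult_invariant (χ : IrrCharacter G) (n : ZMod p → ℕ)
    (hn : ∀ a : ZMod p, ∑ i : ZMod p, (χ : G → ℂ) (pw x i) * ZMod.stdAddChar (i * -a) =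
      (p : ℂ) * (n a : ℂ)) :
    ∀ g ∈ expGroup hx, ∀ a : ZMod p, n (((g : (ZMod p)ˣ) : ZMod p) * a) = n a := by
  intro g hg a
  have h1 := hn (((g : (ZMod p)ˣ) : ZMod p) * a)
  rw [← Equiv.sum_comp (Units.mulLeft g⁻¹)] at h1
  have h2 : ∀ i : ZMod p, (χ : G → ℂ) (pw x (((g⁻¹ : (ZMod p)ˣ) : ZMod p) * i)) *
      ZMod.stdAddChar ((((g⁻¹ : (ZMod p)ˣ) : ZMod p) * i) * -(((g : (ZMod p)ˣ) : ZMod p) * a)) =
      (χ : G → ℂ) (pw x i) * ZMod.stdAddChar (i * -a) := by
    intro i
    congr 1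
    · by_cases hi : i = 0
      · rw [hi, mul_zero]
      refine (classFunction_eq_of_isConj (irr_isClassFunction χ) ?_).symm
      exact (isConj_pw hx hi _).2 ⟨g⁻¹, inv_mem hg, rfl⟩
    · congr 1
      have hgg : ((g⁻¹ : (ZMod p)ˣ) : ZMod p) * ((g : (ZMod p)ˣ) : ZMod p) = 1 := g.inv_mul
      linear_combination (-(i * a)) * hgg
  simp only [Units.mulLeft_apply, h2, hn] at h1
  exact_mod_cast mul_left_cancel₀ (Nat.cast_ne_zero.2 hp.out.ne_zero) h1.symm

/-- The number of residues by which `x` is conjugate to its power divides the group order. -/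
theorem card_expGroup_dvd : Nat.card (expGroup hx) ∣ Nat.card G := by
  obtain ⟨⟨r, hr⟩, hgen⟩ := IsCyclic.exists_ofOrder_eq_natCard (α := expGroup hx)
  rw [← hgen, Subgroup.orderOf_mk]
  obtain ⟨c, hc⟩ := isConj_iff.1 ((mem_expGroup hx).1 hr)
  have hk : ∀ k : ℕ, c ^ k * x * (c ^ k)⁻¹ = pw x ((r : ZMod p) ^ k) := by
    intro k
    induction k with
    | zero => simp [pw_one]
    | succ k ih =>
      rw [pow_succ' c, mul_inv_rev,
        show c * c ^ k * x * ((c ^ k)⁻¹ * c⁻¹) = c * (c ^ k * x * (c ^ k)⁻¹) * c⁻¹ by group, ih,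
        pw, ← conj_pow, hc, pw_pow_val hx, pow_succ']
  refine dvd_trans ?_ (orderOf_dvd_natCard c)
  rw [orderOf_dvd_iff_pow_eq_one]
  have h := hk (orderOf c)
  rw [pow_orderOf_eq_one, one_mul, inv_one, mul_one] at h
  have h' : x ^ (((r : ZMod p) ^ orderOf c).val) = x ^ 1 := by rw [pow_one]; exact h.symm
  rw [pow_eq_pow_iff_modEq, hx, ← ZMod.natCast_eq_natCast_iff] at h'
  apply Units.ext
  simpa using h'

open scoped Classical in
/-- The squared differences of multiplicities. -/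
theorem sum_sq_diff (n : IrrCharacter G → ZMod p → ℕ)
    (hn : ∀ χ : IrrCharacter G, ∀ a : ZMod p,
      ∑ i : ZMod p, (χ : G → ℂ) (pw x i) * ZMod.stdAddChar (i * -a) = (p : ℂ) * (n χ a : ℂ))
    (a b : ZMod p) :
    ∑ χ, ((n χ a : ℤ) - n χ b) ^ 2 = ∑ g : expGroup hx,
        ((if ((g : (ZMod p)ˣ) : ZMod p) * a = a then (1 : ℤ) else 0) -
          (if ((g : (ZMod p)ˣ) : ZMod p) * b = a then (1 : ℤ) else 0) -
          (if ((g : (ZMod p)ˣ) : ZMod p) * a = b then (1 : ℤ) else 0) +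
          (if ((g : (ZMod p)ˣ) : ZMod p) * b = b then (1 : ℤ) else 0)) := by
  have h := sum_norm_diff hx hC a b
  simp only [mul_sub, Finset.sum_sub_distrib, hn, map_sub, map_mul, map_natCast] at h
  have h2 : ((p : ℂ) ^ 2) * ((∑ χ, ((n χ a : ℤ) - n χ b) ^ 2 : ℤ) : ℂ) =
      ((p : ℂ) ^ 2) * (((∑ g : expGroup hx,
        ((if ((g : (ZMod p)ˣ) : ZMod p) * a = a then (1 : ℤ) else 0) -
          (if ((g : (ZMod p)ˣ) : ZMod p) * b = a then (1 : ℤ) else 0) -
          (if ((g : (ZMod p)ˣ) : ZMod p) * a = b then (1 : ℤ) else 0) +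
          (if ((g : (ZMod p)ˣ) : ZMod p) * b = b then (1 : ℤ) else 0))) : ℤ) : ℂ) := by
    push_cast [apply_ite (fun z : ℤ => (z : ℂ))]
    rw [Finset.mul_sum]
    convert h using 1
    rw [← Finset.sum_sub_distrib]
    exact Finset.sum_congr rfl fun χ _ => by ring
  exact_mod_cast mul_left_cancel₀ (pow_ne_zero 2 (Nat.cast_ne_zero.2 hp.out.ne_zero)) h2

open scoped Classical in
theorem sum_sq_diff_zero (n : IrrCharacter G → ZMod p → ℕ)
    (hn : ∀ χ : IrrCharacter G, ∀ a : ZMod p,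
      ∑ i : ZMod p, (χ : G → ℂ) (pw x i) * ZMod.stdAddChar (i * -a) = (p : ℂ) * (n χ a : ℂ))
    (u : (ZMod p)ˣ) :
    ∑ χ, ((n χ 0 : ℤ) - n χ u) ^ 2 = (Nat.card (expGroup hx) : ℤ) + 1 := by
  rw [sum_sq_diff hx hC n hn]
  simp only [mul_zero, if_true, if_neg u.ne_zero.symm, Units.mul_left_eq_zero,
    mul_left_eq_self₀, u.ne_zero, or_false, Finset.sum_add_distrib, Finset.sum_sub_distrib]
  rw [Finset.sum_const, Finset.card_univ, Nat.card_eq_fintype_card]
  have h1 : (∑ g : expGroup hx, if ((g : (ZMod p)ˣ) : ZMod p) = 1 then (1 : ℤ) else 0) = 1 := by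
    rw [Finset.sum_eq_single (1 : expGroup hx)]
    · simp
    · intro g _ hg
      rw [if_neg]
      exact fun h => hg (Subtype.ext (Units.ext h))
    · simp
  simp [h1]

open scoped Classical in
theorem sum_sq_diff_units (n : IrrCharacter G → ZMod p → ℕ)
    (hn : ∀ χ : IrrCharacter G, ∀ a : ZMod p,
      ∑ i : ZMod p, (χ : G → ℂ) (pw x i) * ZMod.stdAddChar (i * -a) = (p : ℂ) * (n χ a : ℂ))
    (u v : (ZMod p)ˣ) (huv : u⁻¹ * v ∉ expGroup hx) :
    ∑ χ, ((n χ u : ℤ) - n χ v) ^ 2 = 2 := by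
  rw [sum_sq_diff hx hC n hn]
  have h1 : ∀ g : expGroup hx, ((g : (ZMod p)ˣ) : ZMod p) * v ≠ (u : ZMod p) := by
    intro g h
    have h' : (g : (ZMod p)ˣ) * v = u := Units.ext h
    apply huv
    rw [← h', mul_inv_rev, mul_comm v⁻¹, inv_mul_cancel_right]
    exact inv_mem g.2
  have h2 : ∀ g : expGroup hx, ((g : (ZMod p)ˣ) : ZMod p) * u ≠ (v : ZMod p) := by
    intro g h
    have h' : (g : (ZMod p)ˣ) * u = v := Units.ext h
    apply huv
    rw [← h', mul_comm _ u, inv_mul_cancel_left]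
    exact g.2
  have h3 : (∑ g : expGroup hx, if ((g : (ZMod p)ˣ) : ZMod p) = 1 then (1 : ℤ) else 0) = 1 := by
    rw [Finset.sum_eq_single (1 : expGroup hx)]
    · simp
    · intro g _ hg
      rw [if_neg]
      exact fun h => hg (Subtype.ext (Units.ext h))
    · simp
  simp only [if_neg (h1 _), if_neg (h2 _), sub_zero, mul_left_eq_self₀, u.ne_zero, v.ne_zero,
    or_false, Finset.sum_add_distrib, h3]
  norm_num

/-- A perfect group with a self-centralising element of prime order `p` has an irreducible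
character of degree at least `p`. -/
theorem exists_degree_ge (hperf : commutator G = ⊤)
    (hker : ∀ χ : IrrCharacter G, χ ≠ principalIrr G → (χ : G → ℂ) x ≠ (χ : G → ℂ) 1)
    (hb : ∀ χ : IrrCharacter G, charDegree (χ : G → ℂ) < p) : False := by
  classical
  set e := Nat.card (expGroup hx) with hedef
  set t := (expGroup hx).index with htdef
  have hte : t * e = p - 1 := index_mul_card hx hC
  have hp2 : 2 ≤ p := hp.out.two_le
  have hct : Nat.card {C : ConjClasses G // ∃ g ∈ C.carrier, orderOf g = p} = t :=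
    card_classes hx hC
  have hidx1 : (commutator G).index = 1 := by rw [hperf, Subgroup.index_top]
  have he0 : 0 < e := Nat.card_pos
  have he : 2 ≤ e := by
    by_contra hlt
    have he1 : e = 1 := by omega
    rw [he1, mul_one] at hte
    have := (Cfsg.Agent.S4495.result p hp.out x hx hC t hct).2 hte
    omega
  choose n hn hdeg hkerx using exists_mult hx (G := G)
  have hinv := fun χ => mult_invariant hx hC χ (n χ) (hn χ)
  set D : IrrCharacter G → ℕ := fun χ => charDegree (χ : G → ℂ) with hD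
  have hDval : ∀ χ : IrrCharacter G, (χ : G → ℂ) 1 = (D χ : ℂ) := fun χ => by
    obtain ⟨m, hm, -, -⟩ := irr_degree_dvd_card χ
    show _ = (charDegree (χ : G → ℂ) : ℂ)
    rw [CfsgLib.LinearTwist.charDegree_eq_of_apply_one hm]
    exact hm
  have hDpos : ∀ χ, 0 < D χ := fun χ => by
    have := irr_one_ne_zero χ
    rw [hDval] at this
    exact Nat.pos_of_ne_zero (Nat.cast_ne_zero.1 this)
  -- the column relation
  have hcol : ∀ a : ZMod p, p * ∑ χ, D χ * n χ a = Nat.card G := by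
    intro a
    have h1 : ∀ i : ZMod p, ∑ χ : IrrCharacter G, (χ : G → ℂ) 1 * (χ : G → ℂ) (pw x i) =
        if i = 0 then (Nat.card G : ℂ) else 0 := by
      intro i
      rw [sum_degree_mul_irr]
      simp only [pw_eq_one_iff hx]
    have h2 : (p : ℂ) * ∑ χ : IrrCharacter G, (D χ : ℂ) * (n χ a : ℂ) = (Nat.card G : ℂ) := by
      rw [Finset.mul_sum]
      calc ∑ χ : IrrCharacter G, (p : ℂ) * ((D χ : ℂ) * (n χ a : ℂ))
          = ∑ χ : IrrCharacter G, ∑ i : ZMod p,
              (χ : G → ℂ) 1 * (χ : G → ℂ) (pw x i) * ZMod.stdAddChar (i * -a) := by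
            refine Finset.sum_congr rfl fun χ _ => ?_
            simp only [mul_assoc, ← Finset.mul_sum, hn, hDval]
            ring
        _ = _ := by
            rw [Finset.sum_comm]
            simp only [← Finset.sum_mul, h1, ite_mul, zero_mul]
            simp
    exact_mod_cast h2
  -- orbits
  let Q := (ZMod p)ˣ ⧸ expGroup hx
  let m : IrrCharacter G → Q → ℕ := fun χ q => n χ ((q.out : (ZMod p)ˣ) : ZMod p)
  have hm : ∀ χ (u : (ZMod p)ˣ), n χ (u : ZMod p) = m χ (u : Q) := by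
    intro χ u
    obtain ⟨h, hh⟩ := QuotientGroup.mk_out_eq_mul (expGroup hx) u
    simp only [m]
    rw [hh, mul_comm, Units.val_mul, hinv χ h h.2]
  have hQcard : Fintype.card Q = t := by
    rw [htdef, Subgroup.index_eq_card, Nat.card_eq_fintype_card]
  have hDsum : ∀ χ, D χ = n χ 0 + e * ∑ q : Q, m χ q := by
    intro χ
    have h1 : D χ = n χ 0 + ∑ u : (ZMod p)ˣ, n χ u := by
      show charDegree _ = _
      rw [hdeg, ← Finset.add_sum_erase _ _ (Finset.mem_univ (0 : ZMod p))]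
      congr 1
      exact Finset.sum_bij (fun a ha => Units.mk0 a (Finset.mem_erase.1 ha).1)
        (fun _ _ => Finset.mem_univ _) (fun _ _ _ _ h => congrArg Units.val h)
        (fun u _ => ⟨(u : ZMod p), Finset.mem_erase.2 ⟨u.ne_zero, Finset.mem_univ _⟩,
          Units.mk0_val _ _⟩) fun _ _ => rfl
    rw [h1, ← Finset.sum_fiberwise Finset.univ (QuotientGroup.mk : (ZMod p)ˣ → Q), Finset.mul_sum]
    congr 1
    refine Finset.sum_congr rfl fun q _ => ?_
    rw [Finset.sum_congr rfl (g := fun _ => m χ q)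
      (fun u hu => by rw [hm, (Finset.mem_filter.1 hu).2]), Finset.sum_const, smul_eq_mul]
    congr 1
    rw [hedef, Nat.card_eq_fintype_card]
    induction q using QuotientGroup.induction_on with
    | H v =>
      rw [← Finset.card_univ]
      refine (Finset.card_nbij (fun g : expGroup hx => v * g.1) (fun g _ => ?_) ?_ ?_).symm
      · simp only [Finset.coe_filter, Finset.mem_univ, true_and, Set.mem_ofPred_eq]
        exact QuotientGroup.eq.2 (by simp)
      · intro g _ g' _ h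
        exact Subtype.ext (mul_left_cancel h)
      · intro u hu
        simp only [Finset.coe_filter, Finset.mem_univ, true_and, Set.mem_ofPred_eq] at hu
        exact ⟨⟨v⁻¹ * u, QuotientGroup.eq.1 hu.symm⟩, by simp, by simp⟩
  have hsq0 : ∀ q : Q, ∑ χ, ((n χ 0 : ℤ) - m χ q) ^ 2 = (e : ℤ) + 1 := fun q =>
    sum_sq_diff_zero hx hC n hn _
  have hsq2 : ∀ q q' : Q, q ≠ q' → ∑ χ, ((m χ q : ℤ) - m χ q') ^ 2 = 2 := fun q q' hne =>
    sum_sq_diff_units hx hC n hn _ _ fun h => hne (by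
      rw [← q.out_eq', ← q'.out_eq']
      exact QuotientGroup.eq.2 h)
  have hle1 : ∀ χ q, m χ q ≤ 1 := by
    intro χ q
    by_contra hgt
    have hall : ∀ q', 1 ≤ m χ q' := by
      intro q'
      rcases eq_or_ne q q' with rfl | hne
      · omega
      have h1 : ((m χ q : ℤ) - m χ q') ^ 2 ≤ 2 := by
        rw [← hsq2 q q' hne]
        exact Finset.single_le_sum (f := fun χ => ((m χ q : ℤ) - m χ q') ^ 2)
          (fun _ _ => sq_nonneg _) (Finset.mem_univ χ)
      by_contra h0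
      have h0' : m χ q' = 0 := by omega
      rw [h0', Nat.cast_zero, sub_zero] at h1
      nlinarith [(by omega : (2 : ℤ) ≤ m χ q)]
    have h2 : t + 1 ≤ ∑ q', m χ q' := by
      have h3 : ∑ q' : Q, (1 + if q' = q then 1 else 0) ≤ ∑ q', m χ q' :=
        Finset.sum_le_sum fun q' _ => by
          split_ifs with h
          · subst h; omega
          · simpa using hall q'
      rw [Finset.sum_add_distrib, Finset.sum_ite_eq', if_pos (Finset.mem_univ q), Finset.sum_const,
        Finset.card_univ, hQcard, smul_eq_mul, mul_one] at h3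
      exact h3
    have h4 := hb χ
    have h5 := hDsum χ
    have h6 : e * (t + 1) ≤ e * ∑ q', m χ q' := Nat.mul_le_mul_left _ h2
    rw [hD] at h5
    simp only at h5
    rw [mul_add, mul_comm, hte] at h6
    omega
  -- the principal character
  set one := principalIrr G with hone
  have hn1 : ∀ a, n one a = if a = 0 then 1 else 0 := by
    intro a
    have h1 := hn one a
    have h2 : ∀ g : G, (one : G → ℂ) g = 1 := fun g => rfl
    simp only [h2, one_mul, sum_std, neg_eq_zero] at h1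
    split_ifs at h1 with ha
    · rw [if_pos ha]
      have : (p : ℂ) * (1 : ℕ) = (p : ℂ) * (n one a : ℂ) := by rw [Nat.cast_one, mul_one]; exact h1
      exact_mod_cast (mul_left_cancel₀ (Nat.cast_ne_zero.2 hp.out.ne_zero) this).symm
    · rw [if_neg ha]
      rcases mul_eq_zero.1 h1.symm with h | h
      · exact absurd h (Nat.cast_ne_zero.2 hp.out.ne_zero)
      · exact_mod_cast h
  have hD1 : D one = 1 := CfsgLib.LinearTwist.charDegree_eq_of_apply_one (by
    rw [Nat.cast_one]; rfl)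
  have hm1 : ∀ q, m one q = 0 := fun q => by simp only [m, hn1, Units.ne_zero, if_false]
  -- classification
  set Full := Finset.univ.filter fun χ : IrrCharacter G => χ ≠ one ∧ ∀ q : Q, m χ q = 1 with hFull
  set F := Full.card
  set Ex := Finset.univ.filter fun χ : IrrCharacter G =>
    χ ≠ one ∧ ¬ ∀ q : Q, m χ q = 1 with hEx
  have hFullD : ∀ χ ∈ Full, n χ 0 = 0 ∧ D χ = t * e := by
    intro χ hχ
    have h1 := (Finset.mem_filter.1 hχ).2.2
    have h2 := hDsum χ
    rw [Finset.sum_congr rfl (fun q _ => h1 q), Finset.sum_const, Finset.card_univ, hQcard,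
      smul_eq_mul, mul_one] at h2
    have h3 := hb χ
    rw [hD] at h2
    simp only at h2
    have : e * t = p - 1 := by rw [mul_comm]; exact hte
    refine ⟨by omega, ?_⟩
    show charDegree _ = _
    rw [mul_comm t]
    omega
  have hsplit : ∀ (f : IrrCharacter G → ℤ), ∑ χ, f χ = f one + (∑ χ ∈ Full, f χ + ∑ χ ∈ Ex, f χ) := by
    intro f
    rw [← Finset.add_sum_erase _ _ (Finset.mem_univ one)]
    congr 1
    rw [← Finset.sum_filter_add_sum_filter_not (Finset.univ.erase one) (fun χ => ∀ q, m χ q = 1)]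
    congr 1 <;> refine Finset.sum_congr (Finset.ext fun χ => ?_) (fun _ _ => rfl) <;>
      simp [hFull, hEx]
  have hExone : ∀ χ ∈ Ex, ∃ q, m χ q = 1 := by
    intro χ hχ
    obtain ⟨hne, -⟩ := (Finset.mem_filter.1 hχ).2
    by_contra hno
    push Not at hno
    refine hker χ hne (hkerx χ fun a ha => ?_)
    have := hm χ (Units.mk0 a ha)
    rw [Units.val_mk0] at this
    rw [this]
    have := hle1 χ ((Units.mk0 a ha : (ZMod p)ˣ) : Q)
    have := hno ((Units.mk0 a ha : (ZMod p)ˣ) : Q)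
    omega
  have hExzero : ∀ χ ∈ Ex, ∃ q, m χ q = 0 := by
    intro χ hχ
    obtain ⟨-, hnall⟩ := (Finset.mem_filter.1 hχ).2
    push Not at hnall
    obtain ⟨q, hq⟩ := hnall
    exact ⟨q, by have := hle1 χ q; omega⟩
  have hQne : Nonempty Q := ⟨((1 : (ZMod p)ˣ) : Q)⟩
  obtain ⟨q0⟩ := hQne
  -- the case of a single orbit
  by_cases ht1 : t = 1
  · have hsub : Subsingleton Q := Fintype.card_le_one_iff_subsingleton.1 (by omega)
    have hExe : Ex = ∅ := Finset.eq_empty_of_forall_notMem fun χ hχ => by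
      obtain ⟨q, hq⟩ := hExone χ hχ
      obtain ⟨q', hq'⟩ := hExzero χ hχ
      rw [Subsingleton.elim q' q] at hq'
      omega
    have h1 := (hcol 0).trans (hcol ((q0.out : (ZMod p)ˣ) : ZMod p)).symm
    have h2 := Nat.eq_of_mul_eq_mul_left hp.out.pos h1
    zify at h2
    rw [hsplit, hsplit, hExe, Finset.sum_empty, Finset.sum_empty, hD1, hn1, if_pos rfl] at h2
    rw [Finset.sum_eq_zero (s := Full) (f := fun χ => (D χ : ℤ) * (n χ 0 : ℤ))
      (fun χ hχ => by rw [(hFullD χ hχ).1]; simp)] at h2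
    rw [Finset.sum_congr rfl (g := fun _ => ((t * e : ℕ) : ℤ)) (fun χ hχ => by
      rw [(hFullD χ hχ).2, show n χ ((q0.out : (ZMod p)ˣ) : ZMod p) = m χ q0 from rfl,
        (Finset.mem_filter.1 hχ).2.2 q0]; simp), Finset.sum_const, nsmul_eq_mul,
      show n one ((q0.out : (ZMod p)ˣ) : ZMod p) = m one q0 from rfl, hm1] at h2
    push_cast at h2
    rw [ht1] at h2
    have h3 : F * e = 1 := by push_cast at h2; exact_mod_cast (by linarith : ((F : ℤ) * e = 1))
    have := Nat.eq_one_of_mul_eq_one_left h3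
    omega
  have ht2 : 2 ≤ t := by
    have : 0 < t := hQcard ▸ Fintype.card_pos_iff.2 ⟨q0⟩
    omega
  -- the exceptional family
  let R : Q → Finset Ex := fun q => Finset.univ.filter fun χ => m χ.1 q = 1
  have hRR : ∀ a b : Q, a ≠ b → ∃ α β, R a \ R b = {α} ∧ R b \ R a = {β} ∧ D α.1 = D β.1 := by
    intro a b hab
    have hmem : ∀ (a b : Q) (χ : Ex), χ ∈ R a \ R b ↔ m χ.1 a = 1 ∧ m χ.1 b = 0 := by
      intro a b χ
      have := hle1 χ.1 b
      simp only [R, Finset.mem_sdiff, Finset.mem_filter, Finset.mem_univ, true_and]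
      omega
    have hs2 := hsq2 a b hab
    have hw : ∑ χ, (D χ : ℤ) * ((m χ a : ℤ) - m χ b) = 0 := by
      have h1 := (hcol ((a.out : (ZMod p)ˣ) : ZMod p)).trans (hcol ((b.out : (ZMod p)ˣ) : ZMod p)).symm
      have h2 := Nat.eq_of_mul_eq_mul_left hp.out.pos h1
      zify at h2
      simp only [mul_sub, Finset.sum_sub_distrib]
      exact sub_eq_zero.2 h2
    have hFz : ∀ χ ∈ Full, (m χ a : ℤ) - m χ b = 0 := fun χ hχ => by
      rw [(Finset.mem_filter.1 hχ).2.2 a, (Finset.mem_filter.1 hχ).2.2 b, sub_self]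
    rw [hsplit, hm1, hm1, Finset.sum_eq_zero (fun χ hχ => by rw [hFz χ hχ]; simp)] at hs2
    rw [hsplit, hm1, hm1, Finset.sum_eq_zero (fun χ hχ => by rw [hFz χ hχ]; simp)] at hw
    simp only [Nat.cast_zero, sub_self, ne_eq, OfNat.ofNat_ne_zero, not_false_eq_true, zero_pow,
      mul_zero, zero_add] at hs2 hw
    rw [← Finset.sum_coe_sort] at hs2 hw
    have hd1 : ∀ χ : Ex, ((m χ.1 a : ℤ) - m χ.1 b) =
        (if χ ∈ R a \ R b then 1 else 0) - (if χ ∈ R b \ R a then 1 else 0) := by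
      intro χ
      have := hle1 χ.1 a
      have := hle1 χ.1 b
      simp only [hmem]
      interval_cases h1 : m χ.1 a <;> interval_cases h2 : m χ.1 b <;> simp
    have hd2 : ∀ χ : Ex, ((m χ.1 a : ℤ) - m χ.1 b) ^ 2 =
        (if χ ∈ R a \ R b then 1 else 0) + (if χ ∈ R b \ R a then 1 else 0) := by
      intro χ
      have := hle1 χ.1 a
      have := hle1 χ.1 b
      simp only [hmem]
      interval_cases h1 : m χ.1 a <;> interval_cases h2 : m χ.1 b <;> simp
    simp only [hd2, Finset.sum_add_distrib, Finset.sum_ite_mem, Finset.univ_inter, Finset.sum_const,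
      nsmul_eq_mul, mul_one] at hs2
    simp only [hd1, mul_sub, mul_ite, mul_one, mul_zero, Finset.sum_sub_distrib,
      Finset.sum_ite_mem, Finset.univ_inter] at hw
    have hcards : (R a \ R b).card + (R b \ R a).card = 2 := by exact_mod_cast hs2
    have hne : ∀ s t : Finset Ex, s.card + t.card = 2 →
        (∑ χ ∈ s, (D χ.1 : ℤ)) - ∑ χ ∈ t, (D χ.1 : ℤ) = 0 → s.card ≠ 0 := by
      intro s t hst h0 hs
      rw [Finset.card_eq_zero.1 hs, Finset.sum_empty, zero_sub, neg_eq_zero] at h0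
      have : 0 < ∑ χ ∈ t, (D χ.1 : ℤ) :=
        Finset.sum_pos (fun χ _ => by exact_mod_cast hDpos _) (Finset.card_pos.1 (by omega))
      omega
    have h1 := hne _ _ hcards hw
    have h2 := hne (R b \ R a) (R a \ R b) (by omega) (by linarith)
    obtain ⟨α, hα⟩ := Finset.card_eq_one.1 (show (R a \ R b).card = 1 by omega)
    obtain ⟨β, hβ⟩ := Finset.card_eq_one.1 (show (R b \ R a).card = 1 by omega)
    rw [hα, hβ, Finset.sum_singleton, Finset.sum_singleton] at hw
    exact ⟨α, β, hα, hβ, by exact_mod_cast sub_eq_zero.1 hw⟩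
  obtain ⟨hEcard, k, hk, hRk, hcolk, hDeq⟩ := CfsgLib.TwoValued.classify R (fun χ : Ex => D χ.1)
    (by omega) hRR
    (fun χ => (hExone χ.1 χ.2).imp fun q hq => by simp [R, hq])
    (fun χ => (hExzero χ.1 χ.2).imp fun q hq => by simp [R, hq])
  rw [hQcard] at hEcard hk
  rw [Fintype.card_coe] at hEcard
  obtain ⟨θ, hθ⟩ := Finset.card_pos.1 (show 0 < Ex.card by omega)
  set d := D θ
  set n0 := n θ 0
  have hsumk : ∀ χ ∈ Ex, ∑ q : Q, m χ q = k := by
    intro χ hχ
    rw [← hcolk ⟨χ, hχ⟩, Finset.card_filter]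
    refine Finset.sum_congr rfl fun q _ => ?_
    have := hle1 χ q
    simp only [R, Finset.mem_filter, Finset.mem_univ, true_and]
    split_ifs <;> omega
  have hExv : ∀ χ ∈ Ex, D χ = d ∧ n χ 0 = n0 := by
    intro χ hχ
    have h1 : D χ = d := hDeq ⟨χ, hχ⟩ ⟨θ, hθ⟩
    refine ⟨h1, ?_⟩
    have h2 := hDsum χ
    have h3 := hDsum θ
    rw [hsumk χ hχ] at h2
    rw [hsumk θ hθ] at h3
    change D χ = _ at h2
    change D θ = _ at h3
    omega
  have hRsum : ∀ (c c' : ℤ), ∑ χ ∈ Ex, (if m χ q0 = 1 then c else c') =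
      (k : ℤ) * c + ((t : ℤ) - k) * c' := by
    intro c c'
    have hkc : (Ex.filter fun χ => m χ q0 = 1).card = k := by
      rw [← hRk q0]
      refine Finset.card_bij (fun χ hχ => ⟨χ, (Finset.mem_filter.1 hχ).1⟩)
        (fun χ hχ => by simp [R, (Finset.mem_filter.1 hχ).2]) (fun _ _ _ _ h => congrArg Subtype.val h)
        (fun χ hχ => ⟨χ.1, Finset.mem_filter.2 ⟨χ.2, (Finset.mem_filter.1 hχ).2⟩, rfl⟩)
    have hkc' : (Ex.filter fun χ => ¬ m χ q0 = 1).card = t - k := by
      have := Finset.card_filter_add_card_filter_not (s := Ex) (fun χ => m χ q0 = 1)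
      omega
    rw [Finset.sum_ite, Finset.sum_const, Finset.sum_const, hkc, hkc', nsmul_eq_mul, nsmul_eq_mul,
      Nat.cast_sub (by omega : k ≤ t)]
  -- the three relations
  have hrel : 1 + t * d * n0 = F * (t * e) + k * d := by
    have h1 := (hcol 0).trans (hcol ((q0.out : (ZMod p)ˣ) : ZMod p)).symm
    have h2 := Nat.eq_of_mul_eq_mul_left hp.out.pos h1
    zify at h2
    have hA : ∑ χ ∈ Ex, (D χ : ℤ) * (n χ 0 : ℤ) = (t : ℤ) * ((d : ℤ) * n0) := by
      rw [Finset.sum_congr (s₁ := Ex) (g := fun _ => (d : ℤ) * n0) rfl fun χ hχ => by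
        rw [(hExv χ hχ).1, (hExv χ hχ).2], Finset.sum_const, nsmul_eq_mul, hEcard]
    have hB : ∑ χ ∈ Full, (D χ : ℤ) * (n χ ((q0.out : (ZMod p)ˣ) : ZMod p) : ℤ) =
        (F : ℤ) * ((t : ℤ) * e) := by
      rw [Finset.sum_congr (s₁ := Full) (g := fun _ => ((t : ℤ) * e)) rfl fun χ hχ => by
        show (D χ : ℤ) * (m χ q0 : ℤ) = _
        rw [(hFullD χ hχ).2, (Finset.mem_filter.1 hχ).2.2 q0]; simp,
        Finset.sum_const, nsmul_eq_mul]
    have hB0 : ∑ χ ∈ Full, (D χ : ℤ) * (n χ 0 : ℤ) = 0 :=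
      Finset.sum_eq_zero fun χ hχ => by rw [(hFullD χ hχ).1]; simp
    have hC' : ∑ χ ∈ Ex, (D χ : ℤ) * (n χ ((q0.out : (ZMod p)ˣ) : ZMod p) : ℤ) =
        (k : ℤ) * d := by
      rw [Finset.sum_congr (s₁ := Ex) (g := fun χ => if m χ q0 = 1 then (d : ℤ) else 0) rfl
        fun χ hχ => by
          show (D χ : ℤ) * (m χ q0 : ℤ) = _
          rw [(hExv χ hχ).1]
          have := hle1 χ q0
          interval_cases h : m χ q0 <;> simp, hRsum]
      ring
    rw [hsplit, hsplit, hA, hB, hB0, hC', hD1, hn1, if_pos rfl,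
      show n one ((q0.out : (ZMod p)ˣ) : ZMod p) = m one q0 from rfl, hm1] at h2
    zify
    push_cast at h2
    linarith
  have hnorm : (e : ℤ) = F + k * ((n0 : ℤ) - 1) ^ 2 + (t - k) * (n0 : ℤ) ^ 2 := by
    have h1 := hsq0 q0
    rw [hsplit, hn1, if_pos rfl, hm1,
      Finset.sum_congr (s₁ := Full) rfl (g := fun _ => (1 : ℤ)) (fun χ hχ => by
        rw [(hFullD χ hχ).1, (Finset.mem_filter.1 hχ).2.2 q0]; norm_num),
      Finset.sum_congr (s₁ := Ex) rfl
        (g := fun χ => if m χ q0 = 1 then ((n0 : ℤ) - 1) ^ 2 else (n0 : ℤ) ^ 2) (fun χ hχ => by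
          rw [(hExv χ hχ).2]
          have := hle1 χ q0
          interval_cases h : m χ q0 <;> simp),
      hRsum, Finset.sum_const, nsmul_eq_mul] at h1
    push_cast at h1
    linarith
  have hG : (Nat.card G : ℤ) = 1 + F * ((t : ℤ) * e) ^ 2 + t * (d : ℤ) ^ 2 := by
    have h1 := sum_sq_degrees (G := G)
    simp only [hDval] at h1
    have h2 : ∑ χ, (D χ : ℤ) ^ 2 = (Nat.card G : ℤ) := by exact_mod_cast h1
    rw [hsplit, hD1, Finset.sum_congr (s₁ := Full) rfl (g := fun _ => ((t : ℤ) * e) ^ 2)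
        (fun χ hχ => by rw [(hFullD χ hχ).2]; push_cast; ring),
      Finset.sum_congr (s₁ := Ex) rfl (g := fun _ => (d : ℤ) ^ 2)
        (fun χ hχ => by rw [(hExv χ hχ).1]),
      Finset.sum_const, Finset.sum_const, nsmul_eq_mul, nsmul_eq_mul, hEcard] at h2
    push_cast at h2
    linarith
  have hd : d = n0 + e * k := by
    have h3 := hDsum θ
    rw [hsumk θ hθ] at h3
    exact h3
  obtain ⟨hodd, hF⟩ := arith_core he hk ht2 hd hrel hnorm
    (by rw [← hG]; exact_mod_cast card_expGroup_dvd hx hC)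
  obtain ⟨χ, hχ⟩ := Finset.card_pos.1 hF
  have hdχ : charDegree (χ : G → ℂ) + 1 = p := by
    have := (hFullD χ hχ).2
    rw [hte] at this
    change D χ + 1 = p
    omega
  rcases Cfsg.Agent.S4508.result p hp.out x hx hC t hct χ hdχ with h | h
  · exact Nat.not_even_iff_odd.2 hodd h
  · rw [hidx1] at h
    exact Nat.not_even_one h

end CfsgLib.SelfCentralPrime
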