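import Cfsg.Agent.Lib.Blk7.SubsectionSq
import Cfsg.Agent.Lib.Blk7.DefectOneBound
import Cfsg.Agent.Lib.Blk7.CentralQuotient
import Cfsg.Agent.Lib.Blocks.CyclicNilpotent

/-!
# Blocks of defect two: the trace of the contributions at a subsection of order `p`
-/

set_option autoImplicit false
set_option linter.unusedSectionVars false
set_option maxHeartbeats 1000000

namespace CfsgLib.SubsectionTrace

open Cfsg CfsgLib.Characters CfsgLib.Blocks CfsgLib.Contribution CfsgLib.SubsectionSq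
open scoped ComplexConjugate Classical

universe u

variable {G : Type u} [Group G] [Fintype G] {p : ℕ} [hp : Fact p.Prime] {M : Ideal AlgInt}

theorem conj_blockPart (hM : IsPModular p M) {x : G} {C : Subgroup G} [Fintype C]
    (hC : C = Subgroup.centralizer ({x} : Set G)) {b : Set (IrrCharacter C)} (hb : IsPBlock M b)
    (χ : IrrCharacter G) {s : C} (hs : ¬ p ∣ orderOf s) :
    blockPart b (fun c : C => (χ : G → ℂ) (x⁻¹ * c)) s⁻¹ =
      conj (blockPart b (fun c : C => (χ : G → ℂ) (x * c)) s) := by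
  rw [SubsectionNorm.blockPart_regular hM hb _ hs,
    SubsectionNorm.blockPart_regular hM hb _ (by rwa [orderOf_inv]), map_sum]
  refine Finset.sum_nbij' (fun d => d⁻¹) (fun d => d⁻¹) (fun d hd => by simpa [orderOf_inv] using hd)
    (fun d hd => by simpa [orderOf_inv] using hd) (fun d _ => inv_inv d) (fun d _ => inv_inv d)
    fun d _ => ?_
  have hd : Commute x (d : G) :=
    (Subgroup.mem_centralizer_singleton_iff.1 (hC ▸ d.2 : (d : G) ∈ _)).symm
  rw [map_mul, ← SubsectionNorm.ker_inv, inv_inv, ← irr_apply_inv χ, Subgroup.coe_inv, mul_inv_rev,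
    inv_inv, hd.inv_left.eq]

/-- The diagonal contributions at a subsection add up to `p ^ d` times its rank. -/
theorem sum_diag (hM : IsPModular p M) (d : ℕ) {x : G} (hx : ∃ k : ℕ, orderOf x = p ^ k)
    {C : Subgroup G} [Fintype C] (hC : C = Subgroup.centralizer ({x} : Set G))
    {B : Set (IrrCharacter G)} {b : Set (IrrCharacter C)} (hind : IsInducedBlock M C b B) :
    ∑ χ ∈ Finset.univ.filter (· ∈ B), subContrib p d C b x χ χ =
      (p : ℂ) ^ d * (blockRank p b : ℂ) := by
  have hb := hind.1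
  have hnorm : ∑ χ ∈ Finset.univ.filter (· ∈ B), ∑ s ∈ Finset.univ.filter (fun s : C => ¬ p ∣ orderOf s),
      blockPart b (fun c : C => (χ : G → ℂ) (x * c)) s *
        blockPart b (fun c : C => (χ : G → ℂ) (x⁻¹ * c)) s⁻¹ =
      (Nat.card C : ℂ) * (blockRank p b : ℂ) := by
    subst hC
    convert SubsectionNorm.sum_norms hM hx hind.2.1 hind
  simp only [subContrib, ← Finset.mul_sum]
  rw [Finset.sum_congr rfl fun χ _ => Finset.sum_congr rfl fun s hs => by
    rw [← conj_blockPart hM hC hb χ (Finset.mem_filter.1 hs).2], hnorm]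
  have hn : (Nat.card C : ℂ) ≠ 0 := Nat.cast_ne_zero.2 Nat.card_pos.ne'
  field_simp

variable {C : Subgroup G} [Fintype C]

theorem contribSum_ne_zero (hM : IsPModular p M) {y : G} (hy : ∃ k : ℕ, orderOf y = p ^ k)
    (hC : C = Subgroup.centralizer ({y} : Set G)) {B : Set (IrrCharacter G)}
    {b : Set (IrrCharacter C)} (hind : IsInducedBlock M C b B)
    (hd : blockDefect p b = blockDefect p B) {χ : IrrCharacter G} (hχ : χ ∈ B)
    (h0 : ¬ p ∣ red p B χ) (m : IrrCharacter C → ℕ)
    (hm : ∀ ξ : IrrCharacter C, classInner (fun c : C => (χ : G → ℂ) c) (ξ : C → ℂ) = m ξ)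
    (r : IrrCharacter C → ℂ) {q : ℕ} (hr : ∀ ξ, r ξ ^ p ^ q = 1) :
    ∑ ξ ∈ Finset.univ.filter (· ∈ b), ∑ η ∈ Finset.univ.filter (· ∈ b),
      (m ξ : ℂ) * (m η : ℂ) * (contribInt p b ξ η : ℂ) * (r ξ * conj (r η)) ≠ 0 := by
  have := hM.2.1
  haveI : Fintype (ConjClasses C) := Fintype.ofFinite _
  have hb := hind.1
  obtain ⟨η₀, hη₀, hη₀u, -⟩ := Contribution.exists_height_zero hM hb
  have hτ := tfac_unit hM hb hη₀ hη₀u hη₀
  obtain ⟨e, he⟩ := hy
  have hQ : Subgroup.zpowers y ≤ BrauerPairs.cz (Subgroup.zpowers y) := fun g hg =>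
    BrauerPairs.mem_cz.2 fun a ha => by
      obtain ⟨i, rfl⟩ := Subgroup.mem_zpowers_iff.1 hg
      obtain ⟨l, rfl⟩ := Subgroup.mem_zpowers_iff.1 ha
      rw [← zpow_add, ← zpow_add, add_comm]
  have hQp : IsPGroup p (Subgroup.zpowers y) := IsPGroup.of_card (by rw [Nat.card_zpowers, he])
  have hCQ : C = BrauerPairs.cz (Subgroup.zpowers y) := by
    rw [hC, BrauerPairs.cz, Subgroup.zpowers_eq_closure, Subgroup.centralizer_closure]
  set bF := Finset.univ.filter (· ∈ b) with hbF
  set T := ∑ ξ ∈ bF, m ξ * red p b ξ with hT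
  have hTu : ¬ p ∣ T := not_dvd_resDegree hM hQp hQ hCQ hind hd hχ h0 m hm
  intro hv
  have hρ : ∀ ξ η, MemLocalIdeal M (r ξ * conj (r η) - 1) := fun ξ η =>
    CentralDefect.root_sub_one_mem hM (k := q) (by rw [mul_pow, ← map_pow, hr, hr, map_one, one_mul])
  set F : IrrCharacter C → IrrCharacter C → ℂ := fun ξ η =>
    (m ξ : ℂ) * (m η : ℂ) * (contribInt p b ξ η : ℂ) with hF
  have h1 : MemLocalIdeal M (∑ ξ ∈ bF, ∑ η ∈ bF, F ξ η) := by
    have h : MemLocalIdeal M (∑ ξ ∈ bF, ∑ η ∈ bF, F ξ η * (r ξ * conj (r η) - 1)) :=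
      MemLocalIdeal.sum hM _ fun ξ _ => MemLocalIdeal.sum hM _ fun η _ =>
        MemLocalIdeal.mul_left hM ((lRing hM).mul_mem ((lRing hM).mul_mem
          (natCast_mem (lRing hM) _) (natCast_mem (lRing hM) _)) (intCast_mem (lRing hM) _)) (hρ ξ η)
    simp only [mul_sub, mul_one, Finset.sum_sub_distrib, hF, hv, zero_sub] at h ⊢
    simpa using MemLocalIdeal.sub hM (memLocalIdeal_zero hM) h
  have h2 : MemLocalIdeal M ((red p b η₀ : ℂ) * (∑ ξ ∈ bF, ∑ η ∈ bF, F ξ η) -
      (T : ℂ) * (T : ℂ) * tfac p η₀ η₀) := by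
    have e : (red p b η₀ : ℂ) * (∑ ξ ∈ bF, ∑ η ∈ bF, F ξ η) -
        (T : ℂ) * (T : ℂ) * tfac p η₀ η₀ =
        ∑ ξ ∈ bF, ∑ η ∈ bF, (m ξ : ℂ) * (m η : ℂ) *
          ((red p b η₀ : ℂ) * (contribInt p b ξ η : ℂ) -
            (red p b ξ : ℂ) * (red p b η : ℂ) * tfac p η₀ η₀) := by
      simp only [hT, Nat.cast_sum, Nat.cast_mul, hF]
      rw [Finset.sum_mul_sum, Finset.sum_mul, Finset.mul_sum]
      simp only [Finset.sum_mul, Finset.mul_sum, ← Finset.sum_sub_distrib]
      exact Finset.sum_congr rfl fun ξ _ => Finset.sum_congr rfl fun η _ => by ring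
    rw [e]
    exact MemLocalIdeal.sum hM _ fun ξ hξ => MemLocalIdeal.sum hM _ fun η hη =>
      MemLocalIdeal.mul_left hM
        ((lRing hM).mul_mem (natCast_mem (lRing hM) _) (natCast_mem (lRing hM) _))
        (red_mul_contribInt_congr hM hb hη₀ (Finset.mem_filter.1 hξ).2 (Finset.mem_filter.1 hη).2)
  have h3 : MemLocalIdeal M ((T : ℂ) * (T : ℂ) * tfac p η₀ η₀) := by
    simpa using MemLocalIdeal.sub hM
      (MemLocalIdeal.mul_left hM (natCast_mem (lRing hM) (red p b η₀)) h1) h2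
  have hTi : ¬ MemLocalIdeal M (T : ℂ) := fun h => hTu ((memLocalIdeal_natCast_iff hM _).1 h)
  exact BlockCover.not_memLocalIdeal_mul hM
    ((lRing hM).mul_mem (natCast_mem (lRing hM) _) (natCast_mem (lRing hM) _))
    (tfac_mem hM _ _)
    (BlockCover.not_memLocalIdeal_mul hM (natCast_mem (lRing hM) _) (natCast_mem (lRing hM) _)
      hTi hTi) hτ h3

/-- The count for defect two, all heights being zero. -/
theorem card_le_sq (hM : IsPModular p M) {B : Set (IrrCharacter G)}
    (hh : ∀ χ ∈ B, ¬ p ∣ red p B χ) {y : G} (hy : orderOf y = p)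
    (hC : C = Subgroup.centralizer ({y} : Set G)) {b : Set (IrrCharacter C)}
    (hind : IsInducedBlock M C b B) (hdB : blockDefect p B = 2) (hdb : blockDefect p b = 2) :
    Nat.card B ≤ p ^ 2 := by
  have := hM.2.1
  have hb := hind.1
  have hyC : y ∈ C := hC ▸ Subgroup.mem_centralizer_singleton_iff.2 rfl
  set z : C := ⟨y, hyC⟩ with hz
  have hzc : z ∈ Subgroup.center C := Subgroup.mem_center_iff.2 fun c => Subtype.ext
    (Subgroup.mem_centralizer_singleton_iff.1 (hC ▸ c.2 : (c : G) ∈ _))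
  set N := Subgroup.zpowers z with hN
  have hNc : N ≤ Subgroup.center C := Subgroup.zpowers_le.2 hzc
  haveI : N.Normal := ⟨fun a ha g => by
    rwa [Subgroup.mem_center_iff.1 (hNc ha) g, mul_inv_cancel_right]⟩
  have hzo : orderOf z = p := by rw [← Subgroup.orderOf_coe, hz, hy]
  have hNcard : Nat.card N = p := by rw [hN, Nat.card_zpowers, hzo]
  have hNp : IsPGroup p N := IsPGroup.of_card (n := 1) (by rw [hNcard, pow_one])
  haveI : Fintype (C ⧸ N) := Fintype.ofFinite _
  haveI : Fintype (ConjClasses C) := Fintype.ofFinite _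
  haveI : Fintype (ConjClasses (C ⧸ N)) := Fintype.ofFinite _
  set β := CentralQuot.quotBlock N b with hβdef
  have hβ : IsPBlock M β := CentralQuot.isPBlock_quotBlock N hNp hNc hM hb
  -- the block below has defect one
  have hdβ : blockDefect p β = 1 := by
    obtain ⟨π, hπ, -, hπe⟩ := Contribution.exists_height_zero hM hβ
    have h1 := minExp_add_defect hM hβ
    have h2 := minExp_add_defect hM hb
    have h3 := exp_eq_of_defect_le_two hM hb hdb.le (show Chars17.infl N π ∈ b from hπ)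
    rw [show charDegree (Chars17.infl N π : C → ℂ) = charDegree (π : C ⧸ N → ℂ) by
      rw [charDegree, charDegree, Chars17.infl_apply, QuotientGroup.mk_one], hπe] at h3
    have h4 : (Nat.card C).factorization p = (Nat.card (C ⧸ N)).factorization p + 1 := by
      rw [Subgroup.card_eq_card_quotient_mul_card_subgroup N,
        Nat.factorization_mul Nat.card_pos.ne' Nat.card_pos.ne', Finsupp.add_apply, hNcard,
        hp.out.factorization_self]
    omega
  have hcoef : ∀ ξ : IrrCharacter C, ∃ n : IrrCharacter (C ⧸ N) → ℤ, ξ ∈ b → ∀ x : C,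
      ¬ p ∣ orderOf x → (ξ : C → ℂ) x = ∑ η ∈ members β, (n η : ℂ) * (η : C ⧸ N → ℂ) (x : C ⧸ N) :=
    fun ξ => by
      by_cases hξ : ξ ∈ b
      · obtain ⟨n, hn⟩ := CentralQuot.exists_int_coeff N hNp hNc hM hb hξ
        exact ⟨n, fun _ => hn⟩
      · exact ⟨0, fun h => absurd h hξ⟩
  choose n hn using hcoef
  set r : IrrCharacter C → ℂ := fun ξ => (ξ : C → ℂ) z / (ξ : C → ℂ) 1 with hr
  have hrq : ∀ ξ, r ξ ^ p ^ (0 + 1) = 1 := fun ξ => by
    rw [hr, ← apply_central_pow ξ hzc, zero_add, pow_one, ← hzo, pow_orderOf_eq_one,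
      div_self (irr_one_ne_zero ξ)]
  choose m hm using fun (χ : IrrCharacter G) (ξ : IrrCharacter C) => exists_mult_res χ ξ
  set bF := Finset.univ.filter (· ∈ b) with hbF
  set BF := Finset.univ.filter (· ∈ B) with hBF
  have hpart : ∀ (j : ℕ) (χ : IrrCharacter G) (u : C),
      blockPart b (fun c : C => (χ : G → ℂ) (y ^ j * c)) u =
        ∑ ξ ∈ bF, (m χ ξ : ℂ) * r ξ ^ j * (ξ : C → ℂ) u := by
    intro j χ u
    rw [blockPart_eq_sum]
    refine Finset.sum_congr rfl fun ξ _ => ?_
    rw [show (fun c : C => (χ : G → ℂ) (y ^ j * c)) =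
        fun c : C => (χ : G → ℂ) (((z ^ j : C) : G) * c) from funext fun c => by simp [hz],
      classInner_shift (Subgroup.pow_mem _ hzc j), hm, apply_central_pow ξ hzc, hr]
    ring
  set w : IrrCharacter G → IrrCharacter (C ⧸ N) → IrrCharacter C → ℤ := fun χ η ξ =>
    n ξ η * (m χ ξ : ℤ) with hw
  -- a contribution is the form of the block below at a combination of roots of unity
  have hform : ∀ (j : ℕ) (χ : IrrCharacter G), subContrib p 2 C b (y ^ j) χ χ =
      DefectOne.form p β (fun η => ∑ ξ ∈ bF, (w χ η ξ : ℂ) * r ξ ^ j) := by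
    intro j χ
    set v : IrrCharacter (C ⧸ N) → ℂ := fun η => ∑ ξ ∈ bF, (w χ η ξ : ℂ) * r ξ ^ j with hv
    set g : C ⧸ N → ℂ := fun q => ∑ η ∈ members β, v η * (η : C ⧸ N → ℂ) q with hg
    have hP : ∀ u : C, ¬ p ∣ orderOf u →
        blockPart b (fun c : C => (χ : G → ℂ) (y ^ j * c)) u = g (u : C ⧸ N) := by
      intro u hu
      rw [hpart, Finset.sum_congr rfl fun ξ hξ => by
        rw [hn ξ (Finset.mem_filter.1 hξ).2 u hu, Finset.mul_sum], Finset.sum_comm]
      simp only [hg, hv, hw, Finset.sum_mul, Int.cast_mul, Int.cast_natCast]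
      exact Finset.sum_congr rfl fun η _ => Finset.sum_congr rfl fun ξ _ => by ring
    have hfg : DefectOne.form p β v = (p : ℂ) * (Nat.card (C ⧸ N) : ℂ)⁻¹ *
        ∑ q ∈ Finset.univ.filter (fun q : C ⧸ N => ¬ p ∣ orderOf q), g q * conj (g q) := by
      rw [DefectOne.form]
      rw [Finset.sum_congr rfl fun ξ _ => Finset.sum_congr rfl fun η hη => by
        rw [contribInt_cast hM hβ ξ (mem_members.1 hη), contrib, Contribution.regSum, hdβ, pow_one,
          Finset.mul_sum, Finset.sum_mul]]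
      simp only [hg, map_sum, map_mul]
      simp only [Finset.sum_mul_sum]
      simp only [Finset.mul_sum]
      refine (Finset.sum_congr rfl fun ξ _ => Finset.sum_comm).trans (Finset.sum_comm.trans ?_)
      exact Finset.sum_congr rfl fun q _ => Finset.sum_congr rfl fun ξ _ =>
        Finset.sum_congr rfl fun η _ => by ring
    have hbij : ∑ u ∈ Finset.univ.filter (fun u : C => ¬ p ∣ orderOf u),
        g (u : C ⧸ N) * conj (g (u : C ⧸ N)) =
        ∑ q ∈ Finset.univ.filter (fun q : C ⧸ N => ¬ p ∣ orderOf q), g q * conj (g q) := by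
      refine Finset.sum_bij (fun x _ => (x : C ⧸ N)) (fun x hx => ?_) (fun x hx x' hx' h => ?_)
        (fun q hq => ?_) (fun x _ => rfl)
      · exact Finset.mem_filter.2
          ⟨Finset.mem_univ _, CentralQuot.regular_mk N (Finset.mem_filter.1 hx).2⟩
      · rw [← CentralQuot.lift_mk_regular N hNp hNc (Finset.mem_filter.1 hx).2, h,
          CentralQuot.lift_mk_regular N hNp hNc (Finset.mem_filter.1 hx').2]
      · exact ⟨CentralQuot.lift N p q, Finset.mem_filter.2 ⟨Finset.mem_univ _,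
          CentralQuot.regular_lift N q⟩, CentralQuot.mk_lift N (Finset.mem_filter.1 hq).2⟩
    rw [hfg, ← hbij, subContrib,
      Finset.sum_congr rfl fun u hu => by rw [hP u (Finset.mem_filter.1 hu).2]]
    rw [Subgroup.card_eq_card_quotient_mul_card_subgroup N, hNcard, Nat.cast_mul]
    have hp0 : (p : ℂ) ≠ 0 := Nat.cast_ne_zero.2 hp.out.ne_zero
    have hq0 : (Nat.card (C ⧸ N) : ℂ) ≠ 0 := Nat.cast_ne_zero.2 Nat.card_pos.ne'
    field_simp
  have hlow : ∀ χ ∈ BF, (blockRank p β : ℝ) * ((p : ℝ) ^ 0 * ((p : ℝ) - 1)) ≤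
      ∑ j ∈ (Finset.range (p ^ (0 + 1))).filter (fun j => ¬ p ∣ j),
        (DefectOne.form p β (fun η => ∑ ξ ∈ bF, (w χ η ξ : ℂ) * r ξ ^ j)).re := by
    intro χ hχ
    have hχ' := (Finset.mem_filter.1 hχ).2
    refine DefectOne.rank_mul_le_form hM hβ hdβ 0 bF r (fun t _ => hrq t) (w χ) ?_
    have h1 := hform 1 χ
    simp only [pow_one] at h1
    rw [← h1]
    have h2 := contribSum_ne_zero hM ⟨1, by rw [hy, pow_one]⟩ hC hind (hdb.trans hdB.symm) hχ'
      (hh χ hχ') (m χ) (hm χ) r (q := 0 + 1) hrq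
    convert h2 using 1
    have hp1 : ∀ u : C, blockPart b (fun c : C => (χ : G → ℂ) (y * c)) u =
        ∑ ξ ∈ bF, (m χ ξ : ℂ) * r ξ * (ξ : C → ℂ) u := fun u => by
      simpa only [pow_one] using hpart 1 χ u
    rw [subContrib]
    simp only [hp1, map_sum, map_mul, Complex.conj_natCast, Finset.sum_mul_sum]
    simp only [Finset.mul_sum]
    rw [Finset.sum_comm]
    refine Finset.sum_congr rfl fun ξ hξ => ?_
    rw [Finset.sum_comm]
    refine Finset.sum_congr rfl fun η hη => ?_
    rw [contribInt_cast hM hb ξ (Finset.mem_filter.1 hη).2, contrib, Contribution.regSum, hdb]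
    simp only [Finset.mul_sum, Finset.sum_mul]
    exact Finset.sum_congr rfl fun u _ => by ring
  have hsum := Finset.sum_le_sum hlow
  rw [Finset.sum_const, nsmul_eq_mul, Finset.sum_comm] at hsum
  set J := (Finset.range (p ^ (0 + 1))).filter (fun j => ¬ p ∣ j) with hJ
  have hrow : ∀ j ∈ J, ∑ χ ∈ BF,
      (DefectOne.form p β (fun η => ∑ ξ ∈ bF, (w χ η ξ : ℂ) * r ξ ^ j)).re =
      (p : ℝ) ^ 2 * (blockRank p b : ℝ) := by
    intro j hj
    have hjp := (Finset.mem_filter.1 hj).2
    have hcop : j.Coprime (orderOf y) := by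
      rw [hy]; exact (hp.out.coprime_iff_not_dvd.2 hjp).symm
    have hcent : C = Subgroup.centralizer ({y ^ j} : Set G) := by
      obtain ⟨i, hi⟩ := exists_pow_eq_self_of_coprime hcop
      rw [hC]
      ext g
      simp only [Subgroup.mem_centralizer_singleton_iff]
      constructor
      · intro h; exact (Commute.pow_right (show Commute g y from h) j).eq
      · intro h
        have h' := Commute.pow_right (show Commute g (y ^ j) from h) i
        rw [hi] at h'
        exact h'.eq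
    have h := sum_diag hM 2 (x := y ^ j)
      ⟨1, by rw [Nat.Coprime.orderOf_pow hcop.symm, hy, pow_one]⟩ hcent hind
    rw [← Complex.re_sum, Finset.sum_congr rfl fun χ _ => (hform j χ).symm, h,
      show (p : ℂ) ^ 2 * (blockRank p b : ℂ) = ((p ^ 2 * blockRank p b : ℕ) : ℂ) by push_cast; rfl,
      Complex.natCast_re]
    push_cast; rfl
  have hJc : J.card = p - 1 := by
    rw [← Nat.totient_prime hp.out, Nat.totient_eq_card_coprime, hJ, zero_add, pow_one]
    exact congrArg _ (Finset.filter_congr fun j _ => by rw [hp.out.coprime_iff_not_dvd])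
  rw [Finset.sum_congr rfl hrow, Finset.sum_const, nsmul_eq_mul, hJc,
    Nat.cast_sub hp.out.one_le, Nat.cast_one, pow_zero, one_mul] at hsum
  have hl1 : (1 : ℝ) ≤ blockRank p β := by
    have := CyclicDefectBound.one_le_blockRank hM hβ
    exact_mod_cast this
  have hl2 : (blockRank p b : ℝ) ≤ blockRank p β :=
    Nat.cast_le.2 (CentralQuot.blockRank_le_quot N hNp hNc hM hb)
  have hp1 : (0 : ℝ) < (p : ℝ) - 1 := by
    have : (2 : ℝ) ≤ p := by exact_mod_cast hp.out.two_le
    linarith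
  have h5 : (BF.card : ℝ) ≤ (p : ℝ) ^ 2 := by
    have h6 : (BF.card : ℝ) * blockRank p β * ((p : ℝ) - 1) ≤
        (p : ℝ) ^ 2 * blockRank p β * ((p : ℝ) - 1) := by
      nlinarith [hsum, mul_nonneg (mul_nonneg (sq_nonneg (p : ℝ)) hp1.le) (sub_nonneg.2 hl2)]
    have h7 := le_of_mul_le_mul_right h6 hp1
    exact le_of_mul_le_mul_right h7 (by linarith)
  rw [show Nat.card B = BF.card by
    rw [hBF, ← Fintype.card_subtype, ← Nat.card_eq_fintype_card]]
  exact_mod_cast h5

end CfsgLib.SubsectionTrace
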